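/-
p-minimal groups and the maximal overgroups of a Sylow p-subgroup of a normal simple subgroup (helper32).
-/
import Cfsg.Prelude.Def_LocalEven
import Cfsg.Agent.LieStruct.Basic

set_option autoImplicit false

namespace Cfsg.Agent.LieStruct

open scoped Pointwise

/-- `𝕄` is the set of maximal proper overgroups of `U`, none containing the intersection of the others. -/
structure MaxSys {G : Type*} [Group G] (U : Subgroup G) (𝕄 : Set (Subgroup G)) : Prop where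
  le : ∀ M ∈ 𝕄, U ≤ M
  ne_top : ∀ M ∈ 𝕄, M ≠ ⊤
  cover : ∀ Y : Subgroup G, U ≤ Y → Y ≠ ⊤ → ∃ M ∈ 𝕄, Y ≤ M
  indep : ∀ M ∈ 𝕄, ¬ sInf (𝕄 \ {M}) ≤ M

theorem MaxSys.map {G H : Type*} [Group G] [Group H] (e : G ≃* H) {U : Subgroup G}
    {𝕄 : Set (Subgroup G)} (h : MaxSys U 𝕄) : MaxSys (U.map e.toMonoidHom) (e.mapSubgroup '' 𝕄) := by
  constructor
  · rintro _ ⟨M, hM, rfl⟩
    exact Subgroup.map_mono (h.le M hM)
  · rintro _ ⟨M, hM, rfl⟩ e'
    exact h.ne_top M hM (e.mapSubgroup.injective (e'.trans (OrderIso.map_top e.mapSubgroup).symm))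
  · intro Y hU hY
    have h1 : e.mapSubgroup.symm Y ≠ ⊤ := fun e' => hY (by
      rw [← e.mapSubgroup.apply_symm_apply Y, e', OrderIso.map_top])
    obtain ⟨M, hM, hle⟩ := h.cover (e.mapSubgroup.symm Y) (e.mapSubgroup.le_symm_apply.2 hU) h1
    exact ⟨_, ⟨M, hM, rfl⟩, e.mapSubgroup.symm_apply_le.1 hle⟩
  · rintro _ ⟨M, hM, rfl⟩ hle
    refine h.indep M hM (e.mapSubgroup.le_iff_le.1 (le_trans ?_ hle))
    refine le_sInf ?_
    rintro _ ⟨⟨N, hN, rfl⟩, hne⟩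
    exact e.mapSubgroup.le_iff_le.2 (sInf_le ⟨hN, fun e' => hne (by
      rw [Set.mem_singleton_iff] at e' ⊢
      rw [e'])⟩)

variable {X : Type*} [Group X] [Finite X] {p : ℕ} [hp : Fact p.Prime] {K : Subgroup X} [K.Normal]
  [IsSimpleGroup ↥K]

/-- The three facts drawn from `p`-minimality. -/
theorem pmin_core (hX : Cfsg.IsPMinimal p X) (U : Sylow p ↥K) {𝕄 : Set (Subgroup ↥K)}
    (h𝕄 : MaxSys (U : Subgroup ↥K) 𝕄) (hne : (U : Subgroup ↥K) ≠ ⊤) (hbot : (U : Subgroup ↥K) ≠ ⊥) :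
    ∃ A : Subgroup (MulAut ↥K), IsPGroup p A ∧
      (∀ α ∈ A, (U : Subgroup ↥K).map α.toMonoidHom = U) ∧
      (∀ M ∈ 𝕄, ∀ M' ∈ 𝕄, ∃ α ∈ A, M.map α.toMonoidHom = M') ∧
      (K = ⊤ → ∀ M ∈ 𝕄, ∀ α ∈ A, M.map α.toMonoidHom = M) ∧
      (sInf 𝕄 ≤ Subgroup.normalizer ((U : Subgroup ↥K) : Set ↥K) →
        IsCoatom (Subgroup.normalizer (((U : Subgroup ↥K).map K.subtype : Subgroup X) : Set X))) := by
  set Up : Subgroup X := (U : Subgroup ↥K).map K.subtype with hUp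
  obtain ⟨S, hUS⟩ : ∃ S : Sylow p X, Up ≤ S := (U.2.map K.subtype).exists_le_sylow
  have hSK : (S : Subgroup X).subgroupOf K = U :=
    U.is_maximal' S.2.comap_subtype fun x hx => Subgroup.mem_subgroupOf.2 (hUS ⟨x, hx, rfl⟩)
  have hUeq : Up = (S : Subgroup X) ⊓ K := by
    rw [hUp, ← hSK, Subgroup.subgroupOf_map_subtype]
  set c : X →* MulAut ↥K := MulAut.conjNormal with hc
  have hcU : ∀ s ∈ (S : Subgroup X), ∀ x, x ∈ (U : Subgroup ↥K) → c s x ∈ (U : Subgroup ↥K) := by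
    intro s hs x hx
    rw [← hSK, Subgroup.mem_subgroupOf] at hx ⊢
    rw [hc, MulAut.conjNormal_apply]
    exact mul_mem (mul_mem hs hx) (inv_mem hs)
  set A : Subgroup (MulAut ↥K) := (S : Subgroup X).map c with hA
  have hAU : ∀ α ∈ A, (U : Subgroup ↥K).map α.toMonoidHom = U := by
    rintro _ ⟨s, hs, rfl⟩
    refine le_antisymm ?_ fun x hx => ⟨c s⁻¹ x, hcU _ (inv_mem hs) x hx, ?_⟩
    · rintro _ ⟨x, hx, rfl⟩
      exact hcU s hs x hx
    · show c s (c s⁻¹ x) = x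
      rw [← MulAut.mul_apply, ← map_mul, mul_inv_cancel, map_one, MulAut.one_apply]
  obtain ⟨hSn, M, ⟨hMc, hSM⟩, huniq⟩ := hX S
  -- the unique maximal subgroup meets `K` in the largest invariant proper overgroup
  set Y₀ : Subgroup ↥K := M.subgroupOf K with hY₀
  have hinv : ∀ Y : Subgroup ↥K, (U : Subgroup ↥K) ≤ Y → Y ≠ ⊤ →
      (∀ α ∈ A, Y.map α.toMonoidHom ≤ Y) → Y ≤ Y₀ := by
    intro Y hUY hY hYinv
    set Z : Subgroup X := Y.map K.subtype with hZ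
    have hSZ : (S : Subgroup X) ≤ Subgroup.normalizer (Z : Set X) := by
      intro s hs
      rw [Subgroup.mem_normalizer_iff]
      have h1 : ∀ s ∈ (S : Subgroup X), ∀ z ∈ Z, s * z * s⁻¹ ∈ Z := by
        rintro s hs _ ⟨y, hy, rfl⟩
        exact ⟨c s y, hYinv _ ⟨s, hs, rfl⟩ ⟨y, hy, rfl⟩, MulAut.conjNormal_apply s y⟩
      refine fun z => ⟨h1 s hs z, fun hz => ?_⟩
      have := h1 s⁻¹ (inv_mem hs) _ hz
      simpa [mul_assoc] using this
    have hmem : ∀ k : ↥K, (k : X) ∈ (S : Subgroup X) ⊔ Z → k ∈ Y := by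
      intro k hk
      have hk' : (k : X) ∈ (((S : Subgroup X) ⊔ Z : Subgroup X) : Set X) := hk
      rw [Subgroup.coe_mul_of_left_le_normalizer_right _ _ hSZ] at hk'
      obtain ⟨s, hs, _, ⟨y, hy, rfl⟩, e⟩ := hk'
      have e' : s * (y : X) = k := e
      have hsK : s ∈ K := by
        have : s = (k : X) * (y : X)⁻¹ := by rw [← e', mul_inv_cancel_right]
        rw [this]; exact mul_mem k.2 (inv_mem y.2)
      have h1 : (⟨s, hsK⟩ : ↥K) ∈ Y := hUY (hSK ▸ Subgroup.mem_subgroupOf.2 hs)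
      have : k = ⟨s, hsK⟩ * y := Subtype.ext e'.symm
      rw [this]
      exact mul_mem h1 hy
    have hne' : (S : Subgroup X) ⊔ Z ≠ ⊤ := fun e =>
      hY (eq_top_iff.2 fun k _ => hmem k (e ▸ Subgroup.mem_top _))
    obtain ⟨M', hM', hle⟩ := (eq_top_or_exists_le_coatom ((S : Subgroup X) ⊔ Z)).resolve_left hne'
    obtain rfl := huniq M' ⟨hM', le_sup_left.trans hle⟩
    exact fun y hy => Subgroup.mem_subgroupOf.2 (hle (Subgroup.mem_sup_right ⟨y, hy, rfl⟩))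
  have hYinv : ∀ α ∈ A, Y₀.map α.toMonoidHom ≤ Y₀ := by
    rintro _ ⟨s, hs, rfl⟩ _ ⟨y, hy, rfl⟩
    rw [hY₀, Subgroup.mem_subgroupOf]
    show ((c s y : ↥K) : X) ∈ M
    rw [hc, MulAut.conjNormal_apply]
    exact mul_mem (mul_mem (hSM hs) hy) (inv_mem (hSM hs))
  -- Frattini
  have hfr : Subgroup.normalizer (Up : Set X) ⊔ K = ⊤ := Sylow.normalizer_sup_eq_top U
  have hSN : (S : Subgroup X) ≤ Subgroup.normalizer (Up : Set X) := by
    intro s hs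
    rw [Subgroup.mem_normalizer_iff]
    refine fun x => ?_
    simp only [hUeq, Subgroup.mem_inf]
    constructor
    · exact fun h => ⟨mul_mem (mul_mem hs h.1) (inv_mem hs), ‹K.Normal›.conj_mem _ h.2 s⟩
    · intro h
      have h1 := mul_mem (mul_mem (inv_mem hs) h.1) hs
      have h2 := ‹K.Normal›.conj_mem _ h.2 s⁻¹
      exact ⟨by simpa [mul_assoc] using h1, by simpa [mul_assoc] using h2⟩
  have hNtop : Subgroup.normalizer (Up : Set X) ≠ ⊤ := by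
    intro e
    have hn : (U : Subgroup ↥K).Normal := ⟨fun x hx k => by
      have hk : (k : X) ∈ Subgroup.normalizer (Up : Set X) := e ▸ Subgroup.mem_top _
      obtain ⟨y, hy, ey⟩ := (Subgroup.mem_normalizer_iff.1 hk (x : X)).1 ⟨x, hx, rfl⟩
      have : y = k * x * k⁻¹ := Subtype.ext ey
      exact this ▸ hy⟩
    exact (hn.eq_bot_or_eq_top).elim hbot hne
  obtain ⟨M', hM', hNM'⟩ :=
    (eq_top_or_exists_le_coatom (Subgroup.normalizer (Up : Set X))).resolve_left hNtop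
  obtain rfl := huniq M' ⟨hM', hSN.trans hNM'⟩
  have hY₀top : Y₀ ≠ ⊤ := by
    intro e
    refine hM'.1 (top_le_iff.1 (hfr ▸ sup_le hNM' fun k hk => ?_))
    exact Subgroup.mem_subgroupOf.1 (e ▸ Subgroup.mem_top (⟨k, hk⟩ : ↥K))
  -- automorphisms permute the maximal overgroups
  have huni : ∀ M₁ ∈ 𝕄, ∀ M₂ ∈ 𝕄, M₁ ≤ M₂ → M₁ = M₂ := fun M₁ h1 M₂ h2 hle => by
    by_contra hne'
    exact h𝕄.indep M₂ h2 ((sInf_le (a := M₁) (s := 𝕄 \ {M₂}) ⟨h1, hne'⟩).trans hle)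
  have hperm : ∀ α ∈ A, ∀ M₁ ∈ 𝕄, M₁.map α.toMonoidHom ∈ 𝕄 := by
    intro α hα M₁ hM₁
    have hα' : α⁻¹ ∈ A := inv_mem hα
    have hU1 : (U : Subgroup ↥K) ≤ M₁.map α.toMonoidHom :=
      (hAU α hα).ge.trans (Subgroup.map_mono (h𝕄.le _ hM₁))
    have ht : M₁.map α.toMonoidHom ≠ ⊤ := fun e => h𝕄.ne_top _ hM₁ (by
      refine Subgroup.map_injective (f := α.toMonoidHom) α.injective ?_
      rw [e, Subgroup.map_top_of_surjective _ α.surjective])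
    obtain ⟨M₂, hM₂, hle⟩ := h𝕄.cover _ hU1 ht
    have hU2 : (U : Subgroup ↥K) ≤ M₂.map (α⁻¹ : MulAut ↥K).toMonoidHom :=
      (hAU _ hα').ge.trans (Subgroup.map_mono (h𝕄.le _ hM₂))
    have hinv' : ∀ N : Subgroup ↥K,
        (N.map α.toMonoidHom).map (α⁻¹ : MulAut ↥K).toMonoidHom = N := by
      intro N
      rw [Subgroup.map_map]
      conv_rhs => rw [← Subgroup.map_id N]
      congr 1
      ext x
      simp
    have ht2 : M₂.map (α⁻¹ : MulAut ↥K).toMonoidHom ≠ ⊤ := fun e => h𝕄.ne_top _ hM₂ (by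
      refine Subgroup.map_injective (f := (α⁻¹ : MulAut ↥K).toMonoidHom) (α⁻¹).injective ?_
      rw [e, Subgroup.map_top_of_surjective _ (α⁻¹).surjective])
    obtain ⟨M₃, hM₃, hle'⟩ := h𝕄.cover _ hU2 ht2
    have h13 : M₁ ≤ M₂.map (α⁻¹ : MulAut ↥K).toMonoidHom := (hinv' M₁).ge.trans (Subgroup.map_mono hle)
    obtain rfl := huni _ hM₁ _ hM₃ (h13.trans hle')
    have e := le_antisymm h13 hle'
    have : M₁.map α.toMonoidHom = M₂ := by
      refine le_antisymm hle fun x hx => ⟨α⁻¹ x, e ▸ ⟨x, hx, rfl⟩, ?_⟩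
      simp
    exact this ▸ hM₂
  obtain ⟨M₀, hM₀, hY₀M⟩ := h𝕄.cover Y₀
    (fun x hx => Subgroup.mem_subgroupOf.2 (hSM (hUS ⟨x, hx, rfl⟩))) hY₀top
  have htrans : ∀ M₁ ∈ 𝕄, ∃ α ∈ A, M₁.map α.toMonoidHom = M₀ := by
    intro M₁ hM₁
    by_contra hno
    push Not at hno
    set O : Set (Subgroup ↥K) := {N | ∃ α ∈ A, M₁.map α.toMonoidHom = N} with hO
    have hOsub : O ⊆ 𝕄 \ {M₀} := by
      rintro _ ⟨α, hα, rfl⟩
      exact ⟨hperm α hα _ hM₁, hno α hα⟩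
    refine h𝕄.indep M₀ hM₀ (((sInf_le_sInf hOsub).trans ?_).trans hY₀M)
    refine hinv _ (le_sInf fun N hN => h𝕄.le N (hOsub hN).1) (fun e => ?_) fun α hα => le_sInf ?_
    · have h1 : sInf O ≤ M₁ := sInf_le ⟨1, one_mem _, Subgroup.map_id M₁⟩
      exact h𝕄.ne_top _ hM₁ (top_le_iff.1 (e ▸ h1))
    · rintro _ ⟨β, hβ, rfl⟩
      have h1 : sInf O ≤ M₁.map ((α⁻¹ * β : MulAut ↥K)).toMonoidHom :=
        sInf_le ⟨_, mul_mem (inv_mem hα) hβ, rfl⟩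
      refine (Subgroup.map_mono h1).trans (le_of_eq ?_)
      rw [Subgroup.map_map]
      congr 1
      ext x
      simp
  refine ⟨A, S.2.map c, hAU, fun M₁ h1 M₂ h2 => ?_, ?_, fun hinf => ?_⟩
  · obtain ⟨α, hα, e1⟩ := htrans M₁ h1
    obtain ⟨β, hβ, e2⟩ := htrans M₂ h2
    refine ⟨β⁻¹ * α, mul_mem (inv_mem hβ) hα, ?_⟩
    rw [← (Subgroup.map_injective (f := β.toMonoidHom) β.injective).eq_iff, e2, ← e1, Subgroup.map_map]
    congr 1
    ext x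
    simp
  · rintro hK M₁ h1 _ ⟨s, hs, rfl⟩
    have hsK : s ∈ K := hK ▸ Subgroup.mem_top s
    have hsU : (⟨s, hsK⟩ : ↥K) ∈ M₁ := h𝕄.le _ h1 (hSK ▸ Subgroup.mem_subgroupOf.2 hs)
    refine le_antisymm ?_ fun x hx => ?_
    · rintro _ ⟨x, hx, rfl⟩
      have e : c s x = ⟨s, hsK⟩ * x * ⟨s, hsK⟩⁻¹ := Subtype.ext (MulAut.conjNormal_apply s x)
      show c s x ∈ M₁
      rw [e]
      exact mul_mem (mul_mem hsU hx) (inv_mem hsU)
    · refine ⟨⟨s, hsK⟩⁻¹ * x * ⟨s, hsK⟩, mul_mem (mul_mem (inv_mem hsU) hx) hsU, ?_⟩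
      refine Subtype.ext ?_
      show ((c s _ : ↥K) : X) = _
      rw [hc, MulAut.conjNormal_apply]
      simp [mul_assoc]
  · have hY : Y₀ ≤ sInf 𝕄 := by
      refine le_sInf fun M₁ hM₁ => ?_
      obtain ⟨α, hα, e⟩ := htrans M₁ hM₁
      intro x hx
      obtain ⟨y, hy, e'⟩ : α x ∈ M₁.map α.toMonoidHom :=
        e ▸ hY₀M (hYinv α hα ⟨x, hx, rfl⟩)
      rwa [← α.injective e']
    suffices hMN : M' ≤ Subgroup.normalizer (Up : Set X) by
      rwa [le_antisymm hNM' hMN]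
    intro m hm
    obtain ⟨n, hn, k, hk, rfl⟩ : m ∈ (Subgroup.normalizer (Up : Set X) : Set X) * (K : Set X) := by
      rw [← Subgroup.mul_normal, hfr]; trivial
    refine mul_mem hn ?_
    have hkM : k ∈ M' := by simpa using mul_mem (inv_mem (hNM' hn)) hm
    have h2 := hinf (hY (Subgroup.mem_subgroupOf.2 hkM : (⟨k, hk⟩ : ↥K) ∈ Y₀))
    rw [Subgroup.mem_normalizer_iff] at h2 ⊢
    intro x
    constructor
    · rintro ⟨y, hy, rfl⟩
      exact ⟨_, (h2 y).1 hy, rfl⟩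
    · rintro ⟨y, hy, e⟩
      refine ⟨⟨k, hk⟩⁻¹ * y * ⟨k, hk⟩, (h2 _).2 ?_, ?_⟩
      · rwa [show (⟨k, hk⟩ : ↥K) * (⟨k, hk⟩⁻¹ * y * ⟨k, hk⟩) * ⟨k, hk⟩⁻¹ = y by group]
      show k⁻¹ * (y : X) * k = x
      rw [show (y : X) = k * x * k⁻¹ from e]
      group

omit [Finite X] hp [K.Normal] [IsSimpleGroup ↥K] in
theorem MaxSys.eq_of_le {G : Type*} [Group G] {U : Subgroup G} {𝕄 : Set (Subgroup G)} (h : MaxSys U 𝕄)
    {M N : Subgroup G} (hM : M ∈ 𝕄) (hN : N ∈ 𝕄) (hle : M ≤ N) : M = N := by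
  by_contra hne
  exact h.indep N hN ((sInf_le (a := M) (s := 𝕄 \ {N}) ⟨hM, hne⟩).trans hle)

/-- Automorphisms fixing `U` permute the maximal overgroups. -/
theorem MaxSys.map_mem {G : Type*} [Group G] {U : Subgroup G} {𝕄 : Set (Subgroup G)} (h : MaxSys U 𝕄)
    {α : G ≃* G} (hα : U.map α.toMonoidHom = U) {M : Subgroup G} (hM : M ∈ 𝕄) :
    M.map α.toMonoidHom ∈ 𝕄 := by
  have h1 : α.mapSubgroup M ∈ α.mapSubgroup '' 𝕄 := ⟨M, hM, rfl⟩
  have h' : MaxSys U (α.mapSubgroup '' 𝕄) := hα ▸ h.map α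
  obtain ⟨N, hN, hle⟩ := h.cover _ (h'.le _ h1) (h'.ne_top _ h1)
  obtain ⟨N', hN', hle'⟩ := h'.cover N (h.le _ hN) (h.ne_top _ hN)
  have e := h'.eq_of_le h1 hN' (hle.trans hle')
  exact (le_antisymm hle (hle'.trans e.ge) : M.map α.toMonoidHom = N) ▸ hN

/-- `G` has a system of maximal overgroups which no `p`-group of automorphisms permutes transitively. -/
def PMinExcluded (p : ℕ) (G : Type*) [Group G] : Prop :=
  ∀ U : Sylow p G, ∃ 𝕄, MaxSys (U : Subgroup G) 𝕄 ∧ ∀ A : Subgroup (MulAut G), IsPGroup p A →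
    (∀ α ∈ A, (U : Subgroup G).map α.toMonoidHom = U) →
      ∃ M ∈ 𝕄, ∃ M' ∈ 𝕄, ∀ α ∈ A, M.map α.toMonoidHom ≠ M'

/-- The maximal overgroups of a Sylow subgroup meet in its normaliser. -/
def PMinSys (p : ℕ) (G : Type*) [Group G] : Prop :=
  ∀ U : Sylow p G, ∃ 𝕄, MaxSys (U : Subgroup G) 𝕄 ∧
    sInf 𝕄 ≤ Subgroup.normalizer ((U : Subgroup G) : Set G)

/-- As `PMinSys`, with at least two maximal overgroups. -/
def PMinSwap (p : ℕ) (G : Type*) [Group G] : Prop :=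
  ∀ U : Sylow p G, ∃ 𝕄, MaxSys (U : Subgroup G) 𝕄 ∧
    sInf 𝕄 ≤ Subgroup.normalizer ((U : Subgroup G) : Set G) ∧ ∃ M ∈ 𝕄, ∃ M' ∈ 𝕄, M ≠ M'

section transport

variable {G H : Type*} [Group G] [Group H] {p : ℕ}

theorem map_sInf_le_normalizer (e : G ≃* H) {U : Subgroup G} {𝕄 : Set (Subgroup G)}
    (h : sInf 𝕄 ≤ Subgroup.normalizer (U : Set G)) :
    sInf (e.mapSubgroup '' 𝕄) ≤ Subgroup.normalizer ((U.map e.toMonoidHom : Subgroup H) : Set H) := by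
  intro y hy
  have hx : e.symm y ∈ Subgroup.normalizer (U : Set G) := by
    refine h (Subgroup.mem_sInf.2 fun M hM => ?_)
    obtain ⟨x, hx, e'⟩ := Subgroup.mem_sInf.1 hy _ ⟨M, hM, rfl⟩
    rw [← e']; show e.symm (e x) ∈ M; rwa [e.symm_apply_apply]
  rw [Subgroup.mem_normalizer_iff] at hx ⊢
  intro z
  obtain ⟨x, rfl⟩ := e.surjective z
  rw [Subgroup.mem_map_equiv, Subgroup.mem_map_equiv, map_mul, map_mul, map_inv, e.symm_apply_apply]
  exact hx x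

/-- Transport of the three properties from one Sylow subgroup to all, along an isomorphism. -/
theorem exists_equiv_sylow [Finite G] [Fact p.Prime] (e : G ≃* H) (U₀ : Sylow p G) (U : Sylow p H) :
    ∃ f : G ≃* H, (U₀ : Subgroup G).map f.toMonoidHom = U := by
  haveI : Finite H := Finite.of_equiv G e.toEquiv
  obtain ⟨V, hV⟩ : ∃ V : Sylow p G, (U : Subgroup H).comap e.toMonoidHom = V :=
    ⟨U.comapOfKerIsPGroup e.toMonoidHom
      (by rw [(MonoidHom.ker_eq_bot_iff _).2 e.injective]; exact IsPGroup.of_bot)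
      (by rw [MonoidHom.range_eq_top_of_surjective _ e.surjective]; exact le_top), rfl⟩
  obtain ⟨g, hg⟩ := MulAction.exists_smul_eq G U₀ V
  refine ⟨(MulAut.conj g).trans e, ?_⟩
  have h1 : (U₀ : Subgroup G).map (MulAut.conj g).toMonoidHom = (V : Subgroup G) := by
    rw [← hg]; rfl
  rw [show ((MulAut.conj g).trans e).toMonoidHom = e.toMonoidHom.comp (MulAut.conj g).toMonoidHom from rfl,
    ← Subgroup.map_map, h1, ← hV, Subgroup.map_comap_eq_self_of_surjective e.surjective]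

variable [Finite G] [Fact p.Prime] (e : G ≃* H) (U₀ : Sylow p G) {𝕄 : Set (Subgroup G)}
  (h𝕄 : MaxSys (U₀ : Subgroup G) 𝕄)
include e h𝕄

theorem pminSys_of (hinf : sInf 𝕄 ≤ Subgroup.normalizer ((U₀ : Subgroup G) : Set G)) : PMinSys p H := by
  intro U
  obtain ⟨f, hf⟩ := exists_equiv_sylow e U₀ U
  exact ⟨_, hf ▸ h𝕄.map f, hf ▸ map_sInf_le_normalizer f hinf⟩

theorem pminSwap_of (hinf : sInf 𝕄 ≤ Subgroup.normalizer ((U₀ : Subgroup G) : Set G))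
    {M M' : Subgroup G} (hM : M ∈ 𝕄) (hM' : M' ∈ 𝕄) (hne : M ≠ M') : PMinSwap p H := by
  intro U
  obtain ⟨f, hf⟩ := exists_equiv_sylow e U₀ U
  exact ⟨f.mapSubgroup '' 𝕄, hf ▸ h𝕄.map f, hf ▸ map_sInf_le_normalizer f hinf, f.mapSubgroup M,
    ⟨M, hM, rfl⟩, f.mapSubgroup M', ⟨M', hM', rfl⟩, fun e' => hne (f.mapSubgroup.injective e')⟩

theorem pminExcluded_of (hA : ∀ A : Subgroup (MulAut G), IsPGroup p A →
    (∀ α ∈ A, (U₀ : Subgroup G).map α.toMonoidHom = U₀) →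
      ∃ M ∈ 𝕄, ∃ M' ∈ 𝕄, ∀ α ∈ A, M.map α.toMonoidHom ≠ M') : PMinExcluded p H := by
  intro U
  obtain ⟨f, hf⟩ := exists_equiv_sylow e U₀ U
  refine ⟨_, hf ▸ h𝕄.map f, fun A hAp hAU => ?_⟩
  let ψ : MulAut H ≃* MulAut G := MulAut.congr f.symm
  have hψ : ∀ (β : MulAut H) (x : G), f (ψ β x) = β (f x) := fun β x => by
    show f (f.symm (β (f x))) = β (f x)
    rw [f.apply_symm_apply]
  have hcomm : ∀ (β : MulAut H) (M : Subgroup G),
      (M.map (ψ β).toMonoidHom).map f.toMonoidHom = (M.map f.toMonoidHom).map β.toMonoidHom := by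
    intro β M
    rw [Subgroup.map_map, Subgroup.map_map]
    congr 1
    exact MonoidHom.ext fun x => hψ β x
  obtain ⟨M, hM, M', hM', hne⟩ := hA (A.map ψ.toMonoidHom) (hAp.map ψ.toMonoidHom) (by
    rintro _ ⟨β, hβ, rfl⟩
    refine Subgroup.map_injective (f := f.toMonoidHom) f.injective ?_
    show ((U₀ : Subgroup G).map (ψ β).toMonoidHom).map f.toMonoidHom = _
    rw [hcomm, hf]
    exact hAU β hβ)
  refine ⟨_, ⟨M, hM, rfl⟩, _, ⟨M', hM', rfl⟩, fun β hβ e' => hne (ψ β) ⟨β, hβ, rfl⟩ ?_⟩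
  refine Subgroup.map_injective (f := f.toMonoidHom) f.injective ?_
  rw [hcomm]
  exact e'

end transport

/-- Conclusions for a `p`-minimal group. -/
theorem pmin_coatom (hX : Cfsg.IsPMinimal p X) (U : Sylow p ↥K) (hne : (U : Subgroup ↥K) ≠ ⊤)
    (hbot : (U : Subgroup ↥K) ≠ ⊥) (h : PMinSys p ↥K) :
    IsCoatom (Subgroup.normalizer (((U : Subgroup ↥K).map K.subtype : Subgroup X) : Set X)) := by
  obtain ⟨𝕄, h𝕄, hinf⟩ := h U
  obtain ⟨A, -, -, -, -, h5⟩ := pmin_core hX U h𝕄 hne hbot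
  exact h5 hinf

theorem pmin_swap (hX : Cfsg.IsPMinimal p X) (U : Sylow p ↥K) (hne : (U : Subgroup ↥K) ≠ ⊤)
    (hbot : (U : Subgroup ↥K) ≠ ⊥) (h : PMinSwap p ↥K) :
    IsCoatom (Subgroup.normalizer (((U : Subgroup ↥K).map K.subtype : Subgroup X) : Set X)) ∧
      K ≠ ⊤ := by
  obtain ⟨𝕄, h𝕄, hinf, M, hM, M', hM', hMne⟩ := h U
  obtain ⟨A, -, -, h3, h4, h5⟩ := pmin_core hX U h𝕄 hne hbot
  refine ⟨h5 hinf, fun e => hMne ?_⟩
  obtain ⟨α, hα, e'⟩ := h3 M hM M' hM'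
  rw [← e', h4 e M hM α hα]

theorem pmin_excluded (hX : Cfsg.IsPMinimal p X) (U : Sylow p ↥K) (hne : (U : Subgroup ↥K) ≠ ⊤)
    (hbot : (U : Subgroup ↥K) ≠ ⊥) (h : PMinExcluded p ↥K) : False := by
  obtain ⟨𝕄, h𝕄, h1⟩ := h U
  obtain ⟨A, hA, hAU, h3, -, -⟩ := pmin_core hX U h𝕄 hne hbot
  obtain ⟨M, hM, M', hM', hne'⟩ := h1 A hA hAU
  obtain ⟨α, hα, e'⟩ := h3 M hM M' hM'
  exact hne' α hα e'

end Cfsg.Agent.LieStruct
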