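/-
Split (B,N)-pairs: the maximal overgroups of `U` and what automorphisms do to them (helper32).
-/
import Cfsg.Agent.LieStruct.Central
import Cfsg.Agent.LieStruct.InnerSub
import Cfsg.Agent.LieStruct.PMin

set_option autoImplicit false
set_option linter.unusedSectionVars false

namespace Cfsg.Agent.LieStruct

open Cfsg.Agent.BN Cfsg.Agent.Steinberg
open scoped Pointwise

/-- The maximal parabolic subgroups containing `B`. -/
def maxPar {G : Type*} [Group G] (P : Cfsg.BNPair G) : Set (Subgroup G) :=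
  (fun s => P.parabolic (P.S \ {s})) '' P.S

section lattice

variable {G : Type*} [Group G] {P : Cfsg.BNPair G}

theorem parabolic_S : P.parabolic P.S = ⊤ := by
  rw [eq_top_iff, ← P.sup_eq_top]
  exact sup_le le_sup_left (P.closure_sup ▸ sup_le le_sup_right (inf_le_left.trans le_sup_left))

theorem notMem_maxPar {s : G} (hs : s ∈ P.S) : s ∉ P.parabolic (P.S \ {s}) := by
  rw [parabolic_inter_S P Set.sdiff_subset hs]
  exact fun h => h.2 rfl

theorem mem_maxPar {s t : G} (ht : t ∈ P.S) (hne : t ≠ s) : t ∈ P.parabolic (P.S \ {s}) :=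
  mem_parabolic_of_mem P ⟨ht, hne⟩

theorem maxPar_inj {s t : G} (hs : s ∈ P.S)
    (e : P.parabolic (P.S \ {s}) = P.parabolic (P.S \ {t})) : s = t := by
  by_contra hne
  exact notMem_maxPar hs (e ▸ mem_maxPar hs hne)

theorem sInf_maxPar : sInf (maxPar P) = P.B := by
  have hB : P.B ≤ sInf (maxPar P) := le_sInf (by
    rintro _ ⟨s, -, rfl⟩
    exact B_le_parabolic P _)
  refine le_antisymm ?_ hB
  rw [eq_parabolic P _ hB]
  refine sup_le le_rfl ((Subgroup.closure_le _).2 ?_)
  rintro s ⟨hs, hs'⟩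
  exact absurd (Subgroup.mem_sInf.1 hs' _ ⟨s, hs, rfl⟩) (notMem_maxPar hs)

/-- The panel of `s` is the intersection of the maximal parabolics other than its own. -/
theorem sInf_diff_maxPar {s : G} (hs : s ∈ P.S) :
    sInf (maxPar P \ {P.parabolic (P.S \ {s})}) = P.parabolic {s} := by
  have hB : P.B ≤ sInf (maxPar P \ {P.parabolic (P.S \ {s})}) := le_sInf (by
    rintro _ ⟨⟨t, -, rfl⟩, -⟩
    exact B_le_parabolic P _)
  rw [eq_parabolic P _ hB]
  congr 1
  ext t
  constructor
  · rintro ⟨ht, ht'⟩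
    by_contra hne
    refine notMem_maxPar ht (Subgroup.mem_sInf.1 ht' _ ⟨⟨t, ht, rfl⟩, ?_⟩)
    exact fun e => hne (maxPar_inj ht e)
  · rintro rfl
    refine ⟨hs, Subgroup.mem_sInf.2 ?_⟩
    rintro _ ⟨⟨u, hu, rfl⟩, hne⟩
    exact mem_maxPar hs fun e => hne (by rw [e]; rfl)

end lattice

section split

variable {G : Type*} [Group G] [Fintype G] [IsSimpleGroup G] {P : Cfsg.BNPair G} {p : ℕ}
  [hp : Fact p.Prime] {U : Subgroup G} (h : Split P p U)
include h

/-- A proper overgroup of `U` lies in a proper parabolic subgroup. -/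
theorem exists_parabolic (hU : U ≠ ⊥) {M : Subgroup G} (hUM : U ≤ M) (hM : M ≠ ⊤) :
    ∃ J ⊆ P.S, J ≠ P.S ∧ M ≤ P.parabolic J := by
  let X : Set G := {g | ∃ m ∈ M, m⁻¹ * g ∈ P.B}
  have hXB : ∀ g ∈ X, ∀ b ∈ P.B, g * b ∈ X := fun g ⟨m, hm, hg⟩ b hb =>
    ⟨m, hm, by rw [← mul_assoc]; exact mul_mem hg hb⟩
  have hXM : ∀ g ∈ X, ∀ m ∈ M, m * g ∈ X := fun g ⟨m', hm', hg⟩ m hm =>
    ⟨m * m', mul_mem hm hm', by simpa [mul_assoc] using hg⟩
  have htor : ∀ n ∈ P.N, ∀ t ∈ P.B ⊓ P.N, n⁻¹ * t * n ∈ P.B := fun n hn t ht => by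
    simpa using P.conj_mem n⁻¹ (inv_mem hn) t ht
  have hBn : ∀ n ∈ P.N, n ∈ X → ∀ b ∈ P.B, b * n ∈ X := by
    intro n hn hnX b hb
    obtain ⟨u, hu, t, ht, rfl⟩ := h.decomp b hb
    have := hXM _ (hXB n hnX _ (htor n hn t ht)) u (hUM hu)
    simpa [mul_assoc] using this
  have hXs : ∀ g ∈ X, ∀ s ∈ P.S, s ∈ X → g * s ∈ X := by
    rintro g ⟨m, hm, hg⟩ s hs hsX
    have := hXM _ (hBn s (S_mem_N P hs) hsX _ hg) m hm
    simpa [mul_assoc] using this
  have hcX : ∀ n ∈ P.N, ∀ g ∈ cell P n, g ∈ X → n ∈ X := by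
    intro n hn g hg hgX
    obtain ⟨a, ha, b, hb, rfl⟩ := (mem_cell P).1 hg
    obtain ⟨u, hu, t, ht, rfl⟩ := h.decomp a ha
    have h1 := hXM _ (hXB _ hgX _ (inv_mem hb)) u⁻¹ (inv_mem (hUM hu))
    have h2 := hXB _ h1 _ (inv_mem (htor n hn t ht))
    simpa [mul_assoc] using h2
  have hinv : ∀ n ∈ P.N, n ∈ X → n⁻¹ ∈ X := by
    rintro n hn ⟨m, hm, hg⟩
    refine hcX _ (inv_mem hn) m⁻¹ ?_ ⟨m⁻¹, inv_mem hm, by simp⟩
    exact (mem_cell P).2 ⟨m⁻¹ * n, hg, 1, one_mem _, by group⟩
  set J : Set G := {s | s ∈ P.S ∧ s ∈ X}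
  have hJ : J ⊆ P.S := fun s hs => hs.1
  have hfirst : ∀ n ∈ P.N, n ∈ X → ∀ s ∈ P.S, len P (s * n) < len P n → s ∈ J := by
    rintro n hn ⟨m, hm, hg⟩ s hs hlt
    refine ⟨hs, ?_⟩
    obtain ⟨b, hb, hbn⟩ := exists_mul_mem_cell_of_len_lt P hs hn hlt
    obtain ⟨c, hc, d, hd, e⟩ := (mem_cell P).1 hbn
    obtain ⟨u, hu, t, ht, rfl⟩ := h.decomp d hd
    have hnu : n * u * n⁻¹ ∈ M := by
      have e1 : n * u * n⁻¹ = m * ((m⁻¹ * n) * u * (m⁻¹ * n)⁻¹) * m⁻¹ := by group
      rw [e1]
      exact mul_mem (mul_mem hm (hUM (h.conj _ hg u hu))) (inv_mem hm)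
    have h1 : c⁻¹ * s ∈ X := by
      refine ⟨n * u * n⁻¹, hnu, ?_⟩
      have hs' : s = c * (n * (u * t)) * n⁻¹ * b⁻¹ := by
        calc s = (s * b * n) * n⁻¹ * b⁻¹ := by group
          _ = _ := by rw [e]; group
      have e2 : (n * u * n⁻¹)⁻¹ * (c⁻¹ * s) = (n * t * n⁻¹) * b⁻¹ := by
        rw [hs']; group
      rw [e2]
      exact mul_mem (P.conj_mem n hn t ht) (inv_mem hb)
    exact hcX s (S_mem_N P hs) (c⁻¹ * s)
      (mul_mem_cell_left P (inv_mem hc) (self_mem_cell P s)) h1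
  have hJP : ∀ k : ℕ, ∀ n ∈ P.N, len P n ≤ k → n ∈ X → n ∈ P.parabolic J := by
    intro k
    induction k with
    | zero =>
      intro n hn hk _
      exact B_le_parabolic P J ((len_eq_zero P hn).1 (Nat.le_zero.1 hk))
    | succ k ih =>
      intro n hn hk hnX
      rcases Nat.eq_zero_or_pos (len P n) with h0 | h0
      · exact B_le_parabolic P J ((len_eq_zero P hn).1 h0)
      obtain ⟨s, hs, L, hL, hl, he⟩ := exists_first P hn h0
      have hlt : len P (s * n) < len P n := by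
        have h1 : Eqv P (s * n) L := by
          exact eqv_trans P (eqv_mul_left P s (eqv_symm P he)) (eqv_S_mul_S_mul P hs hL)
        rw [len_congr P h1]; omega
      have hsJ := hfirst n hn hnX s hs hlt
      have hsN := P.N.mul_mem (S_mem_N P hs) hn
      have h2 : s * n ∈ X := by
        have h3 := hXs _ (hinv n hn hnX) s hs hsJ.2
        have h4 := hinv _ (P.N.mul_mem (inv_mem hn) (S_mem_N P hs)) h3
        have h5 : s * n = (s * s) * (n⁻¹ * s)⁻¹ := by group
        rw [h5]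
        exact hBn _ (P.N.inv_mem (P.N.mul_mem (inv_mem hn) (S_mem_N P hs))) h4 _ (P.sq_mem s hs)
      have h6 := ih (s * n) hsN (by omega) h2
      have : n = s⁻¹ * (s * n) := by group
      rw [this]
      exact mul_mem (inv_mem (mem_parabolic_of_mem P hsJ)) h6
  have hMJ : M ≤ P.parabolic J := by
    intro m hm
    obtain ⟨n, hn, hmn⟩ := exists_cell P m
    exact cell_subset_parabolic P (hJP _ n hn le_rfl (hcX n hn m hmn ⟨m, hm, by simp⟩)) hmn
  by_cases hJS : J = P.S
  · have htop : P.parabolic J = ⊤ := by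
      rw [eq_top_iff, ← P.sup_eq_top, hJS]
      exact sup_le le_sup_left (P.closure_sup ▸ sup_le le_sup_right (inf_le_left.trans le_sup_left))
    have hall : ∀ y : G, ∀ x ∈ X, x * y ∈ X := by
      intro y
      have hy : y ∈ Submonoid.closure ((P.B : Set G) ∪ J) := by
        have h1 : Subgroup.closure ((P.B : Set G) ∪ J) = ⊤ := by
          rw [Subgroup.closure_union, Subgroup.closure_eq]; exact htop
        have h2 := Subgroup.closure_toSubmonoid_of_finite (s := (P.B : Set G) ∪ J)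
        rw [h1] at h2
        rw [← h2]; trivial
      induction hy using Submonoid.closure_induction with
      | mem y hy =>
        rcases hy with hy | hy
        · exact fun x hx => hXB x hx y hy
        · exact fun x hx => hXs x hx y hy.1 hy.2
      | one => simp
      | mul y z _ _ ihy ihz =>
        intro x hx
        rw [← mul_assoc]
        exact ihz _ (ihy x hx)
    exfalso
    refine hM (top_le_iff.1 ?_)
    have hnc : Subgroup.normalClosure (U : Set G) = ⊤ :=
      (Subgroup.Normal.eq_bot_or_eq_top inferInstance).resolve_left fun e =>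
        hU (le_bot_iff.1 (e ▸ Subgroup.subset_normalClosure))
    rw [← hnc, Subgroup.normalClosure, Subgroup.closure_le]
    intro x hx
    obtain ⟨u, hu, hc⟩ := Group.mem_conjugatesOfSet_iff.1 hx
    obtain ⟨g, rfl⟩ := isConj_iff.1 hc
    obtain ⟨m, hm, hg⟩ : g ∈ X := by
      simpa using hall g 1 ⟨1, one_mem _, by simp⟩
    have e1 : g * u * g⁻¹ = m * ((m⁻¹ * g) * u * (m⁻¹ * g)⁻¹) * m⁻¹ := by group
    rw [e1]
    exact mul_mem (mul_mem hm (hUM (h.conj _ hg u hu))) (inv_mem hm)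
  · exact ⟨J, hJ, hJS, hMJ⟩

theorem bn_maxSys (hU : U ≠ ⊥) : MaxSys U (maxPar P) where
  le := by
    rintro _ ⟨s, -, rfl⟩
    exact h.le.trans (B_le_parabolic P _)
  ne_top := by
    rintro _ ⟨s, hs, rfl⟩ e
    have e' : P.parabolic (P.S \ {s}) = ⊤ := e
    exact notMem_maxPar hs (e' ▸ Subgroup.mem_top s)
  cover := fun Y hUY hY => by
    obtain ⟨J, hJ, hJS, hle⟩ := exists_parabolic h hU hUY hY
    obtain ⟨s, hs, hsJ⟩ := Set.exists_of_ssubset (hJ.ssubset_of_ne hJS)
    exact ⟨_, ⟨s, hs, rfl⟩, hle.trans (parabolic_mono P fun t ht => ⟨hJ ht, fun e => hsJ (e ▸ ht)⟩)⟩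
  indep := by
    rintro _ ⟨s, hs, rfl⟩ hle
    rw [sInf_diff_maxPar hs] at hle
    exact notMem_maxPar hs (hle (mem_parabolic_of_mem P rfl))

theorem B_le_normalizer : P.B ≤ Subgroup.normalizer (U : Set G) := fun b hb => by
  rw [Subgroup.mem_normalizer_iff]
  refine fun x => ⟨fun hx => h.conj b hb x hx, fun hx => ?_⟩
  have := h.conj b⁻¹ (inv_mem hb) _ hx
  simpa [mul_assoc] using this

variable {H : Type*} [Group H] (e : G ≃* H)
include e

theorem bn_pminSys (hU : U ≠ ⊥) : PMinSys p H := by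
  obtain ⟨Q, hQ⟩ := h.exists_sylow
  subst hQ
  exact pminSys_of e Q (bn_maxSys h hU) (sInf_maxPar.le.trans (B_le_normalizer h))

theorem bn_pminSwap (hU : U ≠ ⊥) {s t : G} (hs : s ∈ P.S) (ht : t ∈ P.S) (hne : s ≠ t) :
    PMinSwap p H := by
  obtain ⟨Q, hQ⟩ := h.exists_sylow
  subst hQ
  exact pminSwap_of e Q (bn_maxSys h hU) (sInf_maxPar.le.trans (B_le_normalizer h))
    (M := P.parabolic (P.S \ {s})) (M' := P.parabolic (P.S \ {t})) ⟨s, hs, rfl⟩ ⟨t, ht, rfl⟩
    fun e' => hne (maxPar_inj hs e')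

/-- No `p`-group of automorphisms fixing `U` moves `s` to `t`: criterion. -/
theorem bn_excluded_of (hU : U ≠ ⊥) {s t : G} (hs : s ∈ P.S) (ht : t ∈ P.S)
    (hinv : ∀ α : MulAut G, (∀ k, (α ^ p ^ k = 1 → U.map α.toMonoidHom = U →
      (P.parabolic (P.S \ {s})).map α.toMonoidHom ≠ P.parabolic (P.S \ {t})))) :
    PMinExcluded p H := by
  obtain ⟨Q, hQ⟩ := h.exists_sylow
  subst hQ
  refine pminExcluded_of e Q (bn_maxSys h hU) fun A hA hAU => ⟨_, ⟨s, hs, rfl⟩, _, ⟨t, ht, rfl⟩, ?_⟩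
  intro α hα
  obtain ⟨k, hk⟩ := hA ⟨α, hα⟩
  exact hinv α k (congrArg Subtype.val hk) (hAU α hα)

end split

section invariants

variable {G : Type*} [Group G] {P : Cfsg.BNPair G}

theorem map_panel {α : MulAut G} {U : Subgroup G} (hsys : MaxSys U (maxPar P))
    (hαU : U.map α.toMonoidHom = U) {s t : G} (hs : s ∈ P.S) (ht : t ∈ P.S)
    (hst : (P.parabolic (P.S \ {s})).map α.toMonoidHom = P.parabolic (P.S \ {t})) :
    (P.parabolic {s}).map α.toMonoidHom = P.parabolic {t} := by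
  rw [← sInf_diff_maxPar hs, ← sInf_diff_maxPar ht]
  refine le_antisymm (le_sInf ?_) ?_
  · rintro N ⟨hN, hNne⟩
    have hα' : U.map (α⁻¹ : MulAut G).toMonoidHom = U := by
      conv_lhs => rw [← hαU]
      rw [Subgroup.map_map]
      conv_rhs => rw [← Subgroup.map_id U]
      congr 1
      ext x
      simp
    have h1 := hsys.map_mem hα' hN
    have hne : N.map (α⁻¹ : MulAut G).toMonoidHom ≠ P.parabolic (P.S \ {s}) := by
      intro e
      apply hNne
      rw [Set.mem_singleton_iff, ← hst, ← e, Subgroup.map_map]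
      conv_lhs => rw [← Subgroup.map_id N]
      congr 1
      ext x
      simp
    refine (Subgroup.map_mono (sInf_le (a := N.map (α⁻¹ : MulAut G).toMonoidHom)
      (s := maxPar P \ {P.parabolic (P.S \ {s})}) ⟨h1, hne⟩)).trans (le_of_eq ?_)
    rw [Subgroup.map_map]
    conv_rhs => rw [← Subgroup.map_id N]
    congr 1
    ext x
    simp
  · intro y hy
    refine ⟨α⁻¹ y, Subgroup.mem_sInf.2 ?_, by simp⟩
    rintro N ⟨hN, hNne⟩
    have h1 := hsys.map_mem hαU hN
    obtain ⟨x, hx, e⟩ := Subgroup.mem_sInf.1 hy _ ⟨h1, fun e => hNne (by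
      rw [Set.mem_singleton_iff] at e ⊢
      exact Subgroup.map_injective (f := α.toMonoidHom) α.injective (e.trans hst.symm))⟩
    rw [← e]
    simpa using hx

theorem card_panel [Finite G] {s : G} (hs : s ∈ P.S) :
    Nat.card ↥(P.parabolic {s}) = Nat.card ↥P.B * (1 + cardC P s) := by
  classical
  have e : ((P.parabolic {s} : Subgroup G) : Set G) = (P.B : Set G) ∪ cell P s := by
    refine Set.Subset.antisymm ?_ ?_
    · let Ps : Subgroup G :=
        { carrier := {x | x ∈ P.B ∨ x ∈ cell P s}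
          one_mem' := Or.inl (one_mem _)
          mul_mem' := fun hx hy => mul_mem_two P hs hx hy
          inv_mem' := fun hx => inv_mem_two P hs hx }
      exact (sup_le (fun x hx => Or.inl hx) ((Subgroup.closure_le _).2
        (by rintro x rfl; exact Or.inr (self_mem_cell P _))) : P.parabolic {s} ≤ Ps)
    · rintro x (hx | hx)
      · exact B_le_parabolic P _ hx
      · exact cell_subset_parabolic P (mem_parabolic_of_mem P rfl) hx
  have hd : Disjoint (P.B : Set G) (cell P s) := Set.disjoint_left.2 fun x hx hx' =>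
    S_not_mem_B P hs ((cell_one P).1 (by
      rw [← cell_eq_of_mem P ((cell_one P).2 hx), cell_eq_of_mem P hx']; exact self_mem_cell P s))
  calc Nat.card ↥(P.parabolic {s}) = ((P.parabolic {s} : Subgroup G) : Set G).ncard :=
        Nat.card_coe_set_eq _
    _ = (P.B : Set G).ncard + (cell P s).ncard := by
        rw [e, Set.ncard_union_eq hd (Set.toFinite _) (Set.toFinite _)]
    _ = _ := by
        rw [← Nat.card_coe_set_eq, ← Nat.card_coe_set_eq]
        haveI := Fintype.ofFinite G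
        rw [natCard_cell P s]
        simp only [SetLike.coe_sort_coe]
        ring

/-- Panels of different sizes are not moved to each other. -/
theorem ne_of_cardC [Finite G] {α : MulAut G} {U : Subgroup G} (hsys : MaxSys U (maxPar P))
    (hαU : U.map α.toMonoidHom = U) {s t : G} (hs : s ∈ P.S) (ht : t ∈ P.S)
    (hne : cardC P s ≠ cardC P t) :
    (P.parabolic (P.S \ {s})).map α.toMonoidHom ≠ P.parabolic (P.S \ {t}) := by
  intro e
  have h1 := map_panel hsys hαU hs ht e
  have h2 : Nat.card ↥(P.parabolic {t}) = Nat.card ↥(P.parabolic {s}) := by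
    rw [← h1, Subgroup.card_map_of_injective α.injective]
  rw [card_panel hs, card_panel ht] at h2
  have := Nat.eq_of_mul_eq_mul_left Nat.card_pos h2
  omega

theorem panel_commute_iff {s t : G} (hs : s ∈ P.S) (ht : t ∈ P.S) (hne : s ≠ t) :
    ((P.parabolic {s} : Set G) * (P.parabolic {t} : Set G) =
      (P.parabolic {t} : Set G) * (P.parabolic {s} : Set G)) ↔ Eqv P (s * t) (t * s) := by
  have key : ∀ s t, s ∈ P.S → t ∈ P.S → s ≠ t → len P (s * t) = 2 := by
    intro s t hs ht hne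
    rcases len_mul_S_cases P ht (S_mem_N P hs) with e | e
    · rw [e, len_S P hs]
    · exfalso
      rw [len_S P hs] at e
      have h0 : s * t ∈ P.B := (len_eq_zero P (P.N.mul_mem (S_mem_N P hs) (S_mem_N P ht))).1 (by omega)
      refine hne (P.inj s hs t ht ?_)
      exact eqv_trans P (eqv_symm P (eqv_S_inv P hs))
        (show (s⁻¹)⁻¹ * t ∈ P.B by rw [inv_inv]; exact h0)
  have hmem : ∀ {u x}, u ∈ P.S → x ∈ (P.parabolic {u} : Set G) → x ∈ P.B ∨ x ∈ cell P u := by
    intro u x hu hx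
    let Ps : Subgroup G :=
      { carrier := {x | x ∈ P.B ∨ x ∈ cell P u}
        one_mem' := Or.inl (one_mem _)
        mul_mem' := fun hx hy => mul_mem_two P hu hx hy
        inv_mem' := fun hx => inv_mem_two P hu hx }
    exact (sup_le (fun x hx => Or.inl hx) ((Subgroup.closure_le _).2
      (by rintro x rfl; exact Or.inr (self_mem_cell P _))) : P.parabolic {u} ≤ Ps) hx
  have hsub : ∀ s t, s ∈ P.S → t ∈ P.S → s ≠ t → Eqv P (s * t) (t * s) →
      (P.parabolic {s} : Set G) * (P.parabolic {t} : Set G) ⊆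
        (P.parabolic {t} : Set G) * (P.parabolic {s} : Set G) := by
    rintro s t hs ht hne he _ ⟨x, hx, y, hy, rfl⟩
    rcases hmem hs hx with hx' | hx'
    · exact ⟨x * y, mul_mem (B_le_parabolic P _ hx') hy, 1, one_mem _, mul_one _⟩
    rcases hmem ht hy with hy' | hy'
    · exact ⟨1, one_mem _, x * y, mul_mem hx (B_le_parabolic P _ hy'), one_mul _⟩
    have h1 := mul_mem_cell_right_of_len P ht (S_mem_N P hs)
      (by rw [key s t hs ht hne, len_S P hs]; norm_num) hx' hy'
    rw [cell_congr P he] at h1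
    obtain ⟨a, ha, b, hb, e⟩ := (mem_cell P).1 h1
    exact ⟨a * t, mul_mem (B_le_parabolic P _ ha) (mem_parabolic_of_mem P rfl), s * b,
      mul_mem (mem_parabolic_of_mem P rfl) (B_le_parabolic P _ hb), by
        show a * t * (s * b) = x * y
        rw [e]; group⟩
  constructor
  · intro e
    have h1 : t * s ∈ (P.parabolic {t} : Set G) * (P.parabolic {s} : Set G) :=
      ⟨t, mem_parabolic_of_mem P rfl, s, mem_parabolic_of_mem P rfl, rfl⟩
    rw [← e] at h1
    obtain ⟨x, hx, y, hy, e'⟩ := h1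
    have hlen := key t s ht hs (Ne.symm hne)
    have hts := P.N.mul_mem (S_mem_N P ht) (S_mem_N P hs)
    have hbad : ∀ u ∈ P.S, ¬ t * s ∈ cell P u := fun u hu hc => by
      rw [len_congr P (eqv_of_cell_eq P hts (S_mem_N P hu) (cell_eq_of_mem P hc)), len_S P hu] at hlen
      omega
    have e'' : x * y = t * s := e'
    rcases hmem hs hx with hx' | hx' <;> rcases hmem ht hy with hy' | hy'
    · exfalso
      rw [(len_eq_zero P hts).2 (e'' ▸ mul_mem hx' hy')] at hlen
      omega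
    · exact (hbad t ht (e'' ▸ mul_mem_cell_left P hx' hy')).elim
    · exact (hbad s hs (e'' ▸ mul_mem_cell_right P hy' hx')).elim
    · have h2 := mul_mem_cell_right_of_len P ht (S_mem_N P hs)
        (by rw [key s t hs ht hne, len_S P hs]; norm_num) hx' hy'
      rw [e''] at h2
      exact eqv_symm P (eqv_of_cell_eq P hts (P.N.mul_mem (S_mem_N P hs) (S_mem_N P ht))
        (cell_eq_of_mem P h2))
  · exact fun he => (hsub s t hs ht hne he).antisymm (hsub t s ht hs (Ne.symm hne) (eqv_symm P he))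

/-- A node commuting with all but one other is not moved to one failing to commute with two. -/
theorem ne_of_degree [Finite G] {α : MulAut G} {U : Subgroup G} (hsys : MaxSys U (maxPar P))
    (hαU : U.map α.toMonoidHom = U) {s t u a b : G} (hs : s ∈ P.S) (ht : t ∈ P.S)
    (hcomm : ∀ v ∈ P.S, v ≠ s → v ≠ u → Eqv P (s * v) (v * s))
    (ha : a ∈ P.S) (hb : b ∈ P.S) (hab : a ≠ b) (hat : a ≠ t) (hbt : b ≠ t)
    (hna : ¬ Eqv P (t * a) (a * t)) (hnb : ¬ Eqv P (t * b) (b * t)) :
    (P.parabolic (P.S \ {s})).map α.toMonoidHom ≠ P.parabolic (P.S \ {t}) := by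
  intro e
  have hpre : ∀ c ∈ P.S, ∃ v ∈ P.S, (P.parabolic (P.S \ {v})).map α.toMonoidHom =
      P.parabolic (P.S \ {c}) := by
    intro c hc
    have hα' : U.map (α⁻¹ : MulAut G).toMonoidHom = U := by
      conv_lhs => rw [← hαU]
      rw [Subgroup.map_map]
      conv_rhs => rw [← Subgroup.map_id U]
      congr 1
      ext x
      simp
    obtain ⟨v, hv, e'⟩ := hsys.map_mem hα' (show P.parabolic (P.S \ {c}) ∈ maxPar P from ⟨c, hc, rfl⟩)
    refine ⟨v, hv, ?_⟩
    rw [show P.parabolic (P.S \ {v}) = _ from e', Subgroup.map_map]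
    conv_rhs => rw [← Subgroup.map_id (P.parabolic (P.S \ {c}))]
    congr 1
    ext x
    simp
  have key : ∀ c ∈ P.S, c ≠ t → ¬ Eqv P (t * c) (c * t) → ∀ v ∈ P.S,
      (P.parabolic (P.S \ {v})).map α.toMonoidHom = P.parabolic (P.S \ {c}) → v = u := by
    intro c hc hct hnc v hv e'
    by_contra hvu
    have hvs : v ≠ s := by
      rintro rfl
      exact hct (maxPar_inj hc (e'.symm.trans e))
    apply hnc
    rw [← panel_commute_iff ht hc (Ne.symm hct), ← map_panel hsys hαU hs ht e,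
      ← map_panel hsys hαU hv hc e']
    have h1 := (panel_commute_iff hs hv (Ne.symm hvs)).2 (hcomm v hv hvs hvu)
    simp only [Subgroup.coe_map, ← Set.image_mul, h1]
  obtain ⟨v, hv, e1⟩ := hpre a ha
  obtain ⟨w, hw, e2⟩ := hpre b hb
  have h1 := key a ha hat hna v hv e1
  have h2 := key b hb hbt hnb w hw e2
  subst h1 h2
  exact hab (maxPar_inj ha (e1.symm.trans e2))

end invariants

end Cfsg.Agent.LieStruct
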