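/-
Projective special linear groups: the maximal overgroups of a Sylow subgroup under automorphisms (helper32).
-/
import Cfsg.Agent.LieStruct.Classical.Linear
import Cfsg.Agent.LieStruct.PMinBN

set_option autoImplicit false
set_option linter.unusedSectionVars false

namespace Cfsg.Agent.LieStruct

open Cfsg.Agent.SLBlocks.BN Cfsg.Agent.BN Cfsg.Agent.SteinbergCount82

variable {F : Type*} [Field F] [Finite F] {m : ℕ}

local notation "GG" => Matrix.SpecialLinearGroup (Fin (m + 1)) F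

theorem perm_eq_one_of_upper {g : GG} {σ : Equiv.Perm (Fin (m + 1))} (hσ : Mono g σ)
    (hB : g ∈ (upper : Subgroup GG)) : σ = 1 := by
  refine Equiv.ext fun j => ?_
  induction j using WellFoundedLT.induction with
  | ind j ih =>
    have hle : σ j ≤ j := not_lt.1 fun hlt => hσ.entry_ne j (mem_upper.1 hB _ _ hlt)
    rcases hle.lt_or_eq with hlt | heq
    · exact σ.injective (ih _ hlt)
    · exact heq

theorem upper_of_mono_one {g : GG} (h : Mono g 1) : g ∈ (upper : Subgroup GG) :=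
  mem_upper.2 fun i j hij => h i j (by simpa using hij.ne')

/-- The split pair of `PSL` with its fundamental reflections. -/
theorem exists_psl_split {p : ℕ} [hp : Fact p.Prime] [CharP F p] (hm : 0 < m) {G : Type*} [Group G]
    [Fintype G] (eG : G ≃* Matrix.ProjectiveSpecialLinearGroup (Fin (m + 1)) F) :
    ∃ (Q : Cfsg.BNPair G) (π : GG →* G) (U : Subgroup G), Steinberg.Split Q p U ∧ U ≠ ⊥ ∧
      (∀ g : GG, π g ∈ Q.B ↔ g ∈ (upper : Subgroup GG)) ∧ (∀ k : Fin m, π (sk k) ∈ Q.S) ∧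
      ∀ s ∈ Q.S, ∃ k : Fin m, s = π (sk k) := by
  classical
  set P : Cfsg.BNPair GG := pair hm with hP
  have hN : ∀ g : GG, g ∈ (monom : Subgroup GG) → g ∈ P.parabolic P.S := fun g hg => by
    have h1 : (monom : Subgroup GG) ≤ P.parabolic P.S := by
      rw [← closure_sup_inf]
      exact sup_le (le_sup_right : _ ≤ P.B ⊔ Subgroup.closure P.S)
        ((inf_le_left : _ ≤ (upper : Subgroup GG)).trans (le_sup_left : _ ≤ P.B ⊔ Subgroup.closure P.S))
    exact h1 hg
  have hBp : ∀ g : GG, g ∈ (upper : Subgroup GG) → g ∈ P.parabolic P.S := fun g hg =>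
    B_le_parabolic P P.S hg
  let π : GG →* G := eG.symm.toMonoidHom.comp (QuotientGroup.mk' _)
  let φ : ↥(P.parabolic P.S) →* G := π.comp (P.parabolic P.S).subtype
  have htop : P.parabolic P.S = ⊤ := by
    rw [eq_top_iff, ← upper_sup_monom hm]
    exact sup_le hBp hN
  have hφ : Function.Surjective φ := fun g => by
    obtain ⟨x, hx⟩ := QuotientGroup.mk'_surjective _ (eG g)
    exact ⟨⟨x, htop ▸ Subgroup.mem_top x⟩, by
      show eG.symm (QuotientGroup.mk' _ x) = g
      rw [hx, MulEquiv.symm_apply_apply]⟩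
  have hker' : ∀ x : GG, π x = 1 → x ∈ (upper : Subgroup GG) := fun x hx => by
    have hx' : x ∈ Subgroup.center GG :=
      (QuotientGroup.eq_one_iff x).1 ((MulEquiv.map_eq_one_iff eG.symm).1 hx)
    obtain ⟨r, -, hr⟩ := Matrix.SpecialLinearGroup.mem_center_iff.1 hx'
    intro i j hij
    rw [← hr]
    simp [hij.ne']
  have hker : ∀ x : ↥(P.parabolic P.S), φ x = 1 → (x : GG) ∈ P.B := fun x hx => hker' x hx
  set Q := quotPair hker subset_rfl hφ with hQ
  set U : Subgroup G := (unip : Subgroup GG).map π with hU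
  have hB : ∀ g : GG, π g ∈ Q.B ↔ g ∈ (upper : Subgroup GG) := fun g =>
    mem_map_B hker (x := ⟨g, htop ▸ Subgroup.mem_top g⟩)
  have hBimg : ∀ b ∈ Q.B, ∃ g ∈ (upper : Subgroup GG), π g = b := by
    rintro _ ⟨x, hx, rfl⟩
    exact ⟨x, hx, rfl⟩
  have hTimg : Q.B ⊓ Q.N = (upper ⊓ monom : Subgroup GG).map π := by
    refine le_antisymm ?_ ?_
    · rintro _ ⟨hb, x, hx, rfl⟩
      exact ⟨x, ⟨(hB x).1 hb, hx⟩, rfl⟩
    · rintro _ ⟨x, ⟨hx, hx'⟩, rfl⟩
      exact ⟨(hB x).2 hx, ⟨x, htop ▸ Subgroup.mem_top x⟩, hx', rfl⟩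
  obtain ⟨w, hw, hwm⟩ := mem_closure_of_perm (F := F) (m := m) Fin.revPerm
  have hsplit : Steinberg.Split Q p U := by
    refine split_of_free ?_ ?_ ((isPGroup_unip p).map π) ?_ ?_ (n := π w)
      ⟨⟨w, htop ▸ Subgroup.mem_top w⟩, closure_sk_le_monom hw, rfl⟩ ?_
    · rintro _ ⟨u, hu, rfl⟩
      exact (hB u).2 hu.1
    · rintro b hb _ ⟨u, hu, rfl⟩
      obtain ⟨g, hg, rfl⟩ := hBimg b hb
      exact ⟨g * u * g⁻¹, unip_conj hg hu, by simp⟩
    · intro b hb
      obtain ⟨g, hg, rfl⟩ := hBimg b hb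
      obtain ⟨u, hu, t, ht, rfl⟩ := (split2 p hm).decomp g hg
      exact ⟨π u, ⟨u, hu, rfl⟩, π t, hTimg.ge ⟨t, ht, rfl⟩, map_mul π u t⟩
    · rw [hTimg]
      exact fun h => not_dvd_torus p (h.trans (Subgroup.card_map_dvd _ _))
    · rintro _ ⟨u, hu, rfl⟩ h
      rw [← map_inv, ← map_mul, ← map_mul, hB] at h
      have h1 : w⁻¹ * u * w = 1 := by
        refine Subtype.ext (Matrix.ext fun i j => ?_)
        rw [Matrix.SpecialLinearGroup.coe_one]
        rcases lt_trichotomy j i with hji | rfl | hij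
        · rw [Matrix.one_apply_ne hji.ne', mem_upper.1 h i j hji]
        · rw [Matrix.one_apply_eq, conj_diag hwm, hu.2]
        · rw [Matrix.one_apply_ne hij.ne, (conj_eq_zero hwm _ i j).2]
          exact mem_upper.1 hu.1 _ _ (by simpa using hij)
      have h2 : u = 1 := by
        have := congrArg (fun z => w * z * w⁻¹) h1
        simpa [mul_assoc] using this
      rw [h2, map_one]
  refine ⟨Q, π, U, hsplit, ?_, hB, fun k => ?_, ?_⟩
  · have hne : (0 : Fin (m + 1)) ≠ Fin.last m := fun h => by simp [Fin.ext_iff] at h; omega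
    set z : GG := Matrix.SpecialLinearGroup.transvection hne (1 : F) with hz
    intro e
    have hzu : z ∈ (unip : Subgroup GG) := blockU_le ⟨0, hm⟩ (fun i j hij => by
      rw [hz, Matrix.SpecialLinearGroup.transvection_coe, Matrix.add_apply, Matrix.single_apply,
        if_neg, add_zero]
      rintro ⟨rfl, rfl⟩
      exact hij ⟨Fin.zero_le _, Fin.le_last _⟩)
    have h1 : π z = 1 := Subgroup.mem_bot.1 (e ▸ (⟨z, hzu, rfl⟩ : π z ∈ U))
    have hx' : z ∈ Subgroup.center GG :=
      (QuotientGroup.eq_one_iff z).1 ((MulEquiv.map_eq_one_iff eG.symm).1 h1)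
    obtain ⟨r, -, hr⟩ := Matrix.SpecialLinearGroup.mem_center_iff.1 hx'
    have h2 := congrFun (congrFun hr 0) (Fin.last m)
    rw [hz, Matrix.SpecialLinearGroup.transvection_coe] at h2
    simp [hne] at h2
  · exact ⟨sk k, ⟨k, rfl⟩, ext1_of_mem (htop ▸ Subgroup.mem_top (sk k))⟩
  · rintro _ ⟨_, ⟨k, rfl⟩, rfl⟩
    exact ⟨k, ext1_of_mem (htop ▸ Subgroup.mem_top (sk k))⟩

/-- For odd `p` two maximal overgroups are not exchanged. -/
theorem ne_of_two {X : Type*} [Group X] {U : Subgroup X} {𝕄 : Set (Subgroup X)} {p : ℕ}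
    [hp : Fact p.Prime] (hp2 : p ≠ 2) (hsys : MaxSys U 𝕄) {α : MulAut X} {k : ℕ} (hk : α ^ p ^ k = 1)
    (hαU : U.map α.toMonoidHom = U) {M M' : Subgroup X} (hall : ∀ N ∈ 𝕄, N = M ∨ N = M')
    (hM : M ∈ 𝕄) (hM' : M' ∈ 𝕄) (hne : M ≠ M') : M.map α.toMonoidHom ≠ M' := by
  intro e
  have e' : M'.map α.toMonoidHom = M := (hall _ (hsys.map_mem hαU hM')).resolve_right fun e' =>
    hne (Subgroup.map_injective (f := α.toMonoidHom) α.injective (e.trans e'.symm))
  have hit : ∀ j : ℕ, M.map (α ^ j : MulAut X).toMonoidHom = if Even j then M else M' := by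
    intro j
    induction j with
    | zero =>
      simp only [pow_zero, Even.zero, if_true]
      exact Subgroup.map_id M
    | succ j ih =>
      have h1 : (α ^ (j + 1) : MulAut X).toMonoidHom = α.toMonoidHom.comp (α ^ j : MulAut X).toMonoidHom := by
        rw [pow_succ']; rfl
      rw [h1, ← Subgroup.map_map, ih]
      by_cases hj : Even j
      · rw [if_pos hj, if_neg (by rw [Nat.even_add_one, not_not]; exact hj), e]
      · rw [if_neg hj, if_pos (by rw [Nat.even_add_one]; exact hj), e']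
  have h1 := hit (p ^ k)
  rw [hk, if_neg (Nat.not_even_iff_odd.2 (hp.out.odd_of_ne_two hp2).pow)] at h1
  exact hne ((Subgroup.map_id M).symm.trans h1)

variable {p : ℕ} [hp : Fact p.Prime] {G : Type*} [Group G] [IsSimpleGroup G]

/-- Linear groups as socles of `p`-minimal groups. -/
theorem psl_pmin [CharP F p] (hm : 0 < m)
    (eG : G ≃* Matrix.ProjectiveSpecialLinearGroup (Fin (m + 1)) F) :
    (m = 1 → PMinSys p G) ∧ (m = 2 → p = 2 → PMinSwap p G) ∧
      (m = 2 → p ≠ 2 → PMinExcluded p G) ∧ (3 ≤ m → PMinExcluded p G) := by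
  classical
  haveI : Finite G := Finite.of_equiv _ eG.toEquiv.symm
  letI := Fintype.ofFinite G
  obtain ⟨Q, π, U, h, hU, hB, hS, hS'⟩ := exists_psl_split (p := p) hm eG
  have heqv : ∀ a b : GG, Eqv Q (π a) (π b) ↔ a⁻¹ * b ∈ (upper : Subgroup GG) := fun a b => by
    rw [← hB, map_mul, map_inv]; rfl
  have hswap : ∀ i k : Fin m, Equiv.swap i.castSucc i.succ = Equiv.swap k.castSucc k.succ → i = k := by
    intro i k e
    have e1 := congrArg (fun s : Equiv.Perm (Fin (m + 1)) => s i.castSucc) e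
    simp only [Equiv.swap_apply_left, Equiv.swap_apply_def] at e1
    split_ifs at e1 <;> simp only [Fin.ext_iff, Fin.val_castSucc, Fin.val_succ] at * <;> omega
  have hinj : ∀ i k : Fin m, π (sk i) = π (sk k) → i = k := by
    intro i k e
    have h1 := perm_eq_one_of_upper ((mono_sk i).inv.mul (mono_sk k)) ((heqv _ _).1 (by rw [e]; exact eqv_refl Q _))
    exact hswap i k (inv_mul_eq_one.1 h1)
  have hnc : ∀ (i k : Fin m) (x : Fin (m + 1)),
      Equiv.swap i.castSucc i.succ (Equiv.swap k.castSucc k.succ x) ≠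
        Equiv.swap k.castSucc k.succ (Equiv.swap i.castSucc i.succ x) →
      (sk i * sk k : GG)⁻¹ * (sk k * sk i) ∉ (upper : Subgroup GG) := fun i k x hx hup => hx (by
    have h1 := perm_eq_one_of_upper (((mono_sk i).mul (mono_sk k)).inv.mul ((mono_sk k).mul (mono_sk i))) hup
    exact congrArg (fun s : Equiv.Perm (Fin (m + 1)) => s x) (inv_mul_eq_one.1 h1))
  refine ⟨fun _ => bn_pminSys h (MulEquiv.refl G) hU, fun h2 _ => ?_, fun h2 hp2 => ?_, fun h3 => ?_⟩
  · refine bn_pminSwap h (MulEquiv.refl G) hU (hS ⟨0, by omega⟩) (hS ⟨1, by omega⟩) fun e => ?_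
    simpa [Fin.ext_iff] using hinj _ _ e
  · refine bn_excluded_of h (MulEquiv.refl G) hU (hS ⟨0, by omega⟩) (hS ⟨1, by omega⟩)
      fun α k hk hαU => ne_of_two hp2 (bn_maxSys h hU) hk hαU (fun N hN => ?_) ⟨_, hS ⟨0, by omega⟩, rfl⟩
        ⟨_, hS ⟨1, by omega⟩, rfl⟩ fun e => by simpa [Fin.ext_iff] using hinj _ _ (maxPar_inj (hS _) e)
    obtain ⟨s, hs, rfl⟩ := hN
    obtain ⟨k', rfl⟩ := hS' _ hs
    obtain ⟨v, hv⟩ := k'
    rcases (by omega : v = 0 ∨ v = 1) with rfl | rfl
    · exact Or.inl rfl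
    · exact Or.inr rfl
  · refine bn_excluded_of h (MulEquiv.refl G) hU (hS ⟨0, by omega⟩) (hS ⟨1, by omega⟩)
      fun α k hk hαU => ?_
    refine ne_of_degree (bn_maxSys h hU) hαU (u := π (sk ⟨1, by omega⟩)) (a := π (sk ⟨0, by omega⟩))
      (b := π (sk ⟨2, by omega⟩)) (hS _) (hS _) ?_ (hS _) (hS _)
      (fun e => by simpa [Fin.ext_iff] using hinj _ _ e) (fun e => by simpa [Fin.ext_iff] using hinj _ _ e)
      (fun e => by simpa [Fin.ext_iff] using hinj _ _ e) ?_ ?_
    · intro v hv hv0 hv1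
      obtain ⟨j, rfl⟩ := hS' _ hv
      have hj0 : j.val ≠ 0 := fun e => hv0 (by congr 2; exact Fin.ext e)
      have hj1 : j.val ≠ 1 := fun e => hv1 (by congr 2; exact Fin.ext e)
      rw [← map_mul, ← map_mul, heqv]
      refine upper_of_mono_one ?_
      have hd : (Equiv.swap (⟨0, by omega⟩ : Fin m).castSucc (⟨0, by omega⟩ : Fin m).succ).Disjoint
          (Equiv.swap j.castSucc j.succ) := by
        intro x
        by_cases hx : x.val ≤ 1
        · refine Or.inr (Equiv.swap_apply_of_ne_of_ne ?_ ?_) <;>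
            simp only [ne_eq, Fin.ext_iff, Fin.val_castSucc, Fin.val_succ] <;> omega
        · refine Or.inl (Equiv.swap_apply_of_ne_of_ne ?_ ?_) <;>
            simp only [ne_eq, Fin.ext_iff, Fin.val_castSucc, Fin.val_succ] <;> omega
      have := (((mono_sk (F := F) (⟨0, by omega⟩ : Fin m)).mul (mono_sk j)).inv).mul
        ((mono_sk j).mul (mono_sk (F := F) (⟨0, by omega⟩ : Fin m)))
      rwa [hd.commute.eq, inv_mul_cancel] at this
    · rw [← map_mul, ← map_mul, heqv]
      exact hnc _ _ ⟨0, by omega⟩ (by simp [Fin.ext_iff, Equiv.swap_apply_def])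
    · rw [← map_mul, ← map_mul, heqv]
      exact hnc _ _ ⟨1, by omega⟩ (by simp [Fin.ext_iff, Equiv.swap_apply_def])

end Cfsg.Agent.LieStruct
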