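/-
Unipotent groups of flags in polar spaces and invariant totally singular subspaces (helper32).
-/
import Cfsg.Agent.LieStruct.Polar
import Cfsg.Agent.PolarSteinberg52.Main
import Mathlib.Algebra.CharP.Lemmas

set_option autoImplicit false
set_option linter.unusedSectionVars false

namespace Cfsg.Agent.LieStruct.Polar

open Cfsg.Agent.PolarSteinberg52 Module

universe u v w x

variable {K : Type u} {V : Type v} {T : Type w} [Field K] [AddCommGroup V] [Module K V]
  [FiniteDimensional K V] [AddCommGroup T] {P : PForm K V T}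
  {X : Type x} [Group X] (ι : X →* (V ≃ₗ[K] V)) {m : ℕ}

/-- Root element formula: `v ↦ v + a B(v,u) w + (b B(v,w) + c B(v,u)) u`. -/
def RootEl (P : PForm K V T) (g : X) (u w : V) (a b c : K) : Prop :=
  ∀ v, ι g v = v + (a * P.B v u) • w + (b * P.B v w + c * P.B v u) • u

/-- The stabiliser of a subspace. -/
def stabW (W : Submodule K V) : Subgroup X where
  carrier := {g | W.map (ι g : V →ₗ[K] V) = W}
  one_mem' := by
    show W.map ((ι 1 : V ≃ₗ[K] V) : V →ₗ[K] V) = W
    rw [map_one]; exact Submodule.map_id W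
  mul_mem' := by
    intro g h (hg : W.map (ι g : V →ₗ[K] V) = W) (hh : W.map (ι h : V →ₗ[K] V) = W)
    show W.map ((ι (g * h) : V ≃ₗ[K] V) : V →ₗ[K] V) = W
    conv_rhs => rw [← hg, ← hh, ← Submodule.map_comp]
    rw [map_mul]; rfl
  inv_mem' := by
    intro g (hg : W.map (ι g : V →ₗ[K] V) = W)
    show W.map ((ι g⁻¹ : V ≃ₗ[K] V) : V →ₗ[K] V) = W
    conv_lhs => rw [← hg, ← Submodule.map_comp]
    conv_rhs => rw [← Submodule.map_id W]
    congr 1
    exact LinearMap.ext fun v => inv_apply' ι g v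

theorem mem_stabW {W : Submodule K V} {g : X} (h : ∀ v ∈ W, ι g v ∈ W) : g ∈ stabW ι W :=
  Submodule.eq_of_le_of_finrank_eq (by rintro _ ⟨v, hv, rfl⟩; exact h v hv)
    (LinearEquiv.finrank_map_eq (ι g) W)

theorem apply_mem {W : Submodule K V} {g : X} (h : g ∈ stabW ι W) {v : V} (hv : v ∈ W) :
    ι g v ∈ W := by
  have : ι g v ∈ W.map (ι g : V →ₗ[K] V) := ⟨v, hv, rfl⟩
  rwa [show W.map (ι g : V →ₗ[K] V) = W from h] at this

theorem stabW_perp_le (hι : ∀ g, IsIso P (ι g)) (W : Submodule K V) :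
    stabW ι W ≤ stabW ι (P.perp W) := fun g hg => by
  show (P.perp W).map (ι g : V →ₗ[K] V) = P.perp W
  rw [map_perp (hι g), show W.map (ι g : V →ₗ[K] V) = W from hg]

variable [Finite X]

/-- Elements moving each member of a chain into the previous one. -/
def nilGrp (C : ℕ → Submodule K V) (hC : Monotone C) : Subgroup X where
  carrier := {g | ∀ k, ∀ v ∈ C (k + 1), ι g v - v ∈ C k}
  one_mem' := fun k v _ => by simp
  mul_mem' := by
    intro a b ha hb k v hv
    rw [mul_apply', show ι a (ι b v) - v =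
      ((ι a (ι b v - v) - (ι b v - v)) + (ι b v - v)) + (ι a v - v) by rw [map_sub]; abel]
    exact add_mem (add_mem (ha k _ (hC k.le_succ (hb k v hv))) (hb k v hv)) (ha k v hv)
  inv_mem' := by
    intro g hg
    have hpow : ∀ n : ℕ, ∀ k, ∀ v ∈ C (k + 1), ι (g ^ n) v - v ∈ C k := by
      intro n
      induction n with
      | zero => intro k v _; simp
      | succ n ih =>
        intro k v hv
        have h1 := hg k v hv
        rw [pow_succ, mul_apply', show ι (g ^ n) (ι g v) - v = ((ι (g ^ n) (ι g v - v) - (ι g v - v)) +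
          (ι g v - v)) + (ι (g ^ n) v - v) by rw [map_sub]; abel]
        exact add_mem (add_mem (ih k _ (hC k.le_succ h1)) h1) (ih k v hv)
    have e : g⁻¹ = g ^ (orderOf g - 1) := inv_eq_of_mul_eq_one_right (by
      rw [← pow_succ', Nat.sub_add_cancel (orderOf_pos g), pow_orderOf_eq_one])
    exact e ▸ hpow _

theorem nilGrp_le_stabW (C : ℕ → Submodule K V) (hC : Monotone C) (k : ℕ) :
    nilGrp ι C hC ≤ stabW ι (C k) := fun g hg => mem_stabW ι fun v hv => by
  have h := add_mem (hg k v (hC k.le_succ hv)) hv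
  rwa [sub_add_cancel] at h

theorem nilGrp_conj {C : ℕ → Submodule K V} {hC : Monotone C} {s g : X}
    (hs : ∀ k, s ∈ stabW ι (C k)) (hg : g ∈ nilGrp ι C hC) : s * g * s⁻¹ ∈ nilGrp ι C hC := by
  intro k v hv
  have h1 := apply_mem ι (hs k) (hg k _ (apply_mem ι (inv_mem (hs (k + 1))) hv))
  rwa [map_sub, apply_inv', ← mul_apply', ← mul_apply'] at h1

theorem isPGroup_nilGrp {p : ℕ} [Fact p.Prime] [CharP K p] (hinj : Function.Injective ι)
    (C : ℕ → Submodule K V) (hC : Monotone C) (h0 : C 0 = ⊥) {L : ℕ} (hL : C L = ⊤) :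
    IsPGroup p (nilGrp ι C hC) := by
  rcases subsingleton_or_nontrivial V with hs | hs
  · exact fun g => ⟨0, Subtype.ext (hinj (LinearEquiv.ext fun v => Subsingleton.elim _ _))⟩
  rintro ⟨g, hg⟩
  refine ⟨L, Subtype.ext (hinj ?_)⟩
  set A : Module.End K V := (ι g).toLinearMap - 1
  have hA : ∀ j k, ∀ v ∈ C (k + j), (A ^ j) v ∈ C k := by
    intro j
    induction j with
    | zero => intro k v hv; simpa using hv
    | succ j ih =>
      intro k v hv
      rw [pow_succ, Module.End.mul_apply]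
      refine ih k _ ?_
      show ι g v - v ∈ C (k + j)
      exact hg (k + j) v hv
  haveI : CharP (Module.End K V) p :=
    charP_of_injective_algebraMap (algebraMap K (Module.End K V)).injective p
  have hAz : A ^ p ^ L = 0 := by
    obtain ⟨r, hr⟩ := Nat.le.dest (Nat.lt_pow_self (a := p) (n := L) (Fact.out : p.Prime).one_lt).le
    rw [← hr, pow_add]
    refine LinearMap.ext fun v => ?_
    rw [Module.End.mul_apply]
    have := hA L 0 ((A ^ r) v) (by rw [Nat.zero_add, hL]; trivial)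
    rw [h0, Submodule.mem_bot] at this
    exact this
  rw [show A = (ι g).toLinearMap - 1 from rfl,
    sub_pow_char_pow_of_commute _ _ (Commute.one_right _), one_pow, sub_eq_zero] at hAz
  have h2 : ((ι g ^ p ^ L : V ≃ₗ[K] V).toLinearMap : Module.End K V) =
      (ι g).toLinearMap ^ p ^ L :=
    map_pow (LinearEquiv.automorphismGroup.toLinearMapMonoidHom (R := K) (M := V)) (ι g) _
  show ι ((g : X) ^ p ^ L) = ι 1
  rw [map_pow, map_one]
  exact LinearEquiv.toLinearMap_injective (h2.trans hAz)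

section frame

variable (Fr : Frame P m)

theorem initSpan_zero : initSpan K Fr.e 0 = ⊥ := by simp [initSpan]

theorem initSpan_mono {c : Fin m → V} {i j : ℕ} (h : i ≤ j) : initSpan K c i ≤ initSpan K c j :=
  Submodule.span_mono (Set.image_mono fun _ ha => lt_of_lt_of_le ha h)

theorem vec_e : Fr.vec (1, fun _ => false) = Fr.e := funext fun j => by simp [Frame.vec]

theorem ts_E (d : ℕ) : P.TS (initSpan K Fr.e d) := by
  have := (Fr.chamber (1, fun _ => false)).ts d
  rwa [show (Fr.chamber (1, fun _ => false)).sub d = initSpan K Fr.e d from by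
    show initSpan K (Fr.vec _) d = _; rw [vec_e]] at this

theorem finrank_E (d : ℕ) : finrank K (initSpan K Fr.e d) = min d m := by
  have := (Fr.chamber (1, fun _ => false)).rank d
  rwa [show (Fr.chamber (1, fun _ => false)).sub d = initSpan K Fr.e d from by
    show initSpan K (Fr.vec _) d = _; rw [vec_e]] at this

theorem B_E_left {d : ℕ} {w : V} (h : ∀ j : Fin m, (j : ℕ) < d → P.B (Fr.e j) w = 0) {v : V}
    (hv : v ∈ initSpan K Fr.e d) : P.B v w = 0 := by
  induction hv using Submodule.span_induction with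
  | mem v hv => obtain ⟨j, hj, rfl⟩ := hv; exact h j hj
  | zero => simp
  | add a b _ _ ha hb => simp [ha, hb]
  | smul c a _ ha => simp [ha]

theorem mem_perp_E {d : ℕ} {w : V} :
    w ∈ P.perp (initSpan K Fr.e d) ↔ ∀ j : Fin m, (j : ℕ) < d → P.B w (Fr.e j) = 0 :=
  ⟨fun h j hj => h _ (mem_initSpan _ hj),
    fun h x hx => P.refl _ _ (B_E_left Fr (fun j hj => P.refl _ _ (h j hj)) hx)⟩

theorem e_mem_perp_E (i : Fin m) (d : ℕ) : Fr.e i ∈ P.perp (initSpan K Fr.e d) :=
  (mem_perp_E Fr).2 fun j _ => Fr.ee i j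

theorem f_mem_perp_E (i : Fin m) {d : ℕ} (h : d ≤ (i : ℕ)) :
    Fr.f i ∈ P.perp (initSpan K Fr.e d) :=
  (mem_perp_E Fr).2 fun j hj => by rw [Fr.fe, if_neg (fun e => by subst e; omega)]

theorem e_ne (i : Fin m) : Fr.e i ≠ 0 := fun h => by simpa [h] using Fr.ef i i

theorem B_e_f (i : Fin m) : P.B (Fr.e i) (Fr.f i) = 1 := by rw [Fr.ef, if_pos rfl]

/-- A vector of `E_d` pairs trivially with the later `f`. -/
theorem B_E_f {d : ℕ} {v : V} (hv : v ∈ initSpan K Fr.e d) (i : Fin m) (h : d ≤ (i : ℕ)) :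
    P.B v (Fr.f i) = 0 :=
  B_E_left Fr (fun j hj => by rw [Fr.ef, if_neg (fun e => by subst e; omega)]) hv

theorem e_not_mem_E (i : Fin m) {d : ℕ} (h : d ≤ (i : ℕ)) : Fr.e i ∉ initSpan K Fr.e d :=
  fun hm => one_ne_zero ((B_e_f Fr i).symm.trans (B_E_f Fr hm i h))

/-- The complete chain of a frame. -/
def flagChain (k : ℕ) : Submodule K V :=
  if k ≤ m then initSpan K Fr.e k else P.perp (initSpan K Fr.e (2 * m + 1 - k))

theorem flagChain_le {k : ℕ} (h : k ≤ m) : flagChain Fr k = initSpan K Fr.e k := if_pos h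

theorem flagChain_gt {k : ℕ} (h : m < k) :
    flagChain Fr k = P.perp (initSpan K Fr.e (2 * m + 1 - k)) := if_neg (not_le.2 h)

theorem flagChain_mono : Monotone (flagChain Fr) := by
  refine monotone_nat_of_le_succ fun k => ?_
  rcases lt_trichotomy k m with h | rfl | h
  · rw [flagChain_le Fr h.le, flagChain_le Fr (Nat.succ_le_of_lt h)]
    exact initSpan_mono k.le_succ
  · rw [flagChain_le Fr le_rfl, flagChain_gt Fr (Nat.lt_succ_self _),
      show 2 * k + 1 - (k + 1) = k by omega]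
    exact (ts_E Fr k).le_perp
  · rw [flagChain_gt Fr h, flagChain_gt Fr (by omega)]
    exact P.perp_anti (initSpan_mono (by omega))

theorem flagChain_zero : flagChain Fr 0 = ⊥ := by
  rw [flagChain_le Fr m.zero_le, initSpan_zero]

theorem flagChain_top : flagChain Fr (2 * m + 1) = ⊤ := by
  rw [flagChain_gt Fr (by omega), Nat.sub_self, initSpan_zero, P.perp_bot]

theorem mem_stab_chain (hι : ∀ g, IsIso P (ι g)) {s : X}
    (hs : ∀ d ≤ m, s ∈ stabW ι (initSpan K Fr.e d)) (k : ℕ) : s ∈ stabW ι (flagChain Fr k) := by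
  rcases le_or_gt k m with h | h
  · rw [flagChain_le Fr h]; exact hs k h
  · rw [flagChain_gt Fr h]; exact stabW_perp_le ι hι _ (hs _ (by omega))

/-- The unipotent group of the flag. -/
abbrev uGrp : Subgroup X := nilGrp ι (flagChain Fr) (flagChain_mono Fr)

/-- Root elements at `e_i` directed into the orthogonal of `E_{i+1}` are unipotent for the flag. -/
theorem root_mem_uGrp {g : X} {i : Fin m} {w : V} {a b c : K} (hw : w ∈ P.perp (initSpan K Fr.e (i + 1)))
    (hg : RootEl ι P g (Fr.e i) w a b c) : g ∈ uGrp ι Fr := by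
  intro k v hv
  rw [hg v, add_assoc, add_sub_cancel_left]
  have hu : ∀ {d : ℕ}, (i : ℕ) < d → Fr.e i ∈ initSpan K Fr.e d := fun h => mem_initSpan _ h
  have hvu : ∀ {d : ℕ}, (i : ℕ) < d → v ∈ P.perp (initSpan K Fr.e d) → P.B v (Fr.e i) = 0 :=
    fun h hd => hd _ (hu h)
  rcases lt_trichotomy k m with h | rfl | h
  · rw [flagChain_le Fr (Nat.succ_le_of_lt h)] at hv
    rw [flagChain_le Fr h.le]
    have h1 : P.B v (Fr.e i) = 0 := B_E_left Fr (fun j _ => Fr.ee j i) hv
    rw [h1, mul_zero, zero_smul, zero_add, mul_zero, add_zero]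
    rcases le_or_gt (k + 1) ((i : ℕ) + 1) with h2 | h2
    · rw [P.refl _ _ (hw v (initSpan_mono h2 hv)), mul_zero, zero_smul]; exact zero_mem _
    · exact Submodule.smul_mem _ _ (hu (by omega))
  · rw [flagChain_gt Fr (Nat.lt_succ_self _), show 2 * k + 1 - (k + 1) = k by omega] at hv
    rw [flagChain_le Fr le_rfl, hvu i.2 hv, mul_zero, zero_smul, zero_add]
    exact Submodule.smul_mem _ _ (hu i.2)
  · rw [flagChain_gt Fr (by omega)] at hv
    rw [flagChain_gt Fr h]
    refine add_mem ?_ (Submodule.smul_mem _ _ (e_mem_perp_E Fr i _))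
    rcases le_or_gt (2 * m + 1 - k) ((i : ℕ) + 1) with h2 | h2
    · exact Submodule.smul_mem _ _ (P.perp_anti (initSpan_mono h2) hw)
    · rw [hvu (by omega) hv, mul_zero, zero_smul]; exact zero_mem _

/-- In dimension at most `2m+1` a `p`-element fixing the flag is unipotent for it. -/
theorem mem_uGrp_of_pow {p : ℕ} [Fact p.Prime] [CharP K p] (hι : ∀ g, IsIso P (ι g))
    (hN : finrank K V ≤ 2 * m + 1) {s : X}
    (hs : ∀ d ≤ m, s ∈ stabW ι (initSpan K Fr.e d)) {n : ℕ} (hn : s ^ p ^ n = 1) :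
    s ∈ uGrp ι Fr := by
  intro k v hv
  have hst := mem_stab_chain ι Fr hι hs
  by_cases hvk : v ∈ flagChain Fr k
  · exact sub_mem (apply_mem ι (hst k) hvk) hvk
  have hrk : finrank K (flagChain Fr (k + 1)) ≤ finrank K (flagChain Fr k) + 1 := by
    rcases lt_trichotomy k m with h | rfl | h
    · rw [flagChain_le Fr (Nat.succ_le_of_lt h), flagChain_le Fr h.le, finrank_E, finrank_E]; omega
    · rw [flagChain_le Fr le_rfl, flagChain_gt Fr (Nat.lt_succ_self k),
        show 2 * k + 1 - (k + 1) = k by omega, finrank_E]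
      have := P.finrank_perp (initSpan K Fr.e k)
      rw [finrank_E] at this
      omega
    · rw [flagChain_gt Fr h, flagChain_gt Fr (by omega : m < k + 1)]
      have h1 := P.finrank_perp (initSpan K Fr.e (2 * m + 1 - k))
      have h2 := P.finrank_perp (initSpan K Fr.e (2 * m + 1 - (k + 1)))
      rw [finrank_E] at h1 h2
      omega
  have hsup : flagChain Fr k ⊔ Submodule.span K {v} = flagChain Fr (k + 1) := by
    refine sup_eq_of_finrank (flagChain_mono Fr k.le_succ) hv hvk ?_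
    have := finrank_sup_span hvk
    have h2 : finrank K ↥(flagChain Fr k ⊔ Submodule.span K {v}) ≤ finrank K (flagChain Fr (k + 1)) :=
      Submodule.finrank_mono (sup_le (flagChain_mono Fr (Nat.le_succ k))
        ((Submodule.span_singleton_le_iff_mem v _).2 hv))
    omega
  have hsv := apply_mem ι (hst (k + 1)) hv
  rw [← hsup, Submodule.mem_sup] at hsv
  obtain ⟨x, hx, y, hy, e⟩ := hsv
  obtain ⟨r, rfl⟩ := Submodule.mem_span_singleton.1 hy
  have hpow : ∀ j : ℕ, ι (s ^ j) v - r ^ j • v ∈ flagChain Fr k := by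
    intro j
    induction j with
    | zero => simp
    | succ j ih =>
      rw [pow_succ', mul_apply', show ι s (ι (s ^ j) v) - r ^ (j + 1) • v =
        ι s (ι (s ^ j) v - r ^ j • v) + r ^ j • x by rw [map_sub, map_smul, ← e, pow_succ]; module]
      exact add_mem (apply_mem ι (hst k) ih) (Submodule.smul_mem _ _ hx)
  have h1 := hpow (p ^ n)
  rw [hn, map_one, LinearEquiv.coe_one, id_eq,
    show v - r ^ p ^ n • v = (1 - r ^ p ^ n) • v by rw [sub_smul, one_smul]] at h1
  have h2 : 1 - r ^ p ^ n = 0 := by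
    by_contra h2
    exact hvk ((Submodule.smul_mem_iff _ h2).1 h1)
  have h3 : (1 - r) ^ p ^ n = 0 := by rw [sub_pow_char_pow, one_pow, h2]
  have h4 : r = 1 := (sub_eq_zero.1 (eq_zero_of_pow_eq_zero h3)).symm
  rw [← e, h4, one_smul, add_sub_cancel_right]
  exact hx

/-- Enough root elements: at singular `u`, towards any `w` orthogonal to it. -/
def HasRoot (P : PForm K V T) : Prop :=
  ∃ a b : K, a ≠ 0 ∧ b ≠ 0 ∧ ∀ u w, P.q0 u = 0 → P.B w u = 0 →
    ∃ (g : X) (c : K), (P.q0 w = 0 → c = 0) ∧ RootEl ι P g u w a b c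

variable {ι}

/-- A non-zero subspace invariant under the unipotent group contains `e₀`. -/
theorem e0_mem (hroot : HasRoot ι P) (hm : 1 ≤ m) (hN : 3 ≤ finrank K V) {W : Submodule K V}
    (hne : W ≠ ⊥) (hinv : uGrp ι Fr ≤ stabW ι W) : Fr.e ⟨0, hm⟩ ∈ W := by
  obtain ⟨a, b, ha, hb, hroot⟩ := hroot
  set i : Fin m := ⟨0, hm⟩
  set u := Fr.e i
  have hE1 : ∀ {x : V}, P.B x u = 0 → x ∈ P.perp (initSpan K Fr.e ((i : ℕ) + 1)) := fun h =>
    (mem_perp_E Fr).2 fun j hj => by rwa [show j = i from Fin.ext (by simp only [i] at hj ⊢; omega)]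
  have key : ∀ v ∈ W, v ≠ 0 → P.B v u = 0 → u ∈ W := by
    intro v hv hv0 hvu
    by_cases hvs : v ∈ Submodule.span K {u}
    · obtain ⟨t, rfl⟩ := Submodule.mem_span_singleton.1 hvs
      exact (Submodule.smul_mem_iff _ (fun h => hv0 (by rw [h, zero_smul]))).1 hv
    obtain ⟨w, hwu, hwv⟩ := exists_ne_of_not_mem P hvs
    obtain ⟨g, c, -, hg⟩ := hroot u w (Fr.qe i) hwu
    have h1 := sub_mem (apply_mem ι (hinv (root_mem_uGrp ι Fr (hE1 hwu) hg)) hv) hv
    rw [hg v, hvu, mul_zero, zero_smul, add_zero, mul_zero, add_zero, add_sub_cancel_left] at h1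
    exact (Submodule.smul_mem_iff _ (mul_ne_zero hb fun h => hwv (P.refl _ _ h))).1 h1
  obtain ⟨v, hv, hv0⟩ := Submodule.exists_mem_ne_zero_of_ne_bot hne
  by_cases hvu : P.B v u = 0
  · exact key v hv hv0 hvu
  obtain ⟨y, hy, hyu⟩ : ∃ y, P.B y u = 0 ∧ y ∉ Submodule.span K {u} := by
    by_contra hno
    push Not at hno
    have h1 : P.perp (Submodule.span K {u}) ≤ Submodule.span K {u} :=
      fun y hy => hno y (P.mem_perp_span.1 hy)
    have h2 := Submodule.finrank_mono h1
    have h3 := P.finrank_perp (Submodule.span K {u})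
    rw [finrank_span_singleton (e_ne Fr i)] at h2 h3
    omega
  obtain ⟨g, c, -, hg⟩ := hroot u y (Fr.qe i) hy
  have h1 := sub_mem (apply_mem ι (hinv (root_mem_uGrp ι Fr (hE1 hy) hg)) hv) hv
  rw [hg v, add_assoc, add_sub_cancel_left] at h1
  refine key _ h1 (fun h0 => hyu ?_) (by simp [hy, P.self _ (Fr.qe i), u])
  have h2 : (a * P.B v u) • y = -((b * P.B v y + c * P.B v u) • u) := eq_neg_of_add_eq_zero_left h0
  rw [← Submodule.smul_mem_iff (Submodule.span K {u}) (mul_ne_zero ha hvu), h2]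
  exact neg_mem (Submodule.smul_mem _ _ (Submodule.mem_span_singleton_self u))

/-- Invariant totally singular subspaces are standard, up to one exception at the top. -/
theorem classify (hroot : HasRoot ι P) (hw : Witt P m) (hm : 1 ≤ m)
    {W : Submodule K V} (hts : P.TS W) (hne : W ≠ ⊥) (hinv : uGrp ι Fr ≤ stabW ι W) :
    (∃ d, 1 ≤ d ∧ d ≤ m ∧ W = initSpan K Fr.e d) ∨
      (initSpan K Fr.e (m - 1) ≤ W ∧ ∃ v ∈ W, P.B v (Fr.e ⟨m - 1, by omega⟩) ≠ 0) := by
  classical
  obtain ⟨a, b, ha, hb, hroot⟩ := hroot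
  obtain ⟨d, hdm, hdW, hlast⟩ : ∃ d, d ≤ m ∧ initSpan K Fr.e d ≤ W ∧
      (d < m → ¬ initSpan K Fr.e (d + 1) ≤ W) :=
    ⟨Nat.findGreatest (fun d => initSpan K Fr.e d ≤ W) m, Nat.findGreatest_le m,
      Nat.findGreatest_spec (P := fun d => initSpan K Fr.e d ≤ W) m.zero_le
        (by rw [initSpan_zero]; exact bot_le),
      fun hlt => Nat.findGreatest_is_greatest (P := fun d => initSpan K Fr.e d ≤ W)
        (Nat.lt_succ_self _) hlt⟩
  by_cases heq : W = initSpan K Fr.e d
  · refine Or.inl ⟨d, ?_, hdm, heq⟩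
    by_contra hd0
    exact hne (by rw [heq, show d = 0 by omega, initSpan_zero])
  have hdlt : d < m := lt_of_le_of_ne hdm fun e => heq
    (Submodule.eq_of_le_of_finrank_le hdW (by rw [finrank_E, e, min_self]; exact hw.le W hts)).symm
  have hmax : ¬ initSpan K Fr.e (d + 1) ≤ W := hlast hdlt
  set i : Fin m := ⟨d, hdlt⟩
  have hsucc : initSpan K Fr.e (d + 1) = initSpan K Fr.e d ⊔ Submodule.span K {Fr.e i} :=
    initSpan_succ _ hdlt
  have hei : Fr.e i ∉ W := fun h =>
    hmax (hsucc ▸ sup_le hdW ((Submodule.span_singleton_le_iff_mem _ _).2 h))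
  have hperp : ∀ v ∈ W, v ∈ P.perp (initSpan K Fr.e d) := fun v hv =>
    P.perp_anti hdW (hts.le_perp hv)
  have key : ∀ v ∈ W, v ∉ initSpan K Fr.e d → P.B v (Fr.e i) = 0 → False := by
    intro v hv hvd hvi
    have hv1 : v ∈ P.perp (initSpan K Fr.e (d + 1)) := by
      rw [hsucc, P.perp_sup]; exact ⟨hperp v hv, P.mem_perp_span.2 hvi⟩
    by_cases hv2 : v ∈ initSpan K Fr.e (d + 1)
    · rw [hsucc, Submodule.mem_sup] at hv2
      obtain ⟨x, hx, y, hy, rfl⟩ := hv2
      obtain ⟨t, rfl⟩ := Submodule.mem_span_singleton.1 hy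
      have ht : t ≠ 0 := fun h => hvd (by rw [h, zero_smul, add_zero]; exact hx)
      exact hei ((Submodule.smul_mem_iff _ ht).1 (by simpa using sub_mem hv (hdW hx)))
    obtain ⟨w, hw1, hw2⟩ : ∃ w ∈ P.perp (initSpan K Fr.e (d + 1)), P.B v w ≠ 0 := by
      by_contra hno
      push Not at hno
      exact hv2 (P.perp_perp (initSpan K Fr.e (d + 1)) ▸ fun w hw => hno w hw)
    obtain ⟨g, c, -, hg⟩ :=
      hroot (Fr.e i) w (Fr.qe i) (hw1 _ (mem_initSpan (j := i) Fr.e (Nat.lt_succ_self d)))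
    have h1 := sub_mem (apply_mem ι (hinv (root_mem_uGrp ι Fr (i := i) hw1 hg)) hv) hv
    rw [hg v, hvi, mul_zero, zero_smul, add_zero, mul_zero, add_zero, add_sub_cancel_left] at h1
    exact hei ((Submodule.smul_mem_iff _ (mul_ne_zero hb hw2)).1 h1)
  obtain ⟨v, hv, hvd⟩ := SetLike.exists_of_lt (lt_of_le_of_ne hdW (Ne.symm heq))
  have hvi : P.B v (Fr.e i) ≠ 0 := fun h => key v hv hvd h
  by_cases hd1 : d + 1 < m
  · exfalso
    set j : Fin m := ⟨d + 1, hd1⟩
    obtain ⟨g, c, -, hg⟩ := hroot (Fr.e i) (Fr.e j) (Fr.qe i) (Fr.ee j i)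
    have h1 := sub_mem (apply_mem ι (hinv (root_mem_uGrp ι Fr (i := i) (e_mem_perp_E Fr j _) hg)) hv) hv
    rw [hg v, add_assoc, add_sub_cancel_left] at h1
    refine key _ h1 (fun h => ?_) (by simp [Fr.ee])
    have h2 := B_E_f Fr h j (Nat.le_succ d)
    have hij : i ≠ j := fun e => by simp [i, j, Fin.ext_iff] at e
    simp [Fr.ef, hij, ha, hvi] at h2
  · obtain rfl : d = m - 1 := by omega
    exact Or.inr ⟨hdW, v, hv, hvi⟩

end frame

end Cfsg.Agent.LieStruct.Polar
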