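/-
Polar spaces: the maximal overgroups of a Sylow subgroup (helper32).
-/
import Cfsg.Agent.LieStruct.PMinPolarBase
import Cfsg.Agent.LieStruct.PMinLinear
import Cfsg.Agent.PolarSteinberg52.Tools
import Cfsg.Agent.Lib.Thompson.Cores

set_option autoImplicit false
set_option linter.unusedSectionVars false

namespace Cfsg.Agent.LieStruct.Polar

open Cfsg.Agent.PolarSteinberg52 Module

universe u v w x y

variable {K : Type u} {V : Type v} {T : Type w} [Field K] [AddCommGroup V] [Module K V]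
  [FiniteDimensional K V] [AddCommGroup T] {P : PForm K V T}
  {X : Type x} [Group X] [Finite X] {ι : X →* (V ≃ₗ[K] V)} {m : ℕ}
  [Finite K] [Finite V] {p : ℕ} [hp : Fact p.Prime] [CharP K p]
  {G : Type y} [Group G] [Finite G] {π : X →* G}

/-- Rigidity of the maximal subspaces through a given hyperplane of one. -/
def LastFix (P : PForm K V T) (ι : X →* (V ≃ₗ[K] V)) (m : ℕ) : Prop :=
  ∀ u : X, ∀ M, P.TS M → finrank K M = m → ∀ W ≤ M, finrank K W + 1 = m →
    W.map (ι u : V →ₗ[K] V) = W → M.map (ι u : V →ₗ[K] V) = M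

/-- The standing hypotheses. -/
structure Setup (p : ℕ) (P : PForm K V T) (ι : X →* (V ≃ₗ[K] V)) (π : X →* G) (m : ℕ) : Prop where
  iso : ∀ g, IsIso P (ι g)
  inj : Function.Injective ι
  surj : Function.Surjective π
  ker : ∀ z, π z = 1 → ∃ c : K, ∀ v, ι z v = c • v
  witt : Witt P m
  one_le : 1 ≤ m
  dim : 3 ≤ finrank K V
  root : HasRoot ι P
  overP : Over p G
  last : p = 2 → Nat.card K ^ (finrank K V - 2 * m) * Nat.card {t : K // P.τ t = 0} = 1 →
    LastFix P ι m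

/-- A root element moving the top of any frame. -/
def Top (P : PForm K V T) (ι : X →* (V ≃ₗ[K] V)) (m : ℕ) : Prop :=
  ∀ (Fr : Frame P m) (i : Fin m) (u : V), (u = Fr.e i ∨ u = Fr.f i) →
    ∃ (g : X) (w : V) (a b c : K), (∀ j, P.B w (Fr.e j) = 0 ∧ P.B w (Fr.f j) = 0) ∧
      RootEl ι P g u w a b c ∧
      ∀ v, P.q0 v = 0 → P.B v u ≠ 0 → P.q0 (ι g v - v) ≠ 0 ∨ P.B (ι g v - v) v ≠ 0

/-- The condition of plus type. -/
structure PlusType (P : PForm K V T) (ι : X →* (V ≃ₗ[K] V)) (m : ℕ) : Prop where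
  two_le : 2 ≤ m
  dim : finrank K V = 2 * m
  tau : ∀ t, P.τ t = 0 → t = 0
  fix : LastFix P ι m

variable {Fr : Frame P m}

/-- Vectors of `E_d` in coordinates. -/
theorem eq_sum_of_mem (Fr : Frame P m) {d : ℕ} {v : V} (hv : v ∈ initSpan K Fr.e d) :
    v = ∑ i, P.B v (Fr.f i) • Fr.e i := by
  induction hv using Submodule.span_induction with
  | mem v hv =>
    obtain ⟨j, -, rfl⟩ := hv
    simp [Fr.ef, ite_smul]
  | zero => simp
  | add a b _ _ ha hb =>
    conv_lhs => rw [ha, hb, ← Finset.sum_add_distrib]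
    simp [add_smul]
  | smul c a _ ha =>
    conv_lhs => rw [ha, Finset.smul_sum]
    simp [smul_smul]

theorem exists_flag (S : Setup p P ι π m) :
    ∃ (Q : Sylow p X) (Fr : Frame P m),
      (∀ g ∈ (Q : Subgroup X), ∀ d ≤ m, g ∈ stabW ι (initSpan K Fr.e d)) ∧
      uGrp ι Fr ≤ (Q : Subgroup X) := by
  classical
  obtain ⟨Q⟩ : Nonempty (Sylow p X) := inferInstance
  obtain ⟨a, ha⟩ := exists_fixed_chamber S.witt ι S.iso (Q : Subgroup X) Q.2
    fun h h' u _ => S.last h h' u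
  letI : Fintype (Chamber P m) := Fintype.ofFinite _
  obtain ⟨x, hx⟩ : ∃ x, PolarSteinberg52.Opp 0 a x := by
    have h1 : 0 < Nat.card {x : Chamber P m // PolarSteinberg52.Opp 0 a x} := by
      rw [card_opp S.witt m 0 (Nat.zero_add m) a]
      refine Finset.prod_pos fun j _ => Nat.mul_pos (pow_pos Nat.card_pos _) ?_
      haveI : Nonempty {t : K // P.τ t = 0} := ⟨⟨0, map_zero _⟩⟩
      exact Nat.card_pos
    obtain ⟨⟨x, hx⟩⟩ := (Nat.card_pos_iff.1 h1).1
    exact ⟨x, hx⟩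
  obtain ⟨Fr, hFr, -⟩ := exists_frame hx
  have hfix : ∀ g ∈ (Q : Subgroup X), ∀ d ≤ m, g ∈ stabW ι (initSpan K Fr.e d) := fun g hg d hd => by
    have := congrArg (fun y : Chamber P m => y.sub d) (ha g hg)
    rw [← hFr d hd]; exact this
  refine ⟨Q, Fr, hfix, ?_⟩
  have hn : (Q : Subgroup X) ≤ Subgroup.normalizer (uGrp ι Fr : Set X) := fun g hg => by
    rw [Subgroup.mem_normalizer_iff]
    have hs := mem_stab_chain ι Fr S.iso (hfix g hg)
    refine fun y => ⟨fun hy => nilGrp_conj ι hs hy, fun hy => ?_⟩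
    have := nilGrp_conj ι (fun k => inv_mem (hs k)) hy
    simpa [mul_assoc] using this
  have hpg := IsPGroup.to_sup_of_normal_right' Q.2 (isPGroup_nilGrp ι (p := p) S.inj _
    (flagChain_mono Fr) (flagChain_zero Fr) (flagChain_top Fr)) hn
  exact le_sup_right.trans (Q.is_maximal' hpg le_sup_left).le

theorem ker_le_stabW (S : Setup p P ι π m) (W : Submodule K V) : π.ker ≤ stabW ι W := fun z hz => by
  obtain ⟨c, hc⟩ := S.ker z hz
  exact mem_stabW ι fun v hv => by rw [hc]; exact W.smul_mem c hv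

theorem mem_map_stabW (S : Setup p P ι π m) {W : Submodule K V} {g : X} :
    π g ∈ (stabW ι W).map π ↔ g ∈ stabW ι W := by
  refine ⟨?_, fun h => ⟨g, h, rfl⟩⟩
  rintro ⟨h, hh, e⟩
  have : h⁻¹ * g ∈ π.ker := by rw [MonoidHom.mem_ker, map_mul, map_inv, e, inv_mul_cancel]
  have := mul_mem hh (ker_le_stabW S W this)
  rwa [mul_inv_cancel_left] at this

/-- A proper overgroup of the Sylow subgroup fixes a totally singular subspace. -/
theorem exists_inv (S : Setup p P ι π m) (Q : Sylow p X) (Fr : Frame P m)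
    (hQ : uGrp ι Fr ≤ (Q : Subgroup X)) {Y : Subgroup G} (hQY : (Q : Subgroup X).map π ≤ Y)
    (hY : Y ≠ ⊤) : ∃ W, P.TS W ∧ W ≠ ⊥ ∧ Y.comap π ≤ stabW ι W := by
  classical
  set U : Sylow p G := Q.mapSurjective S.surj with hU
  have hUY : (U : Subgroup G) ≤ Y := hQY
  have hidx : ¬ p ∣ Y.index := fun h =>
    U.not_dvd_index (h.trans (Subgroup.index_dvd_of_le hUY))
  have hcore : Cfsg.pCore p ↥Y ≠ ⊥ := fun e => hY (S.overP Y e hidx)
  set N : Subgroup G := (Cfsg.pCore p ↥Y).map Y.subtype with hN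
  have hNp : IsPGroup p N := Thompson.isPGroup_pCore.map _
  have hNn : ∀ y ∈ Y, ∀ n ∈ N, y * n * y⁻¹ ∈ N := by
    rintro y hy _ ⟨n, hn, rfl⟩
    exact ⟨_, (Thompson.instPCoreNormal (p := p) (G := ↥Y)).conj_mem n hn ⟨y, hy⟩, rfl⟩
  have hnorm : (U : Subgroup G) ≤ Subgroup.normalizer (N : Set G) := fun y hy => by
    rw [Subgroup.mem_normalizer_iff]
    refine fun n => ⟨hNn y (hUY hy) n, fun h => ?_⟩
    have := hNn y⁻¹ (inv_mem (hUY hy)) _ h
    simpa [mul_assoc] using this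
  have hNU : N ≤ (Q : Subgroup X).map π :=
    le_sup_right.trans (U.is_maximal' (IsPGroup.to_sup_of_normal_right' U.2 hNp hnorm) le_sup_left).le
  haveI : Nontrivial V := Module.nontrivial_of_finrank_pos (R := K) (by have := S.dim; omega)
  obtain ⟨v₀, hv₀⟩ := _root_.exists_ne (0 : V)
  set M : Subgroup X := (Q : Subgroup X) ⊓ N.comap π with hM
  have hMn : ∀ y ∈ Y.comap π, ∀ n ∈ M, y * n * y⁻¹ ∈ M := by
    rintro y hy n ⟨hnQ, hnN⟩
    have h1 : π (y * n * y⁻¹) ∈ N := by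
      rw [map_mul, map_mul, map_inv]; exact hNn _ hy _ hnN
    obtain ⟨n', hn', e⟩ := hNU h1
    obtain ⟨k, hk⟩ := Q.2 ⟨n, hnQ⟩
    obtain ⟨l, hl⟩ := Q.2 ⟨n', hn'⟩
    have hk' : n ^ p ^ k = 1 := congrArg Subtype.val hk
    have hl' : n' ^ p ^ l = 1 := congrArg Subtype.val hl
    obtain ⟨z, hz⟩ : ∃ z, z = n'⁻¹ * (y * n * y⁻¹) := ⟨_, rfl⟩
    have hz1 : π z = 1 := by rw [hz, map_mul, map_inv, e, inv_mul_cancel]
    obtain ⟨c, hc⟩ := S.ker z hz1
    have hcomm : ∀ g, Commute g z := fun g => S.inj (by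
      refine LinearEquiv.ext fun v => ?_
      rw [mul_apply', mul_apply', hc, hc, map_smul])
    have hzp : z ^ p ^ (k + l) = 1 := by
      have h2 : (y * n * y⁻¹) ^ p ^ (k + l) = 1 := by
        rw [conj_pow, pow_add, pow_mul, hk', one_pow, mul_one, mul_inv_cancel]
      rw [show y * n * y⁻¹ = n' * z by rw [hz, mul_inv_cancel_left], (hcomm n').mul_pow,
        pow_add, mul_comm (p ^ k), pow_mul n', hl', one_pow, one_mul] at h2
      rwa [pow_add, mul_comm (p ^ k)]
    have hc1 : c = 1 := smul_left_injective K hv₀ (by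
      show c • v₀ = (1 : K) • v₀
      rw [one_smul, ← hc v₀]
      exact eigen_one hv₀ (by rw [← map_pow, hzp, map_one]) (hc v₀))
    have hz' : z = 1 := S.inj (LinearEquiv.ext fun v => by rw [hc, hc1, one_smul, map_one]; rfl)
    rw [hz, inv_mul_eq_one] at hz'
    exact ⟨hz' ▸ hn', h1⟩
  letI : DistribMulAction ↥M V :=
    DistribMulAction.compHom V ((ι.comp M.subtype))
  set W₀ : Submodule K V :=
    { carrier := {v | ∀ n ∈ M, ι n v = v}
      zero_mem' := fun n _ => map_zero _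
      add_mem' := fun {a b} ha hb n hn => by rw [map_add, ha n hn, hb n hn]
      smul_mem' := fun t a ha n hn => by rw [map_smul, ha n hn] } with hW₀
  have hW₀0 : W₀ ≠ ⊥ := by
    have hpV : p ∣ Nat.card V := by
      letI := Fintype.ofFinite K
      rw [Module.natCard_eq_pow_finrank (K := K)]
      refine dvd_pow ((CharP.cast_eq_zero_iff K p _).1 ?_) (by have := S.dim; omega)
      rw [Nat.card_eq_fintype_card, FiniteField.cast_card_eq_zero]
    obtain ⟨b, hb, hb0⟩ := (Q.2.to_le (inf_le_left : M ≤ _)).exists_fixed_point_of_prime_dvd_card_of_fixed_point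
      V hpV (a := (0 : V)) fun n => smul_zero n
    intro e
    have : b ∈ W₀ := fun n hn => hb ⟨n, hn⟩
    rw [e, Submodule.mem_bot] at this
    exact hb0 this.symm
  have hW₀t : W₀ ≠ ⊤ := fun e => hcore (by
    refine (Subgroup.eq_bot_iff_forall _).2 fun n hn => Subtype.ext ?_
    obtain ⟨n', hn', e'⟩ := hNU (⟨n, hn, rfl⟩ : Y.subtype n ∈ N)
    have hn1 : n' = 1 := S.inj (LinearEquiv.ext fun v => by
      rw [map_one]
      exact (e ▸ Submodule.mem_top : v ∈ W₀) n' ⟨hn', by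
        show π n' ∈ N
        rw [e']; exact ⟨n, hn, rfl⟩⟩)
    rw [hn1, map_one] at e'
    exact e'.symm)
  have hinv : Y.comap π ≤ stabW ι W₀ := fun y hy => mem_stabW ι fun v hv n hn => by
    have h1 := hv _ (hMn y⁻¹ (inv_mem hy) n hn)
    rw [inv_inv, mul_apply', mul_apply'] at h1
    conv_rhs => rw [← h1, apply_inv']
  have hQY' : uGrp ι Fr ≤ Y.comap π := hQ.trans fun g hg => hQY ⟨g, hg, rfl⟩
  have hperp : P.perp W₀ ≠ ⊥ := fun e => hW₀t (by
    rw [← P.perp_perp W₀, e, P.perp_bot])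
  set e₀ := Fr.e ⟨0, S.one_le⟩
  have he₀ : e₀ ∈ W₀ ⊓ P.perp W₀ :=
    ⟨e0_mem Fr S.root S.one_le S.dim hW₀0 (hQY'.trans hinv),
      e0_mem Fr S.root S.one_le S.dim hperp (hQY'.trans (hinv.trans (stabW_perp_le ι S.iso W₀)))⟩
  have hiso : ∀ a ∈ W₀ ⊓ P.perp W₀, ∀ b ∈ W₀ ⊓ P.perp W₀, P.B a b = 0 :=
    fun a ha b hb => ha.2 b hb.1
  set W₂ : Submodule K V :=
    { carrier := {v | v ∈ W₀ ⊓ P.perp W₀ ∧ P.q0 v = 0}
      zero_mem' := ⟨zero_mem _, P.q0_zero⟩
      add_mem' := fun {a b} ha hb => ⟨add_mem ha.1 hb.1, by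
        rw [P.q0_add, ha.2, hb.2, hiso a ha.1 b hb.1, map_zero, add_zero, add_zero]⟩
      smul_mem' := fun t a ha => ⟨Submodule.smul_mem _ t ha.1, P.q0_smul t a ha.2⟩ } with hW₂
  refine ⟨W₂, ⟨fun v hv => hv.2, fun v hv w hw => hiso v hv.1 w hw.1⟩, fun e => ?_, fun y hy => ?_⟩
  · have : e₀ ∈ W₂ := ⟨he₀, Fr.qe _⟩
    rw [e, Submodule.mem_bot] at this
    exact e_ne Fr _ this
  · exact mem_stabW ι fun v hv => ⟨⟨apply_mem ι (hinv hy) hv.1.1,
      apply_mem ι (stabW_perp_le ι S.iso W₀ (hinv hy)) hv.1.2⟩, ((S.iso y).2 v).trans hv.2⟩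

/-- The images of the stabilisers of a family of subspaces. -/
def famSys (ι : X →* (V ≃ₗ[K] V)) (π : X →* G) (W : Fin m → Submodule K V) : Set (Subgroup G) :=
  Set.range fun j => (stabW ι (W j)).map π

/-- The maximal overgroups from a family of subspaces. -/
theorem maxSys_fam (S : Setup p P ι π m) (Q : Sylow p X) (Fr : Frame P m)
    (hu : uGrp ι Fr ≤ (Q : Subgroup X)) (W : Fin m → Submodule K V)
    (hinv : ∀ j, (Q : Subgroup X) ≤ stabW ι (W j))
    (hcov : ∀ (W' : Submodule K V) (H : Subgroup X), uGrp ι Fr ≤ H → H ≤ stabW ι W' → P.TS W' →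
      W' ≠ ⊥ → ∃ j, H ≤ stabW ι (W j))
    (hmove : ∀ j, ∃ g, g ∉ stabW ι (W j) ∧ ∀ k, k ≠ j → g ∈ stabW ι (W k)) :
    MaxSys ((Q : Subgroup X).map π) (famSys ι π W) where
  le := by rintro _ ⟨j, rfl⟩; exact Subgroup.map_mono (hinv j)
  ne_top := by
    rintro _ ⟨j, rfl⟩ e
    obtain ⟨g, hg, -⟩ := hmove j
    exact hg ((mem_map_stabW S).1 ((show (stabW ι (W j)).map π = ⊤ from e).symm ▸ Subgroup.mem_top (π g)))
  cover := fun Y hQY hY => by
    obtain ⟨W', hts, hne, hW'⟩ := exists_inv S Q Fr hu hQY hY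
    obtain ⟨j, hj⟩ := hcov W' (Y.comap π) (hu.trans fun g hg => hQY ⟨g, hg, rfl⟩) hW' hts hne
    refine ⟨_, ⟨j, rfl⟩, fun y hy => ?_⟩
    obtain ⟨g, rfl⟩ := S.surj y
    exact ⟨g, hj hy, rfl⟩
  indep := by
    rintro _ ⟨j, rfl⟩ hle
    obtain ⟨g, hg, hgo⟩ := hmove j
    refine hg ((mem_map_stabW S).1 (hle (Subgroup.mem_sInf.2 ?_)))
    rintro _ ⟨⟨k, rfl⟩, hne⟩
    exact ⟨g, hgo k fun e => hne (by rw [e]; rfl), rfl⟩

theorem famSys_inj (S : Setup p P ι π m) {W : Fin m → Submodule K V}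
    (hmove : ∀ j, ∃ g, g ∉ stabW ι (W j) ∧ ∀ k, k ≠ j → g ∈ stabW ι (W k)) {i j : Fin m}
    (e : (stabW ι (W i)).map π = (stabW ι (W j)).map π) : i = j := by
  by_contra hne
  obtain ⟨g, hg, hgo⟩ := hmove i
  exact hg ((mem_map_stabW S).1 (e ▸ ⟨g, hgo j (Ne.symm hne), rfl⟩))

/-- A moved basis vector. -/
theorem not_mem_stab_E {g : X} {i : Fin m} {d : ℕ} (hi : (i : ℕ) < d) {k : Fin m} (hk : d ≤ (k : ℕ))
    (h : P.B (ι g (Fr.e i)) (Fr.f k) ≠ 0) : g ∉ stabW ι (initSpan K Fr.e d) :=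
  fun hg => h (B_E_f Fr (apply_mem ι hg (mem_initSpan _ hi)) k hk)

theorem mem_stab_E_of {g : X} {d : ℕ}
    (h : ∀ i : Fin m, (i : ℕ) < d → ι g (Fr.e i) ∈ initSpan K Fr.e d) :
    g ∈ stabW ι (initSpan K Fr.e d) := mem_stabW ι fun v hv => by
  induction hv using Submodule.span_induction with
  | mem v hv => obtain ⟨i, hi, rfl⟩ := hv; exact h i hi
  | zero => simp
  | add a b _ _ ha hb => rw [map_add]; exact add_mem ha hb
  | smul c a _ ha => rw [map_smul]; exact Submodule.smul_mem _ c ha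

/-- The middle movers: `e_j ↦ e_j + b e_{j+1}`. -/
theorem exists_mid (S : Setup p P ι π m) (Fr : Frame P m) {j : Fin m} {j' : Fin m}
    (hj : (j' : ℕ) = j + 1) :
    ∃ g, (∀ k, k ≠ j' → ι g (Fr.f k) = Fr.f k) ∧ g ∉ stabW ι (initSpan K Fr.e (j + 1)) ∧
      ∀ d ≤ m, d ≠ (j : ℕ) + 1 → g ∈ stabW ι (initSpan K Fr.e d) := by
  obtain ⟨a, b, ha, hb, hroot⟩ := S.root
  have hne : j ≠ j' := fun e => by subst e; omega
  obtain ⟨g, c, hc, hg⟩ := hroot (Fr.e j') (Fr.f j) (Fr.qe _) (by rw [Fr.fe, if_neg hne])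
  have he : ∀ i, ι g (Fr.e i) = Fr.e i + (if i = j then b else 0) • Fr.e j' := fun i => by
    rw [hg, Fr.ee, Fr.ef]
    split_ifs <;> simp
  refine ⟨g, fun k hk => ?_, ?_, fun d hd hne' => mem_stab_E_of fun i hi => ?_⟩
  · rw [hg, Fr.fe, if_neg hk, Fr.ff]; simp
  · refine not_mem_stab_E (i := j) (k := j') (Nat.lt_succ_self _) hj.ge ?_
    rw [he, if_pos rfl, map_add, LinearMap.add_apply, map_smul, LinearMap.smul_apply, B_e_f, Fr.ef,
      if_neg hne]
    simpa using hb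
  · rw [he]
    refine add_mem (mem_initSpan _ hi) ?_
    split_ifs with h
    · subst h
      exact Submodule.smul_mem _ _ (mem_initSpan _ (by omega))
    · rw [zero_smul]; exact zero_mem _

variable (Fr)

/-- The standard family. -/
def famE (j : Fin m) : Submodule K V := initSpan K Fr.e (j + 1)

/-- The other maximal subspace through `E_{m-1}`. -/
def otherMax (hm : 1 ≤ m) : Submodule K V :=
  initSpan K Fr.e (m - 1) ⊔ Submodule.span K {Fr.f ⟨m - 1, by omega⟩}

/-- The family of plus type. -/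
def famPlus (hm : 1 ≤ m) (j : Fin m) : Submodule K V :=
  if (j : ℕ) + 2 = m then otherMax Fr hm else famE Fr j

variable {Fr}

theorem std_fam (S : Setup p P ι π m) (htop : Top P ι m) (Q : Sylow p X)
    (hQ : ∀ g ∈ (Q : Subgroup X), ∀ d ≤ m, g ∈ stabW ι (initSpan K Fr.e d))
    (hu : uGrp ι Fr ≤ (Q : Subgroup X)) :
    MaxSys ((Q : Subgroup X).map π) (famSys ι π (famE Fr)) ∧
      ∀ j, ∃ g, g ∉ stabW ι (famE Fr j) ∧ ∀ k, k ≠ j → g ∈ stabW ι (famE Fr k) := by
  have hm := S.one_le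
  have hmove : ∀ j, ∃ g, g ∉ stabW ι (famE Fr j) ∧ ∀ k, k ≠ j → g ∈ stabW ι (famE Fr k) := by
    intro j
    by_cases hj : (j : ℕ) + 1 < m
    · obtain ⟨g, -, hg, hgo⟩ := exists_mid S Fr (j := j) (j' := ⟨j + 1, hj⟩) rfl
      exact ⟨g, hg, fun k hk => hgo _ k.2 fun e => hk (Fin.ext (by omega))⟩
    · obtain ⟨g, w, a, b, c, hw, hg, hv⟩ := htop Fr j (Fr.f j) (Or.inr rfl)
      refine ⟨g, fun hgs => ?_, fun k hk => mem_stab_E_of fun i hi => ?_⟩
      · have hts := ts_E Fr ((j : ℕ) + 1)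
        have hmem := mem_initSpan (K := K) Fr.e (j := j) (Nat.lt_succ_self (j : ℕ))
        have hd := sub_mem (apply_mem ι hgs hmem) hmem
        rcases hv (Fr.e j) (Fr.qe j) (by rw [B_e_f]; exact one_ne_zero) with h | h
        · exact h (hts.q0_eq _ hd)
        · exact h (hts.le_perp hd _ hmem)
      · have hij : i ≠ j := fun e => hk (Fin.ext (by
          have := k.2; have := j.2; subst e; omega))
        rw [hg, Fr.ef, if_neg hij, P.refl _ _ (hw i).1]
        simpa using mem_initSpan _ hi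
  refine ⟨maxSys_fam S Q Fr hu _ (fun j g hg => hQ g hg _ j.2) (fun W' H hH hW' hts hne => ?_) hmove,
    hmove⟩
  rcases classify Fr S.root S.witt hm hts hne (hH.trans hW') with ⟨d, h1, h2, rfl⟩ | ⟨hle, v, hv, hve⟩
  · refine ⟨⟨d - 1, by omega⟩, ?_⟩
    rw [famE, show ((⟨d - 1, _⟩ : Fin m) : ℕ) + 1 = d from Nat.sub_add_cancel h1]
    exact hW'
  · exfalso
    set l : Fin m := ⟨m - 1, by omega⟩
    obtain ⟨g, w, a, b, c, hw, hg, hv'⟩ := htop Fr l (Fr.e l) (Or.inl rfl)
    have hgu : g ∈ uGrp ι Fr :=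
      root_mem_uGrp ι Fr (i := l) ((mem_perp_E Fr).2 fun j _ => (hw j).1) hg
    have hd := sub_mem (apply_mem ι (hW' (hH hgu)) hv) hv
    rcases hv' v (hts.q0_eq v hv) hve with h | h
    · exact h (hts.q0_eq _ hd)
    · exact h (hts.le_perp hd _ hv)

theorem plus_fam (S : Setup p P ι π m) (hP : PlusType P ι m) (Q : Sylow p X)
    (hQ : ∀ g ∈ (Q : Subgroup X), ∀ d ≤ m, g ∈ stabW ι (initSpan K Fr.e d))
    (hu : uGrp ι Fr ≤ (Q : Subgroup X)) :
    MaxSys ((Q : Subgroup X).map π) (famSys ι π (famPlus Fr S.one_le)) ∧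
      ∀ j, ∃ g, g ∉ stabW ι (famPlus Fr S.one_le j) ∧
        ∀ k, k ≠ j → g ∈ stabW ι (famPlus Fr S.one_le k) := by
  have hm2 := hP.two_le
  obtain ⟨a, b, ha, hb, hroot⟩ := S.root
  set l : Fin m := ⟨m - 1, by omega⟩ with hl
  set l' : Fin m := ⟨m - 2, by omega⟩ with hl'
  have hll : l ≠ l' := fun e => by simp [hl, hl', Fin.ext_iff] at e; omega
  set E' := otherMax Fr S.one_le with hE'
  have hfperp : Fr.f l ∈ P.perp (initSpan K Fr.e (m - 1)) := f_mem_perp_E Fr l le_rfl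
  have hts' : P.TS E' := PForm.TS.sup_span P (ts_E Fr _) hfperp (Fr.qf l)
  have hfnot : Fr.f l ∉ initSpan K Fr.e (m - 1) := fun h => by
    have := (ts_E Fr m).le_perp (mem_initSpan (K := K) Fr.e (j := l) (show (l : ℕ) < m by omega)) (Fr.f l)
      (initSpan_mono (Nat.sub_le m 1) h)
    rw [B_e_f] at this
    exact one_ne_zero this
  have hrk' : finrank K E' = m := by
    rw [hE', otherMax, finrank_sup_span hfnot, finrank_E]; omega
  have hrk : finrank K (initSpan K Fr.e (m - 1)) + 1 = m := by rw [finrank_E]; omega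
  have hfixM : ∀ g, g ∈ stabW ι (initSpan K Fr.e (m - 1)) →
      g ∈ stabW ι (initSpan K Fr.e m) ∧ g ∈ stabW ι E' := fun g hg =>
    ⟨hP.fix g _ (ts_E Fr m) (by rw [finrank_E, min_self]) _ (initSpan_mono (Nat.sub_le m 1)) hrk hg,
      hP.fix g _ hts' hrk' _ le_sup_left hrk hg⟩
  have hfam : ∀ g (k : Fin m), ((k : ℕ) + 2 ≠ m → g ∈ stabW ι (famE Fr k)) →
      ((k : ℕ) + 2 = m → g ∈ stabW ι E') → g ∈ stabW ι (famPlus Fr S.one_le k) := fun g k h1 h2 => by
    unfold famPlus; split_ifs with h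
    exacts [h2 h, h1 h]
  have hmove : ∀ j, ∃ g, g ∉ stabW ι (famPlus Fr S.one_le j) ∧
      ∀ k, k ≠ j → g ∈ stabW ι (famPlus Fr S.one_le k) := by
    intro j
    rcases lt_trichotomy ((j : ℕ) + 2) m with hj | hj | hj
    · obtain ⟨g, -, hg, hgo⟩ := exists_mid S Fr (j := j) (j' := ⟨j + 1, by omega⟩) rfl
      refine ⟨g, ?_, fun k hk => hfam g k (fun _ => hgo _ k.2 fun e => hk (Fin.ext (by omega)))
        fun _ => (hfixM g (hgo (m - 1) (Nat.sub_le m 1) (by omega))).2⟩
      rw [famPlus, if_neg hj.ne]; exact hg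
    · -- move `E'_m`
      obtain ⟨g, c, hc, hg⟩ := hroot (Fr.f l') (Fr.e l) (Fr.qf _) (by rw [Fr.ef, if_neg hll])
      have hc0 := hc (Fr.qe l)
      have he : ∀ i, ι g (Fr.e i) = Fr.e i + (if i = l' then a else 0) • Fr.e l := fun i => by
        rw [hg, Fr.ee, Fr.ef, hc0]
        split_ifs <;> simp
      refine ⟨g, ?_, fun k hk => hfam g k (fun hk2 => mem_stab_E_of fun i hi => ?_) fun hk2 =>
        absurd (Fin.ext (by omega)) hk⟩
      · rw [famPlus, if_pos hj]
        intro hgs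
        have hmem : Fr.f l ∈ E' := Submodule.mem_sup_right (Submodule.mem_span_singleton_self _)
        have h1 := sub_mem (apply_mem ι hgs hmem) hmem
        rw [hg, Fr.ff, Fr.fe, if_pos rfl, hc0] at h1
        simp only [mul_zero, zero_smul, add_zero, add_sub_cancel_left] at h1
        have hb' : Fr.f l' ∈ E' := (Submodule.smul_mem_iff _
          (mul_ne_zero hb (ε_ne_zero P))).1 h1
        have h2 := hts'.le_perp (Submodule.mem_sup_left (mem_initSpan (K := K) Fr.e (j := l')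
          (show (l' : ℕ) < m - 1 by simp [hl']; omega))) _ hb'
        rw [B_e_f] at h2
        exact one_ne_zero h2
      · rw [he]
        refine add_mem (mem_initSpan _ hi) ?_
        split_ifs with h
        · exact Submodule.smul_mem _ _ (mem_initSpan _ (by subst h; simp [hl, hl'] at *; omega))
        · rw [zero_smul]; exact zero_mem _
    · -- move `E_m`
      obtain ⟨g, c, hc, hg⟩ := hroot (Fr.f l') (Fr.f l) (Fr.qf _) (Fr.ff _ _)
      have hc0 := hc (Fr.qf l)
      have hje : (j : ℕ) + 1 = m := by omega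
      have hfl : ι g (Fr.f l) = Fr.f l := by rw [hg, Fr.ff, Fr.ff]; simp
      refine ⟨g, ?_, fun k hk => hfam g k (fun hk2 => mem_stab_E_of fun i hi => ?_) fun _ => ?_⟩
      · rw [famPlus, if_neg (by omega), famE, hje]
        intro hgs
        have hmem := mem_initSpan (K := K) Fr.e (j := l') (show (l' : ℕ) < m from l'.2)
        have h1 := (ts_E Fr m).le_perp (apply_mem ι hgs hmem) _
          (mem_initSpan (K := K) Fr.e (j := l) (show (l : ℕ) < m from l.2))
        rw [hg, B_e_f, Fr.ef, if_neg (Ne.symm hll), hc0] at h1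
        simp [Fr.ee, Fr.fe, ha, ε_ne_zero P, hll] at h1
      · have hkm : (k : ℕ) + 2 < m := by
          rcases lt_trichotomy ((k : ℕ) + 2) m with h | h | h
          · exact h
          · exact absurd h hk2
          · exact absurd (Fin.ext (by have := k.2; omega)) hk
        have hi1 : i ≠ l' := fun e => by subst e; simp [hl'] at hi; omega
        have hi2 : i ≠ l := fun e => by subst e; simp [hl] at hi; omega
        rw [hg, Fr.ef, Fr.ef, if_neg hi1, if_neg hi2]
        simpa using mem_initSpan _ hi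
      · refine mem_stabW ι fun v hv => ?_
        obtain ⟨x, hx, y, hy, rfl⟩ := Submodule.mem_sup.1 hv
        obtain ⟨t, rfl⟩ := Submodule.mem_span_singleton.1 hy
        rw [map_add, map_smul, hfl]
        refine add_mem ?_ (Submodule.mem_sup_right hy)
        rw [hg, P.refl _ _ (hfperp x hx), hc0]
        simp only [mul_zero, zero_mul, add_zero, zero_smul]
        exact add_mem (Submodule.mem_sup_left hx)
          (Submodule.mem_sup_right (Submodule.smul_mem _ _ (Submodule.mem_span_singleton_self _)))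
  refine ⟨maxSys_fam S Q Fr hu _ (fun j g hg => hfam g j (fun _ => hQ g hg _ j.2)
    (fun _ => (hfixM g (hQ g hg _ (Nat.sub_le m 1))).2)) (fun W' H hH hW' hts hne => ?_) hmove, hmove⟩
  have hEm : famPlus Fr S.one_le l = initSpan K Fr.e m := by
    rw [famPlus, if_neg (by simp [hl]; omega), famE]
    congr 1; simp [hl]; omega
  rcases classify Fr S.root S.witt S.one_le hts hne (hH.trans hW') with
    ⟨d, h1, h2, rfl⟩ | ⟨hle, v, hv, hve⟩
  · by_cases hd : d = m - 1
    · exact ⟨l, hEm ▸ fun g hg => (hfixM g (hd ▸ hW' hg)).1⟩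
    · refine ⟨⟨d - 1, by omega⟩, ?_⟩
      rw [famPlus, if_neg (by simp only; omega), famE,
        show ((⟨d - 1, _⟩ : Fin m) : ℕ) + 1 = d from Nat.sub_add_cancel h1]
      exact hW'
  · have hvp : v ∈ P.perp (initSpan K Fr.e (m - 1)) := P.perp_anti hle (hts.le_perp hv)
    set α := P.B v (Fr.f l)
    set β := P.B v (Fr.e l) / P.ε
    have hβ : β ≠ 0 := div_ne_zero hve (ε_ne_zero P)
    have hdec : v = (∑ i ∈ Finset.univ.erase l, P.B v (Fr.f i) • Fr.e i) + (α • Fr.e l + β • Fr.f l) := by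
      conv_lhs => rw [← Fr.proj_eq_self hP.dim v, Frame.proj,
        ← Finset.sum_erase_add _ _ (Finset.mem_univ l)]
      congr 1
      refine Finset.sum_congr rfl fun i hi => ?_
      have hil : (i : ℕ) < m - 1 := by
        have := i.2; have : i ≠ l := Finset.ne_of_mem_erase hi
        simp [hl, Fin.ext_iff] at this; omega
      rw [hvp _ (mem_initSpan _ hil), zero_div, zero_smul, add_zero]
    set x := ∑ i ∈ Finset.univ.erase l, P.B v (Fr.f i) • Fr.e i with hx
    have hxE : x ∈ initSpan K Fr.e (m - 1) := sum_mem fun i hi => Submodule.smul_mem _ _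
      (mem_initSpan _ (by
        have := i.2; have : i ≠ l := Finset.ne_of_mem_erase hi
        simp [hl, Fin.ext_iff] at this; omega))
    have hy : α • Fr.e l + β • Fr.f l ∈ W' := by
      have := sub_mem hv (hle hxE)
      rwa [hdec, add_sub_cancel_left] at this
    have hα : α = 0 := by
      have h0 := hts.q0_eq _ hy
      rw [P.q0_add, P.q0_smul _ _ (Fr.qe l), P.q0_smul _ _ (Fr.qf l), zero_add, zero_add] at h0
      simp only [LinearMap.map_smulₛₗ, RingHom.id_apply, LinearMap.smul_apply, B_e_f, smul_eq_mul,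
        mul_one] at h0
      exact ((mul_eq_zero.1 (hP.tau _ h0)).resolve_left ((map_ne_zero P.σ).2 hβ))
    rw [hα, zero_smul, zero_add] at hy
    have hEW : E' ≤ W' := sup_le hle ((Submodule.span_singleton_le_iff_mem _ _).2
      ((Submodule.smul_mem_iff _ hβ).1 hy))
    have he : E' = W' := Submodule.eq_of_le_of_finrank_le hEW (hrk'.symm ▸ S.witt.le W' hts)
    refine ⟨l', ?_⟩
    rw [famPlus, if_pos (by simp [hl']; omega), ← hE', he]
    exact hW'

end Cfsg.Agent.LieStruct.Polar
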