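/-
Polar spaces: what automorphisms do to the maximal overgroups of a Sylow subgroup (helper32).
-/
import Cfsg.Agent.LieStruct.PMinPolar

set_option autoImplicit false
set_option linter.unusedSectionVars false

namespace Cfsg.Agent.LieStruct.Polar

open Cfsg.Agent.PolarSteinberg52 Module

universe u v w x y

variable {K : Type u} {V : Type v} {T : Type w} [Field K] [AddCommGroup V] [Module K V]
  [FiniteDimensional K V] [AddCommGroup T] {P : PForm K V T}
  {X : Type x} [Group X] [Finite X] {ι : X →* (V ≃ₗ[K] V)} {m : ℕ}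
  [Finite K] [Finite V] {p : ℕ} [hp : Fact p.Prime] [CharP K p]
  {G : Type y} [Group G] [Finite G] {π : X →* G}

/-- The images of `W` under `H`. -/
def imgs (ι : X →* (V ≃ₗ[K] V)) (H : Subgroup X) (W : Submodule K V) : Set (Submodule K V) :=
  {L | ∃ g ∈ H, W.map (ι g : V →ₗ[K] V) = L}

theorem card_imgs_mul (H : Subgroup X) (W : Submodule K V) :
    (imgs ι H W).ncard * Nat.card ↥(H ⊓ stabW ι W) = Nat.card H := by
  classical
  letI : MulAction ↥H (Submodule K V) :=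
    { smul := fun g L => L.map (ι (g : X) : V →ₗ[K] V)
      one_smul := fun L => by
        show L.map ((ι ((1 : H) : X) : V ≃ₗ[K] V) : V →ₗ[K] V) = L
        rw [OneMemClass.coe_one, map_one]; exact Submodule.map_id L
      mul_smul := fun g h L => by
        show L.map ((ι ((g : X) * h) : V ≃ₗ[K] V) : V →ₗ[K] V) = _
        rw [map_mul]
        exact Submodule.map_comp (ι (h : X) : V →ₗ[K] V) (ι (g : X) : V →ₗ[K] V) L }
  have h1 : MulAction.orbit ↥H W = imgs ι H W := by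
    ext L
    exact ⟨fun ⟨g, hg⟩ => ⟨g, g.2, hg⟩, fun ⟨g, hg, e⟩ => ⟨⟨g, hg⟩, e⟩⟩
  have h2 : MulAction.stabilizer ↥H W = (H ⊓ stabW ι W).subgroupOf H := by
    ext g
    rw [MulAction.mem_stabilizer_iff, Subgroup.mem_subgroupOf, Subgroup.mem_inf]
    exact ⟨fun h => ⟨g.2, h⟩, fun h => h.2⟩
  rw [← h1, ← MulAction.index_stabilizer, h2,
    ← Nat.card_congr (Subgroup.subgroupOfEquivOfLe (inf_le_left : H ⊓ stabW ι W ≤ H)).toEquiv,
    Subgroup.index_mul_card]

/-- The stabilisers of `E_1` and `E_2` have different orders. -/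
def CardNe (ι : X →* (V ≃ₗ[K] V)) (Fr : Frame P m) : Prop :=
  Nat.card ↥(stabW ι (initSpan K Fr.e 1)) ≠ Nat.card ↥(stabW ι (initSpan K Fr.e 2))

theorem cardNe_of_imgs (Fr : Frame P m)
    (h : (imgs ι (stabW ι (initSpan K Fr.e 1)) (initSpan K Fr.e 2)).ncard ≠
      (imgs ι (stabW ι (initSpan K Fr.e 2)) (initSpan K Fr.e 1)).ncard) : CardNe ι Fr := by
  intro e
  have h1 := card_imgs_mul (ι := ι) (stabW ι (initSpan K Fr.e 1)) (initSpan K Fr.e 2)
  have h2 := card_imgs_mul (ι := ι) (stabW ι (initSpan K Fr.e 2)) (initSpan K Fr.e 1)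
  rw [inf_comm (stabW ι (initSpan K Fr.e 2)), ← e] at h2
  exact h (Nat.eq_of_mul_eq_mul_right Nat.card_pos (h1.trans h2.symm))

section bounds

variable (Fr : Frame P m)

theorem E_one (h : 1 ≤ m) : initSpan K Fr.e 1 = Submodule.span K {Fr.e ⟨0, h⟩} := by
  rw [initSpan_succ _ h, initSpan_zero, bot_sup_eq]

theorem E_two (h : 2 ≤ m) : initSpan K Fr.e 2 =
    Submodule.span K {Fr.e ⟨0, by omega⟩} ⊔ Submodule.span K {Fr.e ⟨1, h⟩} := by
  rw [initSpan_succ _ h, E_one Fr (by omega)]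

theorem mem_stab_E_one (h : 1 ≤ m) {g : X} (hg : ι g (Fr.e ⟨0, h⟩) = Fr.e ⟨0, h⟩) :
    g ∈ stabW ι (initSpan K Fr.e 1) := mem_stab_E_of fun i hi => by
  rw [show i = ⟨0, h⟩ from Fin.ext (Nat.lt_one_iff.1 hi), hg]
  exact mem_initSpan _ Nat.one_pos

theorem map_E_two (h : 2 ≤ m) {g : X} (hg : ι g (Fr.e ⟨0, by omega⟩) = Fr.e ⟨0, by omega⟩) :
    (initSpan K Fr.e 2).map (ι g : V →ₗ[K] V) =
      Submodule.span K {Fr.e ⟨0, by omega⟩} ⊔ Submodule.span K {ι g (Fr.e ⟨1, h⟩)} := by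
  rw [E_two Fr h, Submodule.map_sup, Submodule.map_span, Submodule.map_span, Set.image_singleton,
    Set.image_singleton, LinearEquiv.coe_coe, hg]

/-- Two normalised vectors spanning the same plane with `e₀` are equal. -/
theorem eq_of_plane (h : 2 ≤ m) {x y : V}
    (hx0 : P.B x (Fr.f ⟨0, by omega⟩) = 0) (hx1 : P.B x (Fr.f ⟨1, h⟩) = 1)
    (hy0 : P.B y (Fr.f ⟨0, by omega⟩) = 0) (hy1 : P.B y (Fr.f ⟨1, h⟩) = 1)
    (e : Submodule.span K {Fr.e ⟨0, by omega⟩} ⊔ Submodule.span K {x} =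
      Submodule.span K {Fr.e ⟨0, by omega⟩} ⊔ Submodule.span K {y}) : x = y := by
  have hy : y ∈ Submodule.span K {Fr.e ⟨0, by omega⟩} ⊔ Submodule.span K {x} :=
    e ▸ Submodule.mem_sup_right (Submodule.mem_span_singleton_self y)
  obtain ⟨a, ha, b, hb, rfl⟩ := Submodule.mem_sup.1 hy
  obtain ⟨s, rfl⟩ := Submodule.mem_span_singleton.1 ha
  obtain ⟨t, rfl⟩ := Submodule.mem_span_singleton.1 hb
  have hne : (⟨0, by omega⟩ : Fin m) ≠ ⟨1, h⟩ := by simp [Fin.ext_iff]
  simp only [map_add, map_smul, LinearMap.add_apply, LinearMap.smul_apply, Fr.ef, hx0, hx1,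
    if_neg hne, if_true, smul_eq_mul, mul_zero, mul_one, zero_add, add_zero] at hy0 hy1
  rw [hy0, hy1, zero_smul, zero_add, one_smul]

/-- The points of a line. -/
theorem ncard_line_le (h : 2 ≤ m) :
    (imgs ι (stabW ι (initSpan K Fr.e 2)) (initSpan K Fr.e 1)).ncard ≤ Nat.card K + 1 := by
  classical
  set e0 := Fr.e ⟨0, by omega⟩
  set e1 := Fr.e ⟨1, h⟩
  let ψ : Option K → Submodule K V := fun o =>
    o.elim (Submodule.span K {e1}) fun t => Submodule.span K {e0 + t • e1}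
  refine le_trans (Set.ncard_le_ncard (t := Set.range ψ) ?_ (Set.finite_range ψ))
    ((Finite.card_range_le ψ).trans_eq' ?_ |>.trans_eq (Finite.card_option))
  · rintro _ ⟨g, hg, rfl⟩
    rw [E_one Fr (by omega), Submodule.map_span, Set.image_singleton, LinearEquiv.coe_coe]
    have hne : ι g e0 ≠ 0 := (ι g).map_ne_zero_iff.2 (e_ne Fr _)
    have hmem : ι g e0 ∈ initSpan K Fr.e 2 := apply_mem ι hg (mem_initSpan _ (by norm_num))
    rw [E_two Fr h] at hmem
    obtain ⟨a, ha, b, hb, e⟩ := Submodule.mem_sup.1 hmem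
    obtain ⟨s, rfl⟩ := Submodule.mem_span_singleton.1 ha
    obtain ⟨t, rfl⟩ := Submodule.mem_span_singleton.1 hb
    rw [← e] at hne ⊢
    by_cases hs : s = 0
    · refine ⟨none, ?_⟩
      rw [hs, zero_smul, zero_add] at hne ⊢
      exact (Submodule.span_singleton_smul_eq (isUnit_iff_ne_zero.2 fun ht => hne (by
        rw [ht, zero_smul])) e1).symm
    · refine ⟨some (s⁻¹ * t), ?_⟩
      show Submodule.span K {e0 + (s⁻¹ * t) • e1} = _
      rw [← Submodule.span_singleton_smul_eq (isUnit_iff_ne_zero.2 hs) (e0 + (s⁻¹ * t) • e1), smul_add,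
        smul_smul, mul_inv_cancel_left₀ hs]
  · rw [Nat.card_coe_set_eq]

variable {Fr}

/-- In Witt index at least three a point lies on more lines than a line has points. -/
theorem cardNe_three (S : Setup p P ι π m) (h3 : 3 ≤ m) (Fr : Frame P m) : CardNe ι Fr := by
  classical
  refine cardNe_of_imgs Fr ?_
  obtain ⟨a, b, ha, hb, hroot⟩ := S.root
  set i0 : Fin m := ⟨0, by omega⟩
  set i1 : Fin m := ⟨1, by omega⟩
  set i2 : Fin m := ⟨2, by omega⟩
  have h01 : i0 ≠ i1 := by simp [i0, i1, Fin.ext_iff]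
  have h02 : i0 ≠ i2 := by simp [i0, i2, Fin.ext_iff]
  have h12 : i1 ≠ i2 := by simp [i1, i2, Fin.ext_iff]
  have hexg : ∀ t : K, ∃ g : X, ι g (Fr.e i0) = Fr.e i0 ∧
      ι g (Fr.e i1) = Fr.e i1 + (b * P.σ t) • Fr.e i2 := fun t => by
    obtain ⟨g, c, -, hg⟩ := hroot (Fr.e i2) (t • Fr.f i1) (Fr.qe _)
      (by simp [Fr.fe, h12])
    exact ⟨g, by rw [hg]; simp [Fr.ee, Fr.ef, h01], by rw [hg]; simp [Fr.ee, Fr.ef]⟩
  choose gE hgE0 hgE1 using hexg
  obtain ⟨gF, cF, hcF, hgF⟩ := hroot (Fr.f i2) (Fr.f i1) (Fr.qf _) (Fr.ff _ _)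
  have hF : ∀ v, ι gF v = v + (a * P.B v (Fr.f i2)) • Fr.f i1 + (b * P.B v (Fr.f i1)) • Fr.f i2 :=
    fun v => by rw [hgF, hcF (Fr.qf _)]; simp
  let ψ : Option (Option K) → Submodule K V := fun o =>
    o.elim ((initSpan K Fr.e 2).map (ι (gF * gE 1) : V →ₗ[K] V)) fun o =>
      o.elim ((initSpan K Fr.e 2).map (ι gF : V →ₗ[K] V)) fun t =>
        (initSpan K Fr.e 2).map (ι (gE t) : V →ₗ[K] V)
  have hF0 : ι gF (Fr.e i0) = Fr.e i0 := by rw [hF]; simp [Fr.ef, h01, h02]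
  have hF1 : ι gF (Fr.e i1) = Fr.e i1 + b • Fr.f i2 := by rw [hF]; simp [Fr.ef, h12]
  have hG0 : ι (gF * gE 1) (Fr.e i0) = Fr.e i0 := by rw [mul_apply', hgE0, hF0]
  have hG1 : ι (gF * gE 1) (Fr.e i1) =
      Fr.e i1 + b • Fr.e i2 + b • Fr.f i2 + (b * a) • Fr.f i1 := by
    rw [mul_apply', hgE1, map_one, mul_one, map_add, hF1, map_smul, hF]
    simp [Fr.ef, h12.symm]
    module
  have hstab : ∀ g, ι g (Fr.e i0) = Fr.e i0 →
      (initSpan K Fr.e 2).map (ι g : V →ₗ[K] V) ∈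
        imgs ι (stabW ι (initSpan K Fr.e 1)) (initSpan K Fr.e 2) :=
    fun g hg => ⟨g, mem_stab_E_one Fr (by omega) hg, rfl⟩
  have hrange : Set.range ψ ⊆ imgs ι (stabW ι (initSpan K Fr.e 1)) (initSpan K Fr.e 2) := by
    rintro _ ⟨(_ | _ | t), rfl⟩
    exacts [hstab _ hG0, hstab _ hF0, hstab _ (hgE0 t)]
  have key : ∀ g g', ι g (Fr.e i0) = Fr.e i0 → ι g' (Fr.e i0) = Fr.e i0 →
      P.B (ι g (Fr.e i1)) (Fr.f i0) = 0 → P.B (ι g (Fr.e i1)) (Fr.f i1) = 1 →
      P.B (ι g' (Fr.e i1)) (Fr.f i0) = 0 → P.B (ι g' (Fr.e i1)) (Fr.f i1) = 1 →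
      (initSpan K Fr.e 2).map (ι g : V →ₗ[K] V) = (initSpan K Fr.e 2).map (ι g' : V →ₗ[K] V) →
      ι g (Fr.e i1) = ι g' (Fr.e i1) := fun g g' h1 h2 h3 h4 h5 h6 e => by
    rw [map_E_two Fr (by omega) h1, map_E_two Fr (by omega) h2] at e
    exact eq_of_plane Fr (by omega) h3 h4 h5 h6 e
  have hψ : Function.Injective ψ := by
    have hEE : ∀ t t' : K, Fr.e i1 + (b * P.σ t) • Fr.e i2 = Fr.e i1 + (b * P.σ t') • Fr.e i2 →
        t = t' := fun t t' e => by
      have := congrArg (fun v => P.B v (Fr.f i2)) (add_left_cancel e)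
      simp [Fr.ef, hb] at this
      exact P.σ.injective this
    rintro (_ | _ | t) (_ | _ | t') e
    · rfl
    · have := key _ _ hG0 hF0 (by rw [hG1]; simp [Fr.ef, Fr.ff, h01.symm, h02.symm])
        (by rw [hG1]; simp [Fr.ef, Fr.ff, h12.symm]) (by rw [hF1]; simp [Fr.ef, Fr.ff, h01.symm])
        (by rw [hF1]; simp [Fr.ef, Fr.ff]) e
      rw [hG1, hF1] at this
      have := congrArg (fun v => P.B v (Fr.f i2)) this
      simp [Fr.ef, Fr.ff, h12, hb, hb.symm] at this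
    · have := key _ _ hG0 (hgE0 t') (by rw [hG1]; simp [Fr.ef, Fr.ff, h01.symm, h02.symm])
        (by rw [hG1]; simp [Fr.ef, Fr.ff, h12.symm]) (by rw [hgE1]; simp [Fr.ef, h01.symm, h02.symm])
        (by rw [hgE1]; simp [Fr.ef, h12.symm]) e
      rw [hG1, hgE1] at this
      have := congrArg (fun v => P.B v (Fr.e i2)) this
      simp [Fr.ee, Fr.fe, h12, hb, ε_ne_zero P] at this
    · have := key _ _ hF0 hG0 (by rw [hF1]; simp [Fr.ef, Fr.ff, h01.symm])
        (by rw [hF1]; simp [Fr.ef, Fr.ff]) (by rw [hG1]; simp [Fr.ef, Fr.ff, h01.symm, h02.symm])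
        (by rw [hG1]; simp [Fr.ef, Fr.ff, h12.symm]) e
      rw [hG1, hF1] at this
      have := congrArg (fun v => P.B v (Fr.f i2)) this
      simp [Fr.ef, Fr.ff, h12, hb, hb.symm] at this
    · rfl
    · have := key _ _ hF0 (hgE0 t') (by rw [hF1]; simp [Fr.ef, Fr.ff, h01.symm])
        (by rw [hF1]; simp [Fr.ef, Fr.ff]) (by rw [hgE1]; simp [Fr.ef, h01.symm, h02.symm])
        (by rw [hgE1]; simp [Fr.ef, h12.symm]) e
      rw [hF1, hgE1] at this
      have := congrArg (fun v => P.B v (Fr.e i2)) this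
      simp [Fr.ee, Fr.fe, hb, ε_ne_zero P] at this
    · have := key _ _ (hgE0 t) hG0 (by rw [hgE1]; simp [Fr.ef, h01.symm, h02.symm])
        (by rw [hgE1]; simp [Fr.ef, h12.symm]) (by rw [hG1]; simp [Fr.ef, Fr.ff, h01.symm, h02.symm])
        (by rw [hG1]; simp [Fr.ef, Fr.ff, h12.symm]) e
      rw [hG1, hgE1] at this
      have := congrArg (fun v => P.B v (Fr.e i2)) this
      simp [Fr.ee, Fr.fe, h12, hb, ε_ne_zero P] at this
    · have := key _ _ (hgE0 t) hF0 (by rw [hgE1]; simp [Fr.ef, h01.symm, h02.symm])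
        (by rw [hgE1]; simp [Fr.ef, h12.symm]) (by rw [hF1]; simp [Fr.ef, Fr.ff, h01.symm])
        (by rw [hF1]; simp [Fr.ef, Fr.ff]) e
      rw [hF1, hgE1] at this
      have := congrArg (fun v => P.B v (Fr.e i2)) this
      simp [Fr.ee, Fr.fe, hb, ε_ne_zero P] at this
    · have := key _ _ (hgE0 t) (hgE0 t') (by rw [hgE1]; simp [Fr.ef, h01.symm, h02.symm])
        (by rw [hgE1]; simp [Fr.ef, h12.symm]) (by rw [hgE1]; simp [Fr.ef, h01.symm, h02.symm])
        (by rw [hgE1]; simp [Fr.ef, h12.symm]) e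
      rw [hgE1, hgE1] at this
      rw [hEE t t' this]
  have h1 := Set.ncard_le_ncard hrange (Set.toFinite _)
  rw [← Nat.card_coe_set_eq, Nat.card_range_of_injective hψ, Finite.card_option, Finite.card_option] at h1
  have h2 := ncard_line_le (ι := ι) Fr (show 2 ≤ m by omega)
  omega

/-- Dimension four: `kerτ` small. -/
theorem cardNe_four (S : Setup p P ι π 2) (hN : finrank K V = 4)
    (hτ : Nat.card {t : K // P.τ t = 0} + 1 < Nat.card K) (Fr : Frame P 2) : CardNe ι Fr := by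
  classical
  refine cardNe_of_imgs Fr ?_
  obtain ⟨a, b, ha, hb, hroot⟩ := S.root
  set e0 := Fr.e 0
  set e1 := Fr.e 1
  -- points of the line
  have hexg : ∀ t : K, ∃ g : X, ι g e0 = e0 + (b * P.σ t) • e1 ∧ ι g e1 = e1 := fun t => by
    obtain ⟨g, c, -, hg⟩ := hroot e1 (t • Fr.f 0) (Fr.qe _) (by simp [e1, Fr.fe])
    exact ⟨g, by rw [hg]; simp [e0, e1, Fr.ee, Fr.ef], by rw [hg]; simp [e1, Fr.ee, Fr.ef]⟩
  choose g hg0 hg1 using hexg
  have hlow : Nat.card K ≤ (imgs ι (stabW ι (initSpan K Fr.e 2)) (initSpan K Fr.e 1)).ncard := by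
    rw [← Nat.card_coe_set_eq]
    refine Nat.card_le_card_of_injective (fun t => ⟨(initSpan K Fr.e 1).map (ι (g t) : V →ₗ[K] V), g t,
      mem_stab_E_of fun i _ => ?_, rfl⟩) fun t t' e => ?_
    · obtain rfl | rfl : i = 0 ∨ i = 1 := by omega
      · rw [hg0]
        exact add_mem (mem_initSpan _ (by norm_num)) (Submodule.smul_mem _ _ (mem_initSpan _ (by norm_num)))
      · rw [hg1]; exact mem_initSpan _ (by norm_num)
    · have e' := congrArg Subtype.val e
      simp only [E_one Fr one_le_two, Submodule.map_span, Set.image_singleton, LinearEquiv.coe_coe] at e'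
      rw [show Fr.e ⟨0, _⟩ = e0 from rfl, hg0, hg0] at e'
      obtain ⟨s, hs⟩ := Submodule.mem_span_singleton.1 (e'.le (Submodule.mem_span_singleton_self _))
      have h1 := congrArg (fun v => P.B v (Fr.f 0)) hs
      simp [e0, e1, Fr.ef] at h1
      have h2 := congrArg (fun v => P.B v (Fr.f 1)) hs
      simp [e0, e1, Fr.ef, h1, hb] at h2
      exact P.σ.injective h2.symm
  -- lines through the point
  let ψ : Option {t : K // P.τ t = 0} → Submodule K V := fun o =>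
    o.elim (initSpan K Fr.e 2) fun t =>
      Submodule.span K {e0} ⊔ Submodule.span K {t.1 • e1 + Fr.f 1}
  have hhigh : (imgs ι (stabW ι (initSpan K Fr.e 1)) (initSpan K Fr.e 2)).ncard ≤
      Nat.card {t : K // P.τ t = 0} + 1 := by
    refine le_trans (Set.ncard_le_ncard (t := Set.range ψ) ?_ (Set.finite_range ψ))
      ((Finite.card_range_le ψ).trans_eq' (Nat.card_coe_set_eq _).symm |>.trans_eq Finite.card_option)
    rintro L ⟨g, hg, rfl⟩
    set L := (initSpan K Fr.e 2).map (ι g : V →ₗ[K] V)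
    have hL : P.TS L := map_ts (S.iso g) (ts_E Fr 2)
    have hrL : finrank K L = 2 := by rw [LinearEquiv.finrank_map_eq, finrank_E]; rfl
    have heL : e0 ∈ L := by
      have h1 : e0 ∈ (initSpan K Fr.e 1).map (ι g : V →ₗ[K] V) := by
        rw [show (initSpan K Fr.e 1).map (ι g : V →ₗ[K] V) = initSpan K Fr.e 1 from hg]
        exact mem_initSpan _ (by norm_num)
      exact Submodule.map_mono (initSpan_mono one_le_two) h1
    by_cases hsub : ∀ x ∈ L, P.B x e1 = 0
    · refine ⟨none, (Submodule.eq_of_le_of_finrank_eq (fun x hx => ?_) ?_).symm⟩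
      · have hp : x = Fr.proj x := (Fr.proj_eq_self (by rw [hN]) x).symm
        rw [hp, Frame.proj, Fin.sum_univ_two, show P.B x (Fr.e 0) = 0 from
          hL.le_perp hx _ heL, show P.B x (Fr.e 1) = 0 from hsub x hx]
        simp only [zero_div, zero_smul, add_zero]
        exact add_mem (Submodule.smul_mem _ _ (mem_initSpan _ (by norm_num)))
          (Submodule.smul_mem _ _ (mem_initSpan _ (by norm_num)))
      · show finrank K L = finrank K ↥(initSpan K Fr.e 2)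
        rw [hrL, finrank_E]; rfl
    · push Not at hsub
      obtain ⟨x, hx, hxe⟩ := hsub
      set d := P.B x e1 / P.ε
      have hd : d ≠ 0 := div_ne_zero hxe (ε_ne_zero P)
      set t := d⁻¹ * P.B x (Fr.f 1)
      set y := t • e1 + Fr.f 1 with hy
      have hyL : y ∈ L := by
        have h1 : d⁻¹ • x - (d⁻¹ * P.B x (Fr.f 0)) • e0 ∈ L :=
          sub_mem (L.smul_mem _ hx) (L.smul_mem _ heL)
        have key : ∀ r s : K, x = r • e0 + (s • e1 + d • Fr.f 1) →
            (d⁻¹ * s) • e1 + Fr.f 1 = d⁻¹ • x - (d⁻¹ * r) • e0 := by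
          intro r s hxd
          conv_rhs => rw [hxd]
          rw [smul_add, smul_add, smul_smul, smul_smul, smul_smul, inv_mul_cancel₀ hd, one_smul,
            add_sub_cancel_left]
        rw [hy, key (P.B x (Fr.f 0)) (P.B x (Fr.f 1)) ?_]
        · exact h1
        conv_lhs => rw [← Fr.proj_eq_self (by rw [hN]) x, Frame.proj, Fin.sum_univ_two,
          show P.B x (Fr.e 0) = 0 from hL.le_perp hx _ heL, zero_div, zero_smul, add_zero]
      have ht : P.τ t = 0 := by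
        have h0 := hL.q0_eq _ hyL
        rw [hy, P.q0_add, P.q0_smul _ _ (Fr.qe 1), Fr.qf] at h0
        simpa [e1, Fr.ef] using h0
      refine ⟨some ⟨t, ht⟩, Submodule.eq_of_le_of_finrank_eq
        (sup_le ((Submodule.span_singleton_le_iff_mem _ _).2 heL)
          ((Submodule.span_singleton_le_iff_mem _ _).2 hyL)) ?_⟩
      show finrank K ↥(Submodule.span K {e0} ⊔ Submodule.span K {y}) = finrank K L
      rw [hrL, finrank_sup_span, finrank_span_singleton (e_ne Fr 0)]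
      intro hm
      obtain ⟨s, hs⟩ := Submodule.mem_span_singleton.1 hm
      have h2 := congrArg (fun v => P.B v (Fr.e 1)) hs
      simp [hy, e0, e1, Fr.ee, Fr.fe, eq_comm, ε_ne_zero P] at h2
  omega

/-- Dimension at least five in Witt index two, with transvections. -/
theorem cardNe_five (S : Setup p P ι π 2) (hN : 5 ≤ finrank K V)
    (htv : ∀ u, P.q0 u = 0 → ∃ (g : X) (c : K), c ≠ 0 ∧ RootEl ι P g u 0 0 0 c) (Fr : Frame P 2) :
    CardNe ι Fr := by
  classical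
  refine cardNe_of_imgs Fr ?_
  obtain ⟨a, b, ha, hb, hroot⟩ := S.root
  obtain ⟨w, hw, hwE⟩ : ∃ w : V, w ≠ 0 ∧ ∀ i, P.B w (Fr.e i) = 0 ∧ P.B w (Fr.f i) = 0 := by
    have h1 : ¬ ∀ v, v - Fr.proj v = 0 := fun h0 => by
      have hle : (⊤ : Submodule K V) ≤ Submodule.span K (Set.range (Sum.elim Fr.e Fr.f)) := fun v _ => by
        rw [sub_eq_zero.1 (h0 v), Frame.proj]
        exact sum_mem fun i _ => add_mem (Submodule.smul_mem _ _ (Submodule.subset_span ⟨.inl i, rfl⟩))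
          (Submodule.smul_mem _ _ (Submodule.subset_span ⟨.inr i, rfl⟩))
      have h2 := (Submodule.finrank_mono hle).trans (finrank_range_le_card (Sum.elim Fr.e Fr.f))
      rw [finrank_top, Fintype.card_sum, Fintype.card_fin] at h2
      omega
    push Not at h1
    obtain ⟨v, hv⟩ := h1
    exact ⟨_, hv, Fr.rest_perp v⟩
  obtain ⟨z, c₀, hc₀, hz⟩ := htv (Fr.f 1) (Fr.qf 1)
  have hz' : ∀ v, ι z v = v + (c₀ * P.B v (Fr.f 1)) • Fr.f 1 := fun v => by rw [hz]; simp
  have hexg : ∀ t : K, ∃ (g : X) (c : K), ι g (Fr.e 0) = Fr.e 0 ∧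
      ι g (Fr.e 1) = Fr.e 1 + (a * t) • w + c • Fr.f 1 := fun t => by
    obtain ⟨g, c, -, hg⟩ := hroot (Fr.f 1) (t • w) (Fr.qf 1) (by simp [(hwE 1).2])
    refine ⟨g, c, by rw [hg]; simp [Fr.ef, P.refl _ _ (hwE 0).1], ?_⟩
    rw [hg, Fr.ef, if_pos rfl, LinearMap.map_smulₛₗ, P.refl _ _ (hwE 1).1]
    simp [smul_smul]
  choose g c hg0 hg1 using hexg
  let γ : Bool × K → X := fun x => bif x.1 then z * g x.2 else g x.2
  let δ : Bool × K → K := fun x => bif x.1 then c x.2 + c₀ else c x.2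
  have hγ0 : ∀ x, ι (γ x) (Fr.e 0) = Fr.e 0 := by
    rintro ⟨_ | _, t⟩
    · exact hg0 t
    · show ι (z * g t) _ = _
      rw [mul_apply', hg0, hz']; simp [Fr.ef]
  have hγ1 : ∀ x, ι (γ x) (Fr.e 1) = Fr.e 1 + (a * x.2) • w + δ x • Fr.f 1 := by
    rintro ⟨_ | _, t⟩
    · exact hg1 t
    · show ι (z * g t) _ = _
      rw [mul_apply', hg1, hz']
      simp only [map_add, map_smul, LinearMap.add_apply, LinearMap.smul_apply, Fr.ef, (hwE 1).2,
        Fr.ff, if_true, smul_eq_mul, mul_zero, add_zero, mul_one]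
      show _ = Fr.e 1 + (a * t) • w + (c t + c₀) • Fr.f 1
      module
  have h01 : ∀ x, P.B (ι (γ x) (Fr.e 1)) (Fr.f 0) = 0 ∧ P.B (ι (γ x) (Fr.e 1)) (Fr.f 1) = 1 :=
    fun x => by rw [hγ1]; simp [Fr.ef, Fr.ff, (hwE 0).2, (hwE 1).2]
  have hlow : 2 * Nat.card K ≤ (imgs ι (stabW ι (initSpan K Fr.e 1)) (initSpan K Fr.e 2)).ncard := by
    rw [← Nat.card_coe_set_eq]
    refine le_trans (le_of_eq (by simp [Nat.card_prod]))
      (Nat.card_le_card_of_injective (α := Bool × K) (fun x =>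
        ⟨(initSpan K Fr.e 2).map (ι (γ x) : V →ₗ[K] V), γ x, mem_stab_E_one Fr one_le_two (hγ0 x), rfl⟩)
        fun x y e => ?_)
    have e' := congrArg Subtype.val e
    simp only [map_E_two Fr le_rfl (hγ0 _)] at e'
    have h := eq_of_plane Fr le_rfl (h01 x).1 (h01 x).2 (h01 y).1 (h01 y).2 e'
    rw [hγ1, hγ1] at h
    have h2 : δ x = δ y := by
      have := congrArg (fun v => P.B v (Fr.e 1)) h
      simpa [Fr.ee, Fr.fe, (hwE 1).1, ε_ne_zero P] using this
    rw [h2] at h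
    have h3 : x.2 = y.2 := mul_left_cancel₀ ha
      (smul_left_injective K hw (add_left_cancel (add_right_cancel h)))
    obtain ⟨x1, x2⟩ := x; obtain ⟨y1, y2⟩ := y
    obtain rfl := h3
    cases x1 <;> cases y1 <;> simp_all [δ]
  have h2 := ncard_line_le (ι := ι) Fr le_rfl
  have := Finite.one_lt_card (α := K)
  omega

end bounds

section results

/-- A `p`-group of automorphisms does not move members of different orders to each other. -/
theorem excluded_card (S : Setup p P ι π m) (Q : Sylow p X) {W : Fin m → Submodule K V}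
    (h : MaxSys ((Q : Subgroup X).map π) (famSys ι π W)) {i j : Fin m}
    (hne : Nat.card ↥(stabW ι (W i)) ≠ Nat.card ↥(stabW ι (W j))) : PMinExcluded p G := by
  refine pminExcluded_of (MulEquiv.refl G) (Q.mapSurjective S.surj) (𝕄 := famSys ι π W) h
    fun A _ _ => ⟨_, ⟨i, rfl⟩, _, ⟨j, rfl⟩, fun α _ e => hne ?_⟩
  have h1 : ((stabW ι (W i)).map π).index = ((stabW ι (W j)).map π).index := by
    have e' : ((stabW ι (W i)).map π).map α.toMonoidHom = (stabW ι (W j)).map π := e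
    rw [← e', MulEquiv.toMonoidHom_eq_coe, Subgroup.index_map_equiv]
  rw [Subgroup.index_map_eq _ S.surj (ker_le_stabW S _),
    Subgroup.index_map_eq _ S.surj (ker_le_stabW S _)] at h1
  have h2 := (stabW ι (W i)).card_mul_index
  rw [h1, ← (stabW ι (W j)).card_mul_index] at h2
  exact Nat.eq_of_mul_eq_mul_right (Nat.pos_of_ne_zero Subgroup.index_ne_zero_of_finite) h2

theorem plus_excluded (S : Setup p P ι π m) (hP : PlusType P ι m) (h4 : 4 ≤ m) :
    PMinExcluded p G := by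
  obtain ⟨Q, Fr, hQ, hu⟩ := exists_flag S
  refine excluded_card S Q (plus_fam S hP Q hQ hu).1 (i := ⟨0, by omega⟩) (j := ⟨1, by omega⟩) ?_
  rw [famPlus, famPlus, if_neg (by simp only; omega), if_neg (by simp only; omega)]
  exact cardNe_three S (by omega) Fr

theorem std_excluded (S : Setup p P ι π m) (htop : Top P ι m) (h2 : 2 ≤ m)
    (hne : ∀ Fr : Frame P m, CardNe ι Fr) : PMinExcluded p G := by
  obtain ⟨Q, Fr, hQ, hu⟩ := exists_flag S
  exact excluded_card S Q (std_fam S htop Q hQ hu).1 (i := ⟨0, by omega⟩) (j := ⟨1, by omega⟩) (hne Fr)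

theorem std_excluded_odd (S : Setup p P ι π m) (htop : Top P ι m) (h2 : m = 2) (hp2 : p ≠ 2) :
    PMinExcluded p G := by
  obtain ⟨Q, Fr, hQ, hu⟩ := exists_flag S
  obtain ⟨h, hmove⟩ := std_fam S htop Q hQ hu
  subst h2
  refine pminExcluded_of (MulEquiv.refl G) (Q.mapSurjective S.surj) (𝕄 := famSys ι π (famE Fr)) h
    fun A hA hAU => ⟨_, ⟨0, rfl⟩, _, ⟨1, rfl⟩, fun α hα => ?_⟩
  obtain ⟨k, hk⟩ := hA ⟨α, hα⟩
  refine ne_of_two hp2 h (congrArg Subtype.val hk) (hAU α hα) (fun N hN => ?_) ⟨0, rfl⟩ ⟨1, rfl⟩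
    fun e => by simpa using famSys_inj S hmove e
  obtain ⟨j, rfl⟩ := hN
  fin_cases j
  exacts [Or.inl rfl, Or.inr rfl]

/-- When the frame spans up to one dimension the intersection of the family normalises. -/
theorem sInf_famE_le (S : Setup p P ι π m) (hN : finrank K V ≤ 2 * m + 1) (Q : Sylow p X)
    (Fr : Frame P m) (hQ : ∀ g ∈ (Q : Subgroup X), ∀ d ≤ m, g ∈ stabW ι (initSpan K Fr.e d))
    (hu : uGrp ι Fr ≤ (Q : Subgroup X)) :
    sInf (famSys ι π (famE Fr)) ≤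
      Subgroup.normalizer (((Q.mapSurjective S.surj : Sylow p G) : Subgroup G) : Set G) := by
  intro y hy
  obtain ⟨x, rfl⟩ := S.surj y
  have hx : ∀ d ≤ m, x ∈ stabW ι (initSpan K Fr.e d) := fun d hd => by
    rcases Nat.eq_zero_or_pos d with rfl | h0
    · exact mem_stab_E_of fun i hi => absurd hi (Nat.not_lt_zero _)
    · have := (mem_map_stabW S).1 (Subgroup.mem_sInf.1 hy _ ⟨⟨d - 1, by omega⟩, rfl⟩)
      rwa [famE, show ((⟨d - 1, _⟩ : Fin m) : ℕ) + 1 = d from Nat.sub_add_cancel h0] at this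
  have hQu : ∀ g, g ∈ (Q : Subgroup X) → g ∈ uGrp ι Fr := fun g hg => by
    obtain ⟨n, hn⟩ := Q.2 ⟨g, hg⟩
    exact mem_uGrp_of_pow ι Fr S.iso hN (hQ g hg) (congrArg Subtype.val hn)
  have hs := mem_stab_chain ι Fr S.iso hx
  have h1 : ∀ g ∈ (Q : Subgroup X), x * g * x⁻¹ ∈ (Q : Subgroup X) := fun g hg =>
    hu (nilGrp_conj ι hs (hQu g hg))
  have h2 : ∀ g ∈ (Q : Subgroup X), x⁻¹ * g * x ∈ (Q : Subgroup X) := fun g hg => by
    have := hu (nilGrp_conj ι (fun k => inv_mem (hs k)) (hQu g hg))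
    rwa [inv_inv] at this
  rw [Subgroup.mem_normalizer_iff]
  refine fun z => ⟨?_, ?_⟩
  · rintro ⟨g, hg, rfl⟩
    exact ⟨_, h1 g hg, by simp⟩
  · rintro ⟨g, hg, e⟩
    exact ⟨_, h2 g hg, by simp [e, mul_assoc]⟩

theorem std_sys (S : Setup p P ι π m) (htop : Top P ι m) (hN : finrank K V ≤ 2 * m + 1) :
    PMinSys p G := by
  obtain ⟨Q, Fr, hQ, hu⟩ := exists_flag S
  exact pminSys_of (MulEquiv.refl G) (Q.mapSurjective S.surj) (𝕄 := famSys ι π (famE Fr))
    (std_fam S htop Q hQ hu).1 (sInf_famE_le S hN Q Fr hQ hu)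

theorem std_swap (S : Setup p P ι π m) (htop : Top P ι m) (hN : finrank K V ≤ 2 * m + 1)
    (h2 : m = 2) : PMinSwap p G := by
  obtain ⟨Q, Fr, hQ, hu⟩ := exists_flag S
  obtain ⟨h, hmove⟩ := std_fam S htop Q hQ hu
  subst h2
  exact pminSwap_of (MulEquiv.refl G) (Q.mapSurjective S.surj) (𝕄 := famSys ι π (famE Fr)) h
    (sInf_famE_le S hN Q Fr hQ hu) (M := (stabW ι (famE Fr 0)).map π)
    (M' := (stabW ι (famE Fr 1)).map π) ⟨0, rfl⟩ ⟨1, rfl⟩ fun e => by simpa using famSys_inj S hmove e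

end results

end Cfsg.Agent.LieStruct.Polar
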