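/-
Classical groups as socles of `p`-minimal groups (helper32).
-/
import Cfsg.Agent.LieStruct.PMinPolarMain
import Cfsg.Agent.LieStruct.Classical.Orth
import Cfsg.Agent.LieStruct.Classical.Symp
import Cfsg.Agent.LieStruct.Classical.Unit
import Cfsg.Prelude.Def_AlmostLie

set_option autoImplicit false
set_option linter.unusedSectionVars false

namespace Cfsg.Agent.LieStruct

open Cfsg.Agent.PolarSteinberg52 Module QuadraticMap Cfsg.Agent.UnitaryOrthogonal

variable {p : ℕ} [hp : Fact p.Prime] {G : Type*} [Group G] [Finite G] [IsSimpleGroup G]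

theorem psp_pmin (hG : Cfsg.IsPSpChar p G) :
    (PMinSwap p G ∧ p = 2 ∧ ∃ (F : Type) (_ : Field F) (_ : Fintype F) (_ : CharP F 2),
      4 ≤ Fintype.card F ∧ Nonempty (G ≃* Cfsg.PSp 2 F)) ∨ PMinExcluded p G := by
  obtain ⟨F, _, _, hchar, m, hm, h3, ⟨eG⟩⟩ := id hG
  classical
  let A : Symplectic.Sp m F →* Matrix (Fin m ⊕ Fin m) (Fin m ⊕ Fin m) F :=
    (Matrix.symplecticGroup (Fin m) F).subtype
  let ι := matHom A
  have hι : ∀ (g : Symplectic.Sp m F) (v : Symplectic.Vec m F), ι g v = g • v :=
    fun g v => matHom_apply A g v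
  let π : Symplectic.Sp m F →* G :=
    eG.symm.toMonoidHom.comp (QuotientGroup.mk' (Subgroup.center (Symplectic.Sp m F)))
  have hN : finrank F (Symplectic.Vec m F) = 2 * m := by
    rw [Module.finrank_fintype_fun_eq_card, Fintype.card_sum, Fintype.card_fin, two_mul]
  have hker : Nat.card {t : F // (sympPForm m F).τ t = 0} = Nat.card F :=
    Nat.card_congr (Equiv.subtypeUnivEquiv fun t => rfl)
  have hw : Witt (sympPForm m F) m := by
    refine witt_of_frame (sympFrame m F) fun v _ h => ?_
    funext i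
    rcases i with i | i
    · have := (h i).1
      change Cfsg.sympForm m F v (Symplectic.fI i) = 0 at this
      rwa [Symplectic.sympForm_fI_right, neg_eq_zero] at this
    · have := (h i).2
      change Cfsg.sympForm m F v (Symplectic.eI i) = 0 at this
      rwa [Symplectic.sympForm_eI_right] at this
  have S : Polar.Setup p (sympPForm m F) ι π m :=
    { iso := fun g => ⟨fun u v => (Symplectic.mem_iff_form _).1 g.2 u v, fun _ => rfl⟩
      inj := matHom_injective A Subtype.val_injective
      surj := eG.symm.surjective.comp (QuotientGroup.mk'_surjective _)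
      ker := fun z hz => by
        have hz' : z ∈ Subgroup.center (Symplectic.Sp m F) :=
          (QuotientGroup.eq_one_iff z).1 ((MulEquiv.map_eq_one_iff eG.symm).1 hz)
        obtain ⟨a, -, ha⟩ := Symplectic.exists_scalar_of_fix_lines (Symplectic.fix_lines_of_mem_center hz')
        exact ⟨a, fun v => (hι z v).trans (ha v)⟩
      witt := hw
      one_le := by omega
      dim := by omega
      root := ⟨1, 1, one_ne_zero, one_ne_zero, fun u w _ hwu => ⟨Symplectic.sh u w 1, 0, fun _ => rfl, fun v => by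
        change Cfsg.sympForm m F w u = 0 at hwu
        rw [hι, Symplectic.sh_smul (by rw [Symplectic.sympForm_swap, hwu, neg_zero])]
        simp only [one_mul, zero_mul, add_zero]
        show v + Cfsg.sympForm m F v w • u + Cfsg.sympForm m F v u • w =
          v + Cfsg.sympForm m F v u • w + Cfsg.sympForm m F v w • u
        abel⟩⟩
      overP := psp_facts hG |>.2
      last := fun _ h => by
        rw [hker, hN, Nat.sub_self, pow_zero, one_mul] at h
        exact absurd h (Finite.one_lt_card (α := F)).ne' }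
  have htop : Polar.Top (sympPForm m F) ι m := fun Fr i u _ => by
    refine ⟨Symplectic.tv u 1, 0, 0, 0, 1, fun j => by simp, fun v => ?_, fun v _ hv => Or.inr ?_⟩
    · rw [hι, Symplectic.tv_smul]
      simp only [zero_mul, zero_smul, add_zero, zero_add]
      rfl
    · change Cfsg.sympForm m F v u ≠ 0 at hv
      show Cfsg.sympForm m F (ι (Symplectic.tv u 1) v - v) v ≠ 0
      rw [hι, Symplectic.tv_smul, one_mul, add_sub_cancel_left, Symplectic.sympForm_smul_left]
      exact mul_ne_zero hv fun h => hv (by rw [Symplectic.sympForm_swap, h, neg_zero])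
  rcases hm.eq_or_lt with h2 | h2
  · subst h2
    by_cases hp2 : p = 2
    · subst hp2
      refine Or.inl ⟨Polar.std_swap S htop (by omega) rfl, rfl, F, inferInstance, inferInstance,
        hchar, ?_, ⟨eG⟩⟩
      obtain ⟨n, -, hn⟩ := FiniteField.card F 2
      have := h3 rfl
      rcases n with ⟨_ | _ | n, hn0⟩
      · simp at hn0
      · simp [hn] at this
      · rw [hn]; calc 4 = 2 ^ 2 := rfl
          _ ≤ _ := Nat.pow_le_pow_right two_pos (by simp)
    · exact Or.inr (Polar.std_excluded_odd S htop rfl hp2)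
  · exact Or.inr (Polar.std_excluded S htop hm fun Fr => Polar.cardNe_three S h2 Fr)

theorem psu_pmin (hG : Cfsg.IsPSUChar p G) :
    (PMinSys p G ∧ ∃ (F : Type) (_ : Field F) (_ : Fintype F) (_ : CharP F p) (q : ℕ),
      Fintype.card F = q ^ 2 ∧ q ≠ 2 ∧ Nonempty (G ≃* Cfsg.PSU 3 F q)) ∨ PMinExcluded p G := by
  obtain ⟨F, _, _, hchar, n, q, hF, hn, hn32, ⟨eG⟩⟩ := id hG
  classical
  let A : Cfsg.SU n F q →* Matrix (Fin n) (Fin n) F :=
    (Cfsg.slToMat n F).comp (Cfsg.SU n F q).subtype
  let ι := matHom A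
  have hA : Function.Injective A := fun g h e => Subtype.ext (Subtype.ext e)
  have hι : ∀ (g : Cfsg.SU n F q) (v : Fin n → F), ι g v = g • v := fun g v => matHom_apply A g v
  let π : Cfsg.SU n F q →* G :=
    eG.symm.toMonoidHom.comp (QuotientGroup.mk' (Subgroup.center (Cfsg.SU n F q)))
  have hN : finrank F (Fin n → F) = n := Module.finrank_fin_fun F
  have hker : Nat.card {t : F // (hermPForm hF n).τ t = 0} = q := Unitary.card_trace_ker hF
  obtain ⟨F₀, hF₀⟩ := exists_unitary_frame hF n
  have hq2 := Unitary.two_le_q hF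
  obtain ⟨c₀, hc₀, hc₀'⟩ := Unitary.exists_trace_zero_ne_zero hF
  have htv : ∀ u, (hermPForm hF n).q0 u = 0 → ∃ (g : Cfsg.SU n F q) (c : F), c ≠ 0 ∧
      Polar.RootEl ι (hermPForm hF n) g u 0 0 0 c := fun u hu => by
    refine ⟨Unitary.tv hF (show Unitary.herm q u u = 0 from hu) hc₀', c₀, hc₀, fun v => ?_⟩
    rw [hι, Unitary.tv_smul]
    simp only [zero_mul, zero_smul, add_zero, zero_add]
    rfl
  have S : Polar.Setup p (hermPForm hF n) ι π (n / 2) :=
    { iso := fun g => ⟨fun u v => g.2 u v, fun v => g.2 v v⟩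
      inj := matHom_injective A hA
      surj := eG.symm.surjective.comp (QuotientGroup.mk'_surjective _)
      ker := fun x hx => by
        have hx' : x ∈ Subgroup.center (Cfsg.SU n F q) :=
          (QuotientGroup.eq_one_iff x).1 ((MulEquiv.map_eq_one_iff eG.symm).1 hx)
        obtain ⟨r, hr⟩ := (Unitary.mem_center_iff hF (by omega)).1 hx'
        exact ⟨r, fun v => (hι x v).trans (hr v)⟩
      witt := witt_of_frame F₀ hF₀
      one_le := by omega
      dim := by omega
      root := ⟨1, -1, one_ne_zero, neg_ne_zero.2 one_ne_zero, fun u w hu hwu => by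
        change Unitary.herm q u u = 0 at hu
        change Unitary.herm q w u = 0 at hwu
        obtain ⟨b, hb, hb0⟩ : ∃ b : F, b + b ^ q = -Unitary.herm q w w ∧
            (Unitary.herm q w w = 0 → b = 0) := by
          by_cases h : Unitary.herm q w w = 0
          · exact ⟨0, by rw [h, zero_pow (by omega : q ≠ 0), add_zero, neg_zero], fun _ => rfl⟩
          · obtain ⟨x, hx⟩ := Unitary.exists_trace_eq hF (Unitary.herm_self_fixed hF w)
            refine ⟨-x, ?_, fun h' => absurd h' h⟩
            rw [show (-x) ^ q = -(x ^ q) from map_neg (Unitary.conjHom hF) x, ← neg_add, hx]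
        refine ⟨Unitary.Qel hF hu hwu hb, b, hb0, fun v => ?_⟩
        rw [hι, Unitary.Qel_smul]
        show v + (Unitary.herm q v u • w - Unitary.herm q v w • u + (b * Unitary.herm q v u) • u) =
          v + (1 * Unitary.herm q v u) • w +
            (-1 * Unitary.herm q v w + b * Unitary.herm q v u) • u
        module⟩
      overP := psu_facts hG |>.2
      last := fun _ h => by
        rw [hker] at h
        exact absurd (Nat.eq_one_of_mul_eq_one_left h) (by omega) }
  have htop : Polar.Top (hermPForm hF n) ι (n / 2) := fun Fr i u hu => by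
    have hu0 : (hermPForm hF n).q0 u = 0 := by rcases hu with rfl | rfl; exacts [Fr.qe i, Fr.qf i]
    obtain ⟨g, c, hc, hg⟩ := htv u hu0
    refine ⟨g, 0, 0, 0, c, fun j => by simp, hg, fun v _ hv => Or.inr ?_⟩
    rw [hg v, zero_mul, zero_smul, add_zero, zero_mul, zero_add, add_sub_cancel_left, map_smul,
      LinearMap.smul_apply, smul_eq_mul]
    exact mul_ne_zero (mul_ne_zero hc hv) fun h => hv ((hermPForm hF n).refl _ _ h)
  rcases (show n = 3 ∨ n = 4 ∨ n = 5 ∨ 6 ≤ n by omega) with rfl | rfl | rfl | h6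
  · exact Or.inl ⟨Polar.std_sys S htop (by omega), F, inferInstance, inferInstance, hchar, q, hF,
      fun h => hn32 ⟨rfl, h⟩, ⟨eG⟩⟩
  · refine Or.inr (Polar.std_excluded S htop le_rfl fun Fr => Polar.cardNe_four S hN ?_ Fr)
    rw [hker, Nat.card_eq_fintype_card, hF]
    nlinarith
  · exact Or.inr (Polar.std_excluded S htop le_rfl fun Fr =>
      Polar.cardNe_five S (by omega) htv Fr)
  · exact Or.inr (Polar.std_excluded S htop (by omega) fun Fr => Polar.cardNe_three S (by omega) Fr)

theorem omega_pmin {ι : Type} [Fintype ι] [DecidableEq ι] {F : Type*} [Field F]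
    [Fintype F] [CharP F p] {f : (ι → F) → F} (Q : QuadraticForm F (ι → F)) (hf : ∀ v, Q v = f v)
    {W : Type*} [AddCommGroup W] [Module F W] [Finite W] {Q0 : QuadraticForm F W} (k : ℕ)
    (e : Q.IsometryEquiv (hypSum (k + 2) Q0)) (hQ0 : PolarND Q0) (hr : reflGroup Q0 = ⊤)
    (haniso : ∀ w, Q0 w = 0 → w = 0) (hk : 1 ≤ k) (hW : finrank F W = 0 → 2 ≤ k)
    (hover : Over p G) (eG : G ≃* Cfsg.POmega F f) : PMinExcluded p G := by
  classical
  haveI : Module.Finite F W := Module.Finite.of_finite
  have hM : PolarND (hypSum k Q0) := hQ0.hypSum k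
  have hexM := exists_hypSum_ne_zero k (Or.inl hk : 1 ≤ k ∨ ∃ a, Q0 a ≠ 0)
  have hgen := elemGroup_hypHyp hQ0 hr k
  let e' := e.trans (hypSumTwo Q0 k)
  let ψ := (isometryGroupEquiv Q hf).trans (orthCongr e')
  set U := ((Fin k → F) × (Fin k → F)) × W
  set M : QuadraticForm F U := hypSum k Q0 with hMdef
  have hQ : PolarND (hyp (hyp M)) := hM.hyp.hyp
  have hcomm : commutator (orth (hyp (hyp M))) = eichGroup (hyp (hyp M)) :=
    commutator_eq_eichGroup hM hexM hgen
  have hmap : (commutator (Cfsg.isometryGroup F f)).map ψ.toMonoidHom = eichGroup (hyp (hyp M)) := by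
    rw [← hcomm, commutator_def, Subgroup.map_commutator,
      Subgroup.map_top_of_surjective _ ψ.surjective, commutator_def]
  let θ : ↥(commutator (Cfsg.isometryGroup F f)) ≃* ↥(eichGroup (hyp (hyp M))) :=
    ((commutator (Cfsg.isometryGroup F f)).equivMapOfInjective ψ.toMonoidHom ψ.injective).trans
      (MulEquiv.subgroupCongr hmap)
  let j : ↥(eichGroup (hyp (hyp M))) →* (((F × F) × ((F × F) × U)) ≃ₗ[F] ((F × F) × ((F × F) × U))) :=
    (orth (hyp (hyp M))).subtype.comp (eichGroup (hyp (hyp M))).subtype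
  let π : ↥(eichGroup (hyp (hyp M))) →* G := eG.symm.toMonoidHom.comp
    ((QuotientGroup.mk' _).comp θ.symm.toMonoidHom)
  set P := quadPForm hQ with hP
  let e₀ := (hypSumTwo Q0 k).symm
  let F₀ : Frame P (k + 2) := splitFrame hQ e₀
  have hwitt : Witt P (k + 2) := witt_of_frame F₀ fun v hv h => splitFrame_aniso hQ e₀ haniso v hv h
  have hdim : finrank F ((F × F) × ((F × F) × U)) = 2 * (k + 2) + finrank F W := by
    rw [e₀.toLinearEquiv.finrank_eq, Module.finrank_prod, Module.finrank_prod,
      Module.finrank_fin_fun, two_mul]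
  have hker : Nat.card {t : F // P.τ t = 0} = 1 := by
    rw [Nat.card_eq_one_iff_unique]
    exact ⟨⟨fun a b => Subtype.ext (a.2.trans b.2.symm)⟩, ⟨⟨0, rfl⟩⟩⟩
  have hrefl : reflGroup (hyp (hyp M)) = ⊤ := reflGroup_eq_top_of_elem hM hexM hgen
  have hfix : finrank F W = 0 → Polar.LastFix P j (k + 2) := fun hW0 u Mx hMx hMm X hXM hXm hX => by
    have hdick : ((moved u.1 : ℕ) : ZMod 2) = 0 := by
      have hu2 : u.1 ∈ commutator (orth (hyp (hyp M))) := by rw [hcomm]; exact u.2
      have h := Abelianization.commutator_subset_ker (dickson hQ hrefl) hu2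
      rw [MonoidHom.mem_ker, dickson_apply, ofAdd_eq_one] at h
      exact h
    have hd : finrank F ((F × F) × ((F × F) × U)) = 2 * (k + 2) := by omega
    have hMT : TotSing (hyp (hyp M)) Mx := fun x hx => hMx.q0_eq x hx
    by_contra hne
    set L := Mx.map ((j u).toLinearMap)
    have hle : X ≤ Mx ⊓ L := le_inf hXM (hX.ge.trans (Submodule.map_mono hXM))
    have hlt : finrank F ↥(Mx ⊓ L) < k + 2 := by
      refine lt_of_le_of_ne (hMm ▸ Submodule.finrank_mono inf_le_left) fun heq => hne ?_
      have h1 : Mx ⊓ L = Mx := Submodule.eq_of_le_of_finrank_eq inf_le_left (heq.trans hMm.symm)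
      exact (Submodule.eq_of_le_of_finrank_eq (inf_eq_left.1 h1)
        (LinearEquiv.finrank_map_eq _ _).symm).symm
    have hge := Submodule.finrank_mono hle
    have key := cast_finrank_inf_map hQ hrefl hd hMT hMm u.1 Mx hMT hMm
    rw [hdick, add_zero, inf_idem, hMm] at key
    change ((finrank F ↥(Mx ⊓ L) : ℕ) : ZMod 2) = ((k + 2 : ℕ) : ZMod 2) at key
    rw [show finrank F ↥(Mx ⊓ L) = finrank F X by omega, ← hXm, Nat.cast_succ, left_eq_add] at key
    exact absurd key (by decide)
  have hroot : Polar.HasRoot j P := ⟨1, -1, one_ne_zero, neg_ne_zero.2 one_ne_zero, fun u w hu hwu => by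
    change hyp (hyp M) u = 0 at hu
    change polar (hyp (hyp M)) w u = 0 at hwu
    refine ⟨⟨eich (hyp (hyp M)) u w, eich_mem_eichGroup u w⟩, -hyp (hyp M) w, fun h => ?_, fun v => ?_⟩
    · change hyp (hyp M) w = 0 at h
      rw [h, neg_zero]
    · show (eich (hyp (hyp M)) u w).1 v = v + (1 * polar (hyp (hyp M)) v u) • w +
        (-1 * polar (hyp (hyp M)) v w + -hyp (hyp M) w * polar (hyp (hyp M)) v u) • u
      rw [eich_apply hu ((polar_comm _ u w).trans hwu), polar_comm _ u v, polar_comm _ w v]
      module⟩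
  have S : Polar.Setup p P j π (k + 2) :=
    { iso := fun g => isIso_orth hQ g.1
      inj := Subtype.val_injective.comp Subtype.val_injective
      surj := eG.symm.surjective.comp ((QuotientGroup.mk'_surjective _).comp θ.symm.surjective)
      ker := fun z hz => by
        have hz' : θ.symm z ∈ Subgroup.center _ :=
          (QuotientGroup.eq_one_iff _).1 ((MulEquiv.map_eq_one_iff eG.symm).1 hz)
        have hz'' : z ∈ Subgroup.center ↥(eichGroup (hyp (hyp M))) :=
          Subgroup.mem_center_iff.2 fun g => θ.symm.injective (by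
            rw [map_mul, map_mul]; exact Subgroup.mem_center_iff.1 hz' (θ.symm g))
        obtain ⟨c, -, hc⟩ := eq_smul_of_fixesPoints ((mem_center_eichGroup hM hexM).1 hz'')
        exact ⟨c, hc⟩
      witt := hwitt
      one_le := by omega
      dim := by omega
      root := hroot
      overP := hover
      last := fun _ hc => hfix (by
        rw [hker, mul_one, hdim, Nat.pow_eq_one] at hc
        rcases hc with hc | hc
        · exact absurd hc (Finite.one_lt_card (α := F)).ne'
        · omega) }
  rcases Nat.eq_zero_or_pos (finrank F W) with hW0 | hW0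
  · exact Polar.plus_excluded S
      { two_le := by omega
        dim := by omega
        tau := fun t ht => ht
        fix := hfix hW0 } (by have := hW hW0; omega)
  refine Polar.std_excluded S (fun Fr i u hu => ?_) (by omega) fun Fr =>
    Polar.cardNe_three S (by omega) Fr
  obtain ⟨v, hv⟩ : ∃ v, v - Fr.proj v ≠ 0 := by
    by_contra hno
    push Not at hno
    have hle : (⊤ : Submodule F ((F × F) × ((F × F) × U))) ≤
        Submodule.span F (Set.range (Sum.elim Fr.e Fr.f)) := fun v _ => by
      rw [sub_eq_zero.1 (hno v), Frame.proj]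
      exact sum_mem fun i _ => add_mem (Submodule.smul_mem _ _ (Submodule.subset_span ⟨.inl i, rfl⟩))
        (Submodule.smul_mem _ _ (Submodule.subset_span ⟨.inr i, rfl⟩))
    have h2 := (Submodule.finrank_mono hle).trans (finrank_range_le_card (Sum.elim Fr.e Fr.f))
    rw [finrank_top, Fintype.card_sum, Fintype.card_fin] at h2
    omega
  set w := v - Fr.proj v with hwdef
  have hwE : ∀ l, P.B w (Fr.e l) = 0 ∧ P.B w (Fr.f l) = 0 := Fr.rest_perp v
  have hwq : P.q0 w ≠ 0 := fun h => hv (by
    -- the rest of a frame is anisotropic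
    by_contra hne
    have hts : P.TS (initSpan F Fr.e (k + 2) ⊔ Submodule.span F {w}) :=
      PForm.TS.sup_span P (Polar.ts_E Fr _) ((Polar.mem_perp_E Fr).2 fun l _ => (hwE l).1) h
    have hnot : w ∉ initSpan F Fr.e (k + 2) := fun hm => hne (by
      rw [Polar.eq_sum_of_mem Fr hm]
      exact Finset.sum_eq_zero fun l _ => by rw [(hwE l).2, zero_smul])
    have := hwitt.le _ hts
    rw [finrank_sup_span hnot, Polar.finrank_E] at this
    omega)
  have hwu : P.B w u = 0 := by rcases hu with rfl | rfl; exacts [(hwE i).1, (hwE i).2]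
  have hu0 : P.q0 u = 0 := by rcases hu with rfl | rfl; exacts [Fr.qe i, Fr.qf i]
  change polar (hyp (hyp M)) w u = 0 at hwu
  change hyp (hyp M) u = 0 at hu0
  refine ⟨⟨eich (hyp (hyp M)) u w, eich_mem_eichGroup u w⟩, w, 1, -1, -hyp (hyp M) w, hwE,
    fun x => ?_, fun x hx hxu => Or.inl ?_⟩
  · show (eich (hyp (hyp M)) u w).1 x = x + (1 * polar (hyp (hyp M)) x u) • w +
      (-1 * polar (hyp (hyp M)) x w + -hyp (hyp M) w * polar (hyp (hyp M)) x u) • u
    rw [eich_apply hu0 ((polar_comm _ u w).trans hwu), polar_comm _ u x, polar_comm _ w x]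
    module
  · change polar (hyp (hyp M)) x u ≠ 0 at hxu
    show hyp (hyp M) ((eich (hyp (hyp M)) u w).1 x - x) ≠ 0
    rw [eich_apply hu0 ((polar_comm _ u w).trans hwu), polar_comm _ u x,
      show x + polar (hyp (hyp M)) x u • w - polar (hyp (hyp M)) w x • u -
        (hyp (hyp M) w * polar (hyp (hyp M)) x u) • u - x =
        polar (hyp (hyp M)) x u • w + (-(polar (hyp (hyp M)) w x +
          hyp (hyp M) w * polar (hyp (hyp M)) x u)) • u by module,
      form_add, form_smul, form_smul, hu0, polar_smul_left, polar_smul_right, hwu]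
    change hyp (hyp M) w ≠ 0 at hwq
    simp only [smul_eq_mul, mul_zero, add_zero]
    exact mul_ne_zero (mul_ne_zero hxu hxu) hwq

theorem pomega_odd_pmin (hG : Cfsg.IsPOmegaOddChar p G) : PMinExcluded p G := by
  obtain ⟨F, _, _, _, m, hm, hodd, ⟨eG⟩⟩ := id hG
  obtain ⟨k, rfl⟩ : ∃ k, m = k + 2 := ⟨m - 2, by omega⟩
  have h2 : (2 : F) ≠ 0 := two_ne_zero_of_card_odd hodd
  exact omega_pmin (qOdd (k + 2) F) (qOdd_apply (k + 2)) k (qOddIso (k + 2) F)
    (polarND_sqForm h2) reflGroup_sqForm (fun w hw => by simpa using hw) (by omega)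
    (fun h => by simp at h) (pomega_odd_facts hG).2 eG

theorem pomega_plus_pmin (hG : Cfsg.IsPOmegaPlusChar p G) : PMinExcluded p G := by
  obtain ⟨F, _, _, _, m, hm, ⟨eG⟩⟩ := id hG
  obtain ⟨k, rfl⟩ : ∃ k, m = k + 2 := ⟨m - 2, by omega⟩
  exact omega_pmin (qPlus (k + 2) F) (qPlus_apply _) k (qPlusIso (k + 2) F)
    polarND_zeroForm reflGroup_zeroForm (fun w _ => Subsingleton.elim _ _) (by omega)
    (fun _ => by omega) (pomega_plus_facts hG).2 eG

theorem pomega_minus_pmin (hG : Cfsg.IsPOmegaMinusChar p G) : PMinExcluded p G := by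
  obtain ⟨F, _, _, _, m, a, b, hm, hab', ⟨eG⟩⟩ := id hG
  have hab : BinAniso a b := hab'
  obtain ⟨k, rfl⟩ : ∃ k, m = k + 3 := ⟨m - 3, by omega⟩
  exact omega_pmin (qMinus (k + 2) F a b) (qMinus_apply _ a b) k (qMinusIso (k + 2) F a b)
    hab.polarND hab.reflGroup_eq_top (fun w hw => hab.eq_zero hw) (by omega)
    (fun h => by simp at h) (pomega_minus_facts hG).2 eG

end Cfsg.Agent.LieStruct
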