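/-
Exceptional Chevalley groups: no p-group of automorphisms permutes the maximal overgroups of a Sylow
p-subgroup transitively (helper32).
-/
import Cfsg.Agent.LieStruct.Exceptional
import Cfsg.Agent.LieStruct.PMinBN
import Cfsg.Agent.ChevAut.OutStruct
import Cfsg.Agent.ChevAut.Types

set_option autoImplicit false

namespace Cfsg.Agent.LieStruct

open Cfsg.Lie Cfsg.Agent.ChevCore Cfsg.Agent.ChevGroup Cfsg.Agent.ChevAut Cfsg.Agent.BN

variable {D : ChevalleyDatum} {F : Type} [Field F] [Fintype F]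

/-- The split pair with its standard subgroups. -/
theorem exists_chev_split (hD : Seven D) {p : ℕ} [Fact p.Prime] [CharP F p]
    [Fintype ↥(D.group F)] :
    ∃ P : Cfsg.BNPair ↥(D.group F), Steinberg.Split P p (gU D F) ∧ P.B = gB D F ∧
      (∀ i < D.rank, ∃ n ∈ P.S, (n : GL D.Idx F) = ng D F (D.simple i) 1) ∧
      ∀ n ∈ P.S, ∃ i < D.rank, (n : GL D.Idx F) = ng D F (D.simple i) 1 := by
  classical
  obtain ⟨T, ⟨wit, hwit⟩, w, hw⟩ := exists_model hD
  have hC := commGood_of_mem hD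
  have hG := hC.toGood
  set K := Cfsg.Agent.Chev54.rels hC F
  set R := T.rel K with hR
  set M := T.shapeR K with hM
  have hxne : ∀ r t, R.x r t = 1 → t = 0 := fun r t => T.x_ne _ r t
  have hinj : Function.Injective T.S.simple := fun i j h => Fin.ext
    (hG.simple_inj (T.lt_l i) (T.lt_l j) (by rw [← T.simple_eq, ← T.simple_eq, h]))
  obtain ⟨P, hB, hN, hS⟩ := exists_bnPair M hxne (T.group_top K hwit) hinj
  have hH : P.B ⊓ P.N = R.H := by
    refine le_antisymm (fun g hg => B_inter_engN M hxne (hB ▸ hg.1) (hN ▸ hg.2)) ?_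
    rw [hB, hN]
    exact le_inf R.H_le_B (H_le_engN R)
  have hgU : gU D F = R.U := by
    ext g
    show (g : GL D.Idx F) ∈ D.posUnipotent F ↔ _
    rw [← T.U_map K]
    exact Subgroup.mem_map_iff_mem Subtype.coe_injective
  have hgB : gB D F = R.B := by
    ext g
    show (g : GL D.Idx F) ∈ D.borelSubgroup F ↔ _
    rw [← T.B_map K]
    exact Subgroup.mem_map_iff_mem Subtype.coe_injective
  refine ⟨P, hgU ▸ ?_, hB.trans hgB.symm, ?_, ?_⟩
  · refine split_of_free (hB ▸ R.U_le_B) ?_ ?_ ?_ ?_ (n := R.nw w) (hN ▸ nw_mem_engN R w) ?_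
    · intro b hb u hu
      rw [hB] at hb
      obtain ⟨v, hv, h, hh, rfl⟩ := R.mem_B_iff.1 hb
      have h1 : h * u * h⁻¹ ∈ R.U :=
        (Subgroup.mem_normalizer_iff.1 (R.H_le_normalizer_U hh) u).1 hu
      rw [show v * h * u * (v * h)⁻¹ = v * (h * u * h⁻¹) * v⁻¹ by group]
      exact mul_mem (mul_mem hv h1) (inv_mem hv)
    · obtain ⟨k, -, hk⟩ := FiniteField.card F p
      refine IsPGroup.of_card (n := (k : ℕ) * (D.nroots / 2)) ?_
      rw [← T.card_U_eq K, (uGood_of_mem hD).card_posUnipotent, hk, pow_mul]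
    · intro b hb
      rw [hB] at hb
      obtain ⟨v, hv, h, hh, rfl⟩ := R.mem_B_iff.1 hb
      exact ⟨v, hv, h, hH ▸ hh, rfl⟩
    · rw [hH, ← T.card_H_eq K]
      exact Steinberg.not_dvd_card_diagonal hD p
    · intro u hu hb
      exact eq_one_of_flip M ⟨1, one_mem _, (one_mul _).symm⟩ (T.longest_neg hw) hu (hB ▸ hb)
  · intro i hi
    exact ⟨R.n ⟨i, T.l_eq.symm ▸ hi⟩, hS ▸ ⟨_, rfl⟩, val_engine_n T hC _⟩
  · intro n hn
    obtain ⟨i, rfl⟩ : n ∈ Set.range R.n := hS ▸ hn
    exact ⟨i.val, T.lt_l i, val_engine_n T hC i⟩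

/-- An automorphism fixing `U` moves the maximal parabolics as its diagram permutation moves nodes. -/
theorem diagram_maxPar (hD : Seven D) {p f : ℕ} [Fact p.Prime] [CharP F p] (hF : Fintype.card F = p ^ f)
    [Fintype ↥(D.group F)] [IsSimpleGroup ↥(D.group F)] {P : Cfsg.BNPair ↥(D.group F)}
    (h : Steinberg.Split P p (gU D F)) (hB : P.B = gB D F)
    (hS' : ∀ i < D.rank, ∃ n ∈ P.S, (n : GL D.Idx F) = ng D F (D.simple i) 1)
    (hS : ∀ n ∈ P.S, ∃ i < D.rank, (n : GL D.Idx F) = ng D F (D.simple i) 1)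
    (hU : gU D F ≠ ⊥) {α : MulAut ↥(D.group F)}
    (hα : (gU D F).map α.toMonoidHom = gU D F) (i : Fin D.rank) {s t : ↥(D.group F)}
    (hs : s ∈ P.S) (ht : t ∈ P.S) (hsi : (s : GL D.Idx F) = ng D F (D.simple i.val) 1)
    (hti : (t : GL D.Idx F) = ng D F (D.simple (diagram hD p f hF α i).val) 1) :
    (P.parabolic (P.S \ {s})).map α.toMonoidHom = P.parabolic (P.S \ {t}) := by
  have hG := good_of_mem hD
  obtain ⟨g, hN, σ, a, hf⟩ := diagram_spec hD p f hF α
  set π := diagram hD p f hF α with hπ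
  set φ := MulAut.conj g * α with hφ
  have hgB : g ∈ P.B := by
    rw [hB]
    refine mem_gB_of_normal hD fun u hu => ?_
    obtain ⟨y, hy, rfl⟩ : u ∈ (gU D F).map α.toMonoidHom := hα.symm ▸ hu
    exact (hN.1 y).2 hy
  have hφU : (gU D F).map φ.toMonoidHom = gU D F := by
    refine le_antisymm ?_ fun x hx => ⟨φ.symm x, (hN.1 _).1 (by rwa [φ.apply_symm_apply]), φ.apply_symm_apply x⟩
    rintro _ ⟨y, hy, rfl⟩
    exact (hN.1 y).2 hy
  have hsys := bn_maxSys h hU
  have hpar : ∀ (k : Fin D.rank) (n : ↥(D.group F)), n ∈ P.S →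
      (n : GL D.Idx F) = ng D F (D.simple k.val) 1 → ∀ x : ↥(D.group F),
        (x : GL D.Idx F) ∈ parI D F k.val → x ∈ P.parabolic {n} := by
    intro k n _ hnk x hx
    have hle : parI D F k.val ≤ (P.parabolic {n}).map (D.group F).subtype := by
      refine sup_le ?_ ((Subgroup.closure_le _).2 ?_)
      · intro b hb
        exact ⟨⟨b, hG.borelSubgroup_le_group hb⟩, B_le_parabolic P _ (hB ▸ hb), rfl⟩
      · rintro _ rfl
        exact ⟨n, mem_parabolic_of_mem P rfl, hnk⟩
    exact (Subgroup.mem_map_iff_mem Subtype.coe_injective).1 (hle hx)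
  have hle : (P.parabolic (P.S \ {s})).map φ.toMonoidHom ≤ P.parabolic (P.S \ {t}) := by
    rw [Subgroup.map_le_iff_le_comap]
    refine sup_le (fun b hb => B_le_parabolic P _ ?_) ((Subgroup.closure_le _).2 ?_)
    · rw [hB] at hb ⊢
      exact (hN.mem_gB hD b).2 hb
    · rintro n ⟨hn, hns⟩
      obtain ⟨k, hk, hnk⟩ := hS n hn
      set kk : Fin D.rank := ⟨k, hk⟩
      have hki : kk ≠ i := by
        intro e
        exact hns (Subtype.ext (by rw [hnk, hsi, ← e]))
      let X : F → ↥(D.group F) := fun c => ⟨xg D F (D.simple k) c, hG.xg_mem_group _ _⟩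
      let Y : F → ↥(D.group F) := fun c => ⟨xg D F (D.neg (D.simple k)) c, hG.xg_mem_group _ _⟩
      have hn' : n = X 1 * Y (-1⁻¹) * X 1 := Subtype.ext (hnk.trans rfl)
      have hval : ((φ n : ↥(D.group F)) : GL D.Idx F) ∈ parI D F (π kk).val := by
        rw [hn', map_mul, map_mul, Subgroup.coe_mul, Subgroup.coe_mul, (hf kk (X 1) 1).1 rfl,
          (hf kk (Y (-1⁻¹)) (-1⁻¹)).2 rfl]
        have hx : ∀ c, xg D F (D.simple (π kk).val) c ∈ parI D F (π kk).val := fun c =>
          Subgroup.mem_sup_left (Subgroup.mem_sup_left (xg_simple_mem hD (π kk).isLt c))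
        exact mul_mem (mul_mem (hx _) (y_mem_parI hD (π kk).isLt _)) (hx _)
      show φ n ∈ P.parabolic (P.S \ {t})
      obtain ⟨m, hm, hmk⟩ := hS' (π kk).val (π kk).isLt
      refine parabolic_mono P ?_ (hpar (π kk) m hm hmk _ hval)
      rintro x rfl
      refine ⟨hm, fun e => hki (π.injective (Fin.ext ?_))⟩
      have e' : ng D F (D.simple (π kk).val) 1 = ng D F (D.simple (π i).val) 1 := by
        rw [← hmk, ← hti, show x = t from e]
      have hP : gP D F (π kk).val = gP D F (π i).val := by rw [gP, gP, parI, parI, e']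
      exact gP_eq_of_le hD (π i).isLt (π kk).isLt hP.le
  have e1 : (P.parabolic (P.S \ {s})).map φ.toMonoidHom = P.parabolic (P.S \ {t}) :=
    hsys.eq_of_le (hsys.map_mem hφU ⟨s, hs, rfl⟩) ⟨t, ht, rfl⟩ hle
  have e2 : ∀ (Mx : Subgroup ↥(D.group F)), P.B ≤ Mx → Mx.map (MulAut.conj g⁻¹).toMonoidHom = Mx := by
    intro Mx hMx
    have hg := hMx hgB
    refine le_antisymm ?_ fun x hx => ⟨g * x * g⁻¹, mul_mem (mul_mem hg hx) (inv_mem hg), ?_⟩
    · rintro _ ⟨x, hx, rfl⟩
      show g⁻¹ * x * g⁻¹⁻¹ ∈ Mx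
      exact mul_mem (mul_mem (inv_mem hg) hx) (inv_mem (inv_mem hg))
    · show g⁻¹ * (g * x * g⁻¹) * g⁻¹⁻¹ = x
      group
  rw [← e2 _ (B_le_parabolic P (P.S \ {t})), ← e1, Subgroup.map_map]
  congr 1
  refine MonoidHom.ext fun x => ?_
  show α x = g⁻¹ * (g * α x * g⁻¹) * g⁻¹⁻¹
  group

/-- Exclusion from two nodes that no diagram permutation of `p`-power order exchanges. -/
theorem chev_excluded (hD : Seven D) {p f : ℕ} [Fact p.Prime] [CharP F p] (hF : Fintype.card F = p ^ f)
    [IsSimpleGroup ↥(D.group F)] {G : Type*} [Group G] (e : ↥(D.group F) ≃* G) (i j : Fin D.rank)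
    (hne : ∀ α : MulAut ↥(D.group F), ∀ k, α ^ p ^ k = 1 → diagram hD p f hF α i ≠ j) :
    PMinExcluded p G := by
  classical
  haveI : Finite ↥(D.group F) := inferInstance
  letI := Fintype.ofFinite ↥(D.group F)
  have hG := good_of_mem hD
  obtain ⟨P, h, hB, hS', hS⟩ := exists_chev_split (F := F) hD (p := p)
  have hU : gU D F ≠ ⊥ := fun e' => by
    have h1 : (⟨xg D F (D.simple i.val) 1, hG.xg_mem_group _ _⟩ : ↥(D.group F)) ∈ gU D F :=
      xg_simple_mem hD i.isLt 1
    rw [e', Subgroup.mem_bot] at h1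
    exact xg_ne_one hD (hG.simple_lt i.isLt) one_ne_zero (congrArg Subtype.val h1)
  obtain ⟨s, hs, hsi⟩ := hS' i.val i.isLt
  obtain ⟨t, ht, htj⟩ := hS' j.val j.isLt
  refine bn_excluded_of h e hU hs ht fun α k hk hαU e' => hne α k hk ?_
  obtain ⟨t', ht', hti⟩ := hS' (diagram hD p f hF α i).val (diagram hD p f hF α i).isLt
  have h1 : t' = t := maxPar_inj ht'
    ((diagram_maxPar hD hF h hB hS' hS hU hαU i hs ht' hsi hti).symm.trans e')
  have h2 : gP D F (diagram hD p f hF α i).val = gP D F j.val := by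
    have hng : ng D F (D.simple (diagram hD p f hF α i).val) 1 = ng D F (D.simple j.val) 1 := by
      rw [← hti, ← htj, h1]
    rw [gP, gP, parI, parI, hng]
  exact Fin.ext (gP_eq_of_le hD j.isLt (diagram hD p f hF α i).isLt h2.le)

theorem diagram_pow_eq_one (hD : Seven D) {p f : ℕ} [Fact p.Prime] [CharP F p]
    (hF : Fintype.card F = p ^ f) {α : MulAut ↥(D.group F)} {k : ℕ} (hk : α ^ p ^ k = 1) :
    diagram hD p f hF α ^ p ^ k = 1 := by
  have h1 := congrArg (diagramHom hD p f hF) hk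
  rw [map_pow, map_one] at h1
  exact h1

theorem diagram_G2 {p f : ℕ} [Fact p.Prime] [CharP F p] (hF : Fintype.card F = p ^ f)
    (hq : 3 ≤ Fintype.card F) (hD : Seven chevG2) {α : MulAut ↥(chevG2.group F)} {k : ℕ}
    (hk : α ^ p ^ k = 1) : diagram hD p f hF α = 1 := by
  obtain ⟨g, π, hN, hz, σ₀, a₀, hf₀⟩ := exists_diagram hD p f hF α
  have hπ : diagram hD p f hF α = π := diagram_eq hD p f hF hN hf₀
  rw [hπ]
  refine (covG2 π hz).resolve_right ?_
  rintro rfl
  by_cases hp2 : p = 2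
  · subst hp2
    obtain ⟨π', σ, a, hf, -, hrel⟩ := exists_form hD hN
    obtain ⟨e, -, -⟩ := Form.inj hD hf hf₀
    subst e
    obtain ⟨i, j, hA, hA'⟩ : ∃ i j, cA chevG2 i j = -1 ∧ cA chevG2 (swapG2 i) (swapG2 j) = -((3 : ℕ) : ℤ) := by
      decide +kernel
    have hadd := pow_additive hD hrel hA hA' (by norm_num)
    have h2 : (2 : F) = 0 := CharTwo.two_eq_zero
    have hall : ∀ x : F, x = 0 ∨ x = 1 := fun x => by
      have := hadd x 1
      have hx : x * (x + 1) = 0 := by
        linear_combination this - (x ^ 2 + x) * h2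
      rcases mul_eq_zero.1 hx with h | h
      · exact Or.inl h
      · exact Or.inr (by linear_combination h - h2)
    classical
    have hsub : (Finset.univ : Finset F) ⊆ {0, 1} := fun x _ => by
      rcases hall x with h | h <;> simp [h]
    have := Finset.card_le_card hsub
    rw [Finset.card_univ] at this
    have h3 := le_trans this Finset.card_le_two
    omega
  · have h1 := diagram_pow_eq_one hD hF hk
    rw [hπ] at h1
    have hodd : Odd (p ^ k) := ((Fact.out : p.Prime).odd_of_ne_two hp2).pow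
    obtain ⟨m, hm⟩ := hodd
    have hsq : swapG2 ^ 2 = 1 := by decide +kernel
    rw [hm, pow_succ, pow_mul, hsq, one_pow, one_mul] at h1
    have := congrArg (fun s : Equiv.Perm (Fin chevG2.rank) => (s ⟨0, by decide +kernel⟩).val) h1
    revert this; decide +kernel

theorem diagram_range (hD : Seven D) {p f : ℕ} [Fact p.Prime] [CharP F p] (hF : Fintype.card F = p ^ f)
    {Z : List ℕ} (hZ : zB D Z = true) (hext : ext D.rank Z D.rank = [List.range D.rank])
    (α : MulAut ↥(D.group F)) : diagram hD p f hF α = 1 := by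
  have := perm_cases hZ hext _ (diagram_zero hD p f hF α)
  rw [List.mem_singleton] at this
  exact one_of_list _ this

/-- Exceptional Chevalley groups are never socles of `p`-minimal groups. -/
theorem exceptional_pmin {G : Type*} [Group G] [IsSimpleGroup G] {p : ℕ} [Fact p.Prime]
    (hG : Cfsg.IsExceptionalChevChar p G) : PMinExcluded p G := by
  obtain ⟨F, _, _, _, h⟩ := hG
  obtain ⟨f, -, hF⟩ := FiniteField.card F p
  rcases h with ⟨h3, ⟨e⟩⟩ | ⟨⟨e⟩⟩ | ⟨⟨e⟩⟩ | ⟨⟨e⟩⟩ | ⟨⟨e⟩⟩
  · haveI : IsSimpleGroup ↥(chevG2.group F) := e.symm.isSimpleGroup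
    refine chev_excluded (by simp) hF e.symm (⟨0, by decide +kernel⟩ : Fin chevG2.rank) ⟨1, by decide +kernel⟩
      fun α k hk e' => ?_
    rw [diagram_G2 hF h3 _ hk] at e'
    revert e'; decide +kernel
  · haveI : IsSimpleGroup ↥(chevF4.group F) := e.symm.isSimpleGroup
    refine chev_excluded (by simp) hF e.symm (⟨0, by decide +kernel⟩ : Fin chevF4.rank) ⟨1, by decide +kernel⟩
      fun α k _ e' => ?_
    rcases covF4 _ (diagram_zero (by simp) p f hF α) with h | h <;> rw [h] at e' <;> revert e' <;>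
      decide +kernel
  · haveI : IsSimpleGroup ↥(chevE6.group F) := e.symm.isSimpleGroup
    refine chev_excluded (by simp) hF e.symm (⟨0, by decide +kernel⟩ : Fin chevE6.rank) ⟨1, by decide +kernel⟩
      fun α k _ e' => ?_
    rcases covE6 _ (diagram_zero (by simp) p f hF α) with h | h <;> rw [h] at e' <;> revert e' <;>
      decide +kernel
  · haveI : IsSimpleGroup ↥(chevE7.group F) := e.symm.isSimpleGroup
    refine chev_excluded (by simp) hF e.symm (⟨0, by decide +kernel⟩ : Fin chevE7.rank) ⟨1, by decide +kernel⟩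
      fun α k _ e' => ?_
    rw [diagram_range _ hF zE7 extE7] at e'
    revert e'; decide +kernel
  · haveI : IsSimpleGroup ↥(chevE8.group F) := e.symm.isSimpleGroup
    refine chev_excluded (by simp) hF e.symm (⟨0, by decide +kernel⟩ : Fin chevE8.rank) ⟨1, by decide +kernel⟩
      fun α k _ e' => ?_
    rw [diagram_range _ hF zE8 extE8] at e'
    revert e'; decide +kernel

end Cfsg.Agent.LieStruct
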