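/-
`A₆`, `L₂(8)` and the Suzuki groups as socles of `p`-minimal groups (helper32).
-/
import Cfsg.Agent.LieStruct.PMin
import Cfsg.Agent.LieStruct.Small
import Cfsg.Agent.LieStruct.RankOne
import Cfsg.Agent.LieStruct.Simple
import Cfsg.Agent.Lib.Thompson.Cores
import Cfsg.Agent.Lib.Dickson.Tori

set_option autoImplicit false
set_option maxRecDepth 100000

namespace Cfsg.Agent.LieStruct

namespace A6

/-- The double transposition. -/
def zP : Equiv.Perm (Fin 6) := Equiv.swap 0 1 * Equiv.swap 2 3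

/-- The involutions of the first Klein group. -/
def v₁ : List (Equiv.Perm (Fin 6)) :=
  [1, zP, Equiv.swap 0 1 * Equiv.swap 4 5, Equiv.swap 2 3 * Equiv.swap 4 5]

/-- The involutions of the second Klein group. -/
def v₂ : List (Equiv.Perm (Fin 6)) :=
  [1, zP, Equiv.swap 0 2 * Equiv.swap 1 3, Equiv.swap 0 3 * Equiv.swap 1 2]

theorem cent_card :
    (Finset.univ.filter fun g : Equiv.Perm (Fin 6) =>
      Equiv.Perm.sign g = 1 ∧ g * zP = zP * g).card = 8 := by decide +kernel

/-- The elements of the Sylow subgroup. -/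
def uL : List (Equiv.Perm (Fin 6)) :=
  v₁ ++ v₂ ++ [Equiv.swap 0 2 * Equiv.swap 1 3 * (Equiv.swap 0 1 * Equiv.swap 4 5),
    Equiv.swap 0 2 * Equiv.swap 1 3 * (Equiv.swap 2 3 * Equiv.swap 4 5)]

theorem cent_mem : ∀ g : Equiv.Perm (Fin 6), Equiv.Perm.sign g = 1 → g * zP = zP * g → g ∈ uL := by
  decide +kernel

theorem cent_inv {g : Equiv.Perm (Fin 6)} (h1 : Equiv.Perm.sign g = 1) (h2 : g * zP = zP * g)
    (h3 : g * g = 1) : g ∈ v₁ ∨ g ∈ v₂ :=
  (show ∀ g ∈ uL, g * g = 1 → g ∈ v₁ ∨ g ∈ v₂ by decide +kernel) g (cent_mem g h1 h2) h3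

theorem klein_conj : ∀ g ∈ uL, (∀ x ∈ v₁, g * x * g⁻¹ ∈ v₁) ∧ (∀ x ∈ v₂, g * x * g⁻¹ ∈ v₂) := by
  decide +kernel

theorem klein {l : List (Equiv.Perm (Fin 6))} (hl : l ∈ [v₁, v₂]) {g : Equiv.Perm (Fin 6)}
    (h1 : Equiv.Perm.sign g = 1) (h2 : g * zP = zP * g) : ∀ x ∈ l, g * x * g⁻¹ ∈ l := by
  simp only [List.mem_cons, List.not_mem_nil, or_false] at hl
  rcases hl with rfl | rfl
  exacts [(klein_conj g (cent_mem g h1 h2)).1, (klein_conj g (cent_mem g h1 h2)).2]

theorem central_eq : ∀ x ∈ uL, x ≠ 1 → (∀ u ∈ uL, u * x = x * u) → x = zP := by decide +kernel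

theorem uL_sign : ∀ u ∈ uL, Equiv.Perm.sign u = 1 ∧ u * zP = zP * u := by decide +kernel

set_option synthInstance.maxSize 4096 in
theorem fill : (∀ r ∈ uL, r ∉ v₁ → ∀ u ∈ uL, u ∈ v₁ ∨ r⁻¹ * u ∈ v₁) ∧
    (∀ r ∈ uL, r ∉ v₂ → ∀ u ∈ uL, u ∈ v₂ ∨ r⁻¹ * u ∈ v₂) := by decide +kernel

set_option synthInstance.maxSize 4096 in
theorem gen : (∀ x ∈ v₁, x ≠ 1 → x ≠ zP → ∀ y ∈ v₁, y = 1 ∨ y = zP ∨ y = x ∨ y = zP * x) ∧
    (∀ x ∈ v₂, x ≠ 1 → x ≠ zP → ∀ y ∈ v₂, y = 1 ∨ y = zP ∨ y = x ∨ y = zP * x) := by decide +kernel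

theorem klein_meet : ∀ x ∈ v₁, x ∈ v₂ → x = 1 ∨ x = zP := by decide +kernel

theorem movers : ∀ l ∈ [(v₁, (Equiv.swap 0 4 * Equiv.swap 0 2) * (Equiv.swap 1 5 * Equiv.swap 1 3)),
      (v₂, Equiv.swap 0 2 * Equiv.swap 0 1)],
    Equiv.Perm.sign l.2 = 1 ∧ l.2 * zP ≠ zP * l.2 ∧ ∀ x ∈ l.1, l.2 * x * l.2⁻¹ ∈ l.1 := by
  decide +kernel

theorem zP_facts : Equiv.Perm.sign zP = 1 ∧ zP * zP = 1 ∧ zP ≠ 1 ∧ zP ∈ v₁ ∧ zP ∈ v₂ := by decide +kernel

local notation "AA" => alternatingGroup (Fin 6)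

/-- The double transposition in `A₆`. -/
def z : AA := ⟨zP, Equiv.Perm.mem_alternatingGroup.2 zP_facts.1⟩

/-- The Sylow subgroup. -/
def U : Subgroup AA := Subgroup.centralizer {z}

theorem mem_U {g : AA} : g ∈ U ↔ (g : Equiv.Perm (Fin 6)) * zP = zP * g := by
  rw [U, Subgroup.mem_centralizer_singleton_iff, Subtype.ext_iff]
  exact Iff.rfl

theorem card_U : Nat.card U = 8 := by
  rw [← cent_card]
  classical
  rw [← Fintype.card_coe, ← Nat.card_eq_fintype_card]
  refine Nat.card_congr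
    { toFun := fun g => ⟨(g : AA), Finset.mem_filter.2 ⟨Finset.mem_univ _,
        Equiv.Perm.mem_alternatingGroup.1 (g : AA).2, mem_U.1 g.2⟩⟩
      invFun := fun g => ⟨⟨g.1, Equiv.Perm.mem_alternatingGroup.2 (Finset.mem_filter.1 g.2).2.1⟩,
        mem_U.2 (Finset.mem_filter.1 g.2).2.2⟩
      left_inv := fun g => rfl
      right_inv := fun g => rfl }

/-- The elements of a list inside `A₆`. -/
def kl (l : List (Equiv.Perm (Fin 6))) : Set AA := {x | (x : Equiv.Perm (Fin 6)) ∈ l}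

theorem U_le_norm {l : List (Equiv.Perm (Fin 6))} (hl : l ∈ [v₁, v₂]) :
    ∀ g ∈ U, g ∈ Subgroup.normalizer (kl l) := by
  intro g hg
  refine Subgroup.mem_set_normalizer_iff.2 fun x => ⟨fun hx => ?_, fun hx => ?_⟩
  · exact klein hl (Equiv.Perm.mem_alternatingGroup.1 g.2) (mem_U.1 hg) _ hx
  · have := klein hl (Equiv.Perm.mem_alternatingGroup.1 (g⁻¹).2) (mem_U.1 (inv_mem hg)) _ hx
    simpa [kl, mul_assoc] using this

theorem a6_pmin : PMinSwap 2 AA := by
  haveI : Fact (Nat.Prime 2) := ⟨Nat.prime_two⟩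
  haveI : IsSimpleGroup AA := alternatingGroup.isSimpleGroup (by simp)
  classical
  set M : Bool → Subgroup AA := fun b => Subgroup.normalizer (kl (bif b then v₁ else v₂)) with hM
  have hUM : ∀ b, U ≤ M b := fun b g hg => by
    cases b
    · exact U_le_norm (by simp) g hg
    · exact U_le_norm (by simp) g hg
  have hcard : Nat.card AA = 360 := by
    have := two_mul_nat_card_alternatingGroup (α := Fin 6)
    rw [Nat.card_perm, Nat.card_eq_fintype_card (α := Fin 6), Fintype.card_fin] at this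
    simp only [show Nat.factorial 6 = 720 from rfl] at this
    omega
  have hS : Nat.card U = 2 ^ (Nat.card AA).factorization 2 := by
    rw [card_U, hcard, show (360 : ℕ) = 2 ^ 3 * 45 from rfl,
      Nat.factorization_mul (by norm_num) (by norm_num), Finsupp.add_apply,
      Nat.Prime.factorization_pow Nat.prime_two, Finsupp.single_eq_same,
      Nat.factorization_eq_zero_of_not_dvd (show ¬ 2 ∣ 45 by norm_num)]
    rfl
  set S : Sylow 2 AA := Sylow.ofCard U hS with hSdef
  have hSU : (S : Subgroup AA) = U := rfl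
  -- the intersection
  have hmeet : ∀ g, g ∈ M true → g ∈ M false → g ∈ U := by
    intro g h1 h2
    have e1 : g * z * g⁻¹ ∈ kl v₁ := (Subgroup.mem_set_normalizer_iff.1 h1 z).1 zP_facts.2.2.2.1
    have e2 : g * z * g⁻¹ ∈ kl v₂ := (Subgroup.mem_set_normalizer_iff.1 h2 z).1 zP_facts.2.2.2.2
    rcases klein_meet _ e1 e2 with e | e
    · exact absurd (congrArg Subtype.val (conj_eq_one_iff.1 (Subtype.ext e : g * z * g⁻¹ = 1)))
        zP_facts.2.2.1
    · have e' : g * z * g⁻¹ = z := Subtype.ext e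
      rw [mul_inv_eq_iff_eq_mul] at e'
      exact mem_U.2 (congrArg Subtype.val e')
  have hmove : ∀ b, ∃ g, g ∈ M b ∧ g ∉ U := by
    intro b
    have key : ∀ (l : List (Equiv.Perm (Fin 6))) (g : Equiv.Perm (Fin 6)), l ∈ [v₁, v₂] →
        (Equiv.Perm.sign g = 1 ∧ g * zP ≠ zP * g ∧ ∀ x ∈ l, g * x * g⁻¹ ∈ l) →
        ∃ g' : AA, g' ∈ Subgroup.normalizer (kl l) ∧ g' ∉ U := by
      rintro l g hl ⟨h1, h2, h3⟩
      refine ⟨⟨g, Equiv.Perm.mem_alternatingGroup.2 h1⟩, ?_, fun h => h2 (mem_U.1 h)⟩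
      let f : {x // x ∈ l} → {x // x ∈ l} := fun x => ⟨g * x * g⁻¹, h3 x x.2⟩
      have hf : Function.Surjective f := Finite.surjective_of_injective fun x y e =>
        Subtype.ext (by simpa [f] using e)
      refine Subgroup.mem_set_normalizer_iff.2 fun x => ⟨fun hx => h3 _ hx, fun hx => ?_⟩
      obtain ⟨y, hy⟩ := hf ⟨_, hx⟩
      have : (y : Equiv.Perm (Fin 6)) = x := by simpa [f] using hy
      show (x : Equiv.Perm (Fin 6)) ∈ l
      exact this ▸ y.2
    cases b
    · exact key v₂ _ (by simp) (movers (v₂, Equiv.swap 0 2 * Equiv.swap 0 1) (by simp))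
    · exact key v₁ _ (by simp) (movers (v₁, (Equiv.swap 0 4 * Equiv.swap 0 2) * (Equiv.swap 1 5 * Equiv.swap 1 3)) (by simp))
  have hne : ∀ b, M b ≠ ⊤ := fun b e => by
    obtain ⟨g, hg, hgU⟩ := hmove (!b)
    refine hgU ?_
    cases b
    · exact hmeet g hg (e.ge (Subgroup.mem_top g))
    · exact hmeet g (e.ge (Subgroup.mem_top g)) hg
  have hsys : MaxSys U (Set.range M) := by
    refine ⟨?_, ?_, fun Y hUY hY => ?_, ?_⟩
    · rintro _ ⟨b, rfl⟩; exact hUM b
    · rintro _ ⟨b, rfl⟩; exact hne b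
    · by_contra hno
      push Not at hno
      have hover : Over 2 AA := Small.over_A6 hcard
      have hidx : ¬ 2 ∣ Y.index := fun h =>
        S.not_dvd_index (h.trans (Subgroup.index_dvd_of_le (hSU ▸ hUY)))
      have hcore : Cfsg.pCore 2 ↥Y ≠ ⊥ := fun e => hY (hover Y e hidx)
      set R : Subgroup AA := (Cfsg.pCore 2 ↥Y).map Y.subtype with hR
      have hRn : ∀ y ∈ Y, ∀ n ∈ R, y * n * y⁻¹ ∈ R := by
        rintro y hy _ ⟨n, hn, rfl⟩
        exact ⟨_, (Thompson.instPCoreNormal (p := 2) (G := ↥Y)).conj_mem n hn ⟨y, hy⟩, rfl⟩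
      have hnorm : U ≤ Subgroup.normalizer (R : Set AA) := fun y hy => by
        rw [Subgroup.mem_normalizer_iff]
        refine fun n => ⟨hRn y (hUY hy) n, fun h => ?_⟩
        have := hRn y⁻¹ (inv_mem (hUY hy)) _ h
        simpa [mul_assoc] using this
      have hRp : IsPGroup 2 R := Thompson.isPGroup_pCore.map _
      have hRU : R ≤ U := hSU ▸ le_sup_right.trans
        (S.is_maximal' (IsPGroup.to_sup_of_normal_right' S.2 hRp (hSU ▸ hnorm)) le_sup_left).le
      -- a non-trivial element fixed by the Sylow subgroup is `z`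
      have hzR : z ∈ R := by
        haveI hRn' : (R.subgroupOf U).Normal := ⟨fun n hn u => by
          rw [Subgroup.mem_subgroupOf] at hn ⊢
          exact hRn u (hUY u.2) n hn⟩
        haveI : Nontrivial ↥(R.subgroupOf U) := by
          rw [Subgroup.nontrivial_iff_ne_bot]
          intro e
          refine hcore ((Subgroup.eq_bot_iff_forall _).2 fun n hn => ?_)
          have hnR : (n : AA) ∈ R := ⟨n, hn, rfl⟩
          have : (⟨(n : AA), hRU hnR⟩ : ↥U) ∈ R.subgroupOf U := Subgroup.mem_subgroupOf.2 hnR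
          rw [e, Subgroup.mem_bot] at this
          exact Subtype.ext (congrArg (fun u : ↥U => (u : AA)) this)
        letI : MulAction ↥U ↥(R.subgroupOf U) := MulAction.compHom _ (MulAut.conjNormal : ↥U →* MulAut ↥(R.subgroupOf U))
        obtain ⟨w, hw, hw1⟩ := (IsPGroup.of_card (n := 3) (by rw [card_U]; rfl) : IsPGroup 2 ↥U).exists_fixed_point_of_prime_dvd_card_of_fixed_point
          ↥(R.subgroupOf U) (by
            obtain ⟨k, hk⟩ := IsPGroup.iff_card.1 ((IsPGroup.of_card (n := 3) (by rw [card_U]; rfl) : IsPGroup 2 ↥U).to_subgroup (R.subgroupOf U))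
            rcases Nat.eq_zero_or_pos k with rfl | hk0
            · exact absurd hk (Finite.one_lt_card).ne'
            · exact hk ▸ dvd_pow_self 2 hk0.ne') (a := 1) (fun u => map_one (MulAut.conjNormal u))
        set x : AA := ((w : ↥U) : AA) with hx
        have hxU : x ∈ U := (w : ↥U).2
        have hxR : x ∈ R := Subgroup.mem_subgroupOf.1 w.2
        have hx1 : x ≠ 1 := fun e => hw1 (Subtype.ext (Subtype.ext e)).symm
        have hcomm : ∀ u ∈ U, u * x * u⁻¹ = x := fun u hu => by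
          have h1 := congrArg (fun v : ↥(R.subgroupOf U) => ((v : ↥U) : AA)) (hw ⟨u, hu⟩)
          exact h1
        have hcase : ∀ x : Equiv.Perm (Fin 6), Equiv.Perm.sign x = 1 → x * zP = zP * x → x ≠ 1 →
            (∀ u : Equiv.Perm (Fin 6), Equiv.Perm.sign u = 1 → u * zP = zP * u → u * x = x * u) →
            x = zP := fun x h1 h2 h3 h4 => central_eq x (cent_mem x h1 h2) h3 fun u hu =>
              h4 u (uL_sign u hu).1 (uL_sign u hu).2
        have : (x : Equiv.Perm (Fin 6)) = zP := hcase _ (Equiv.Perm.mem_alternatingGroup.1 x.2)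
          (mem_U.1 hxU) (fun e => hx1 (Subtype.ext e)) fun u h1 h2 => by
            have := congrArg Subtype.val (mul_inv_eq_iff_eq_mul.1
              (hcomm ⟨u, Equiv.Perm.mem_alternatingGroup.2 h1⟩ (mem_U.2 h2)))
            exact this
        exact (Subtype.ext this : x = z) ▸ hxR
      -- some element of `Y` moves `z`
      obtain ⟨g, hgY, hgU⟩ : ∃ g ∈ Y, g ∉ U := by
        by_contra h
        push Not at h
        exact hno (M true) ⟨true, rfl⟩ (fun g hg => hUM true (h g hg))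
      set x := g * z * g⁻¹ with hxdef
      have hxR : x ∈ R := hRn g hgY z hzR
      have hxz : x ≠ z := fun e => hgU (mem_U.2 (congrArg Subtype.val (mul_inv_eq_iff_eq_mul.1 e)))
      have hx2 : x * x = 1 := by
        rw [hxdef, show g * z * g⁻¹ * (g * z * g⁻¹) = g * (z * z) * g⁻¹ by group,
          show z * z = 1 from Subtype.ext zP_facts.2.1]
        group
      have hx1 : x ≠ 1 := fun e => zP_facts.2.2.1 (congrArg Subtype.val (conj_eq_one_iff.1 e))
      obtain ⟨b, hb⟩ : ∃ b : Bool, x ∈ kl (bif b then v₁ else v₂) := by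
        rcases cent_inv (Equiv.Perm.mem_alternatingGroup.1 x.2) (mem_U.1 (hRU hxR))
          (congrArg Subtype.val hx2) with h | h
        exacts [⟨true, h⟩, ⟨false, h⟩]
      set l := bif b then v₁ else v₂ with hl
      have hlmem : l ∈ [v₁, v₂] := by cases b <;> simp [hl]
      have hlR : ∀ y : AA, y ∈ kl l → y ∈ R := by
        have h4 : ∀ l ∈ [v₁, v₂], ∀ x ∈ l, x ≠ 1 → x ≠ zP → ∀ y ∈ l,
            y = 1 ∨ y = zP ∨ y = x ∨ y = zP * x := by
          intro l hl
          simp only [List.mem_cons, List.not_mem_nil, or_false] at hl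
          rcases hl with rfl | rfl
          exacts [gen.1, gen.2]
        intro y hy
        rcases h4 l hlmem _ hb (fun e => hx1 (Subtype.ext e)) (fun e => hxz (Subtype.ext e)) _ hy with
          e | e | e | e
        · exact (Subtype.ext e : y = 1) ▸ one_mem _
        · exact (Subtype.ext e : y = z) ▸ hzR
        · exact (Subtype.ext e : y = x) ▸ hxR
        · exact (Subtype.ext e : y = z * x) ▸ mul_mem hzR hxR
      by_cases hall : ∀ r ∈ R, r ∈ kl l
      · refine hno (M b) ⟨b, rfl⟩ fun y hy => Subgroup.mem_set_normalizer_iff.2 fun n =>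
          ⟨fun hn => hall _ (hRn y hy n (hlR n hn)), fun hn => hall _ ?_⟩
        have := hRn y⁻¹ (inv_mem hy) _ (hlR _ hn)
        simpa [mul_assoc] using this
      push Not at hall
      obtain ⟨r, hrR, hrl⟩ := hall
      have hfill : ∀ l ∈ [v₁, v₂], ∀ r u : Equiv.Perm (Fin 6), Equiv.Perm.sign r = 1 → r * zP = zP * r →
          r ∉ l → Equiv.Perm.sign u = 1 → u * zP = zP * u → u ∈ l ∨ r⁻¹ * u ∈ l := by
        intro l hl r u h1 h2 h3 h4 h5
        simp only [List.mem_cons, List.not_mem_nil, or_false] at hl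
        rcases hl with rfl | rfl
        exacts [fill.1 r (cent_mem r h1 h2) h3 u (cent_mem u h4 h5), fill.2 r (cent_mem r h1 h2) h3 u (cent_mem u h4 h5)]
      have hUR : U ≤ R := fun u hu => by
        rcases hfill l hlmem _ u (Equiv.Perm.mem_alternatingGroup.1 r.2) (mem_U.1 (hRU hrR)) hrl
          (Equiv.Perm.mem_alternatingGroup.1 u.2) (mem_U.1 hu) with h | h
        · exact hlR u h
        · have := mul_mem hrR (hlR (r⁻¹ * u) h)
          rwa [mul_inv_cancel_left] at this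
      -- `Y` normalises `U` and so fixes its only central involution
      refine hgU (mem_U.2 ?_)
      have hcase : ∀ x : Equiv.Perm (Fin 6), Equiv.Perm.sign x = 1 → x * zP = zP * x → x ≠ 1 →
          (∀ u : Equiv.Perm (Fin 6), Equiv.Perm.sign u = 1 → u * zP = zP * u → u * x = x * u) →
          x = zP := fun x h1 h2 h3 h4 => central_eq x (cent_mem x h1 h2) h3 fun u hu =>
            h4 u (uL_sign u hu).1 (uL_sign u hu).2
      have hxc : ∀ u ∈ U, u * x = x * u := fun u hu => by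
        have h1 : g⁻¹ * u * g ∈ U := hRU (by
          have := hRn g⁻¹ (inv_mem hgY) u (hUR hu)
          rwa [inv_inv] at this)
        have h2 : (g⁻¹ * u * g) * z = z * (g⁻¹ * u * g) := Subtype.ext (mem_U.1 h1)
        calc u * x = g * ((g⁻¹ * u * g) * z) * g⁻¹ := by rw [hxdef]; group
          _ = x * u := by rw [h2, hxdef]; group
      exact absurd (Subtype.ext (hcase _ (Equiv.Perm.mem_alternatingGroup.1 x.2) (mem_U.1 (hRU hxR))
        (fun e => hx1 (Subtype.ext e)) fun u h1 h2 =>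
          congrArg Subtype.val (hxc ⟨u, Equiv.Perm.mem_alternatingGroup.2 h1⟩ (mem_U.2 h2)))) hxz
    · rintro _ ⟨b, rfl⟩ hle
      obtain ⟨g, hg, hgU⟩ := hmove (!b)
      have hgb : g ∈ M b := hle (Subgroup.mem_sInf.2 (by
        rintro _ ⟨⟨c, rfl⟩, hc⟩
        have : c = !b := by cases b <;> cases c <;> simp_all
        exact this ▸ hg))
      refine hgU ?_
      cases b
      exacts [hmeet g hg hgb, hmeet g hgb hg]
  refine pminSwap_of (MulEquiv.refl AA) S (𝕄 := Set.range M) hsys (fun g hg => ?_)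
    (M := M true) (M' := M false) ⟨true, rfl⟩ ⟨false, rfl⟩ fun e => ?_
  · rw [hSU]
    exact Subgroup.le_normalizer
      (hmeet g (Subgroup.mem_sInf.1 hg _ ⟨true, rfl⟩) (Subgroup.mem_sInf.1 hg _ ⟨false, rfl⟩))
  · obtain ⟨g, hg, hgU⟩ := hmove true
    exact hgU (hmeet g hg (e ▸ hg))

end A6

theorem a6_pmin' {G : Type*} [Group G] (e : G ≃* alternatingGroup (Fin 6)) : PMinSwap 2 G := by
  haveI : Fact (Nat.Prime 2) := ⟨Nat.prime_two⟩
  obtain ⟨U₀⟩ : Nonempty (Sylow 2 (alternatingGroup (Fin 6))) := inferInstance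
  obtain ⟨𝕄, h, hinf, M, hM, M', hM', hne⟩ := A6.a6_pmin U₀
  exact pminSwap_of e.symm U₀ h hinf hM hM' hne

theorem suzuki_pmin {G : Type*} [Group G] (hG : Cfsg.Lie.IsoSuzuki G) : PMinSys 2 G := by
  haveI : Fact (Nat.Prime 2) := ⟨Nat.prime_two⟩
  obtain ⟨F, _, _, m, hm, hF, ⟨e⟩⟩ := id hG
  have f : Cfsg.Sz F m ≃* G := (RankOne.SzBridge.szEquiv hF hm).trans e.symm
  haveI : IsSimpleGroup G := isSimpleGroup_lieType (p := 2)
    (Or.inr (Or.inr (Or.inr (Or.inr (Or.inr (Or.inr (Or.inr (Or.inr (Or.inl ⟨rfl, hG⟩)))))))))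
  haveI : IsSimpleGroup (Cfsg.Sz F m) := f.isSimpleGroup
  haveI : Finite (Cfsg.Sz F m) := inferInstance
  set D := szGeo hF hm with hD
  set Q : Sylow 2 (Cfsg.Sz F m) := IsPGroup.toSylow (Suzuki.isPGroup_USub hF) (Suzuki.index_USub_odd hF hm)
  have hQ : (Q : Subgroup (Cfsg.Sz F m)) = D.Q := rfl
  set M := MulAction.stabilizer (Cfsg.Sz F m) D.x₀ with hMdef
  have hQM : D.Q ≤ M := fun u hu => D.fix u hu
  have hMne : M ≠ ⊤ := fun e => by
    obtain ⟨o, ho⟩ := D.ex
    obtain ⟨g, rfl⟩ := D.trans o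
    exact ho (MulAction.mem_stabilizer_iff.1 (e.ge (Subgroup.mem_top g))).symm
  have hsys : MaxSys D.Q {M} := by
    refine ⟨?_, ?_, fun Y hQY hY => ⟨M, rfl, fun y hy => ?_⟩, ?_⟩
    · rintro _ rfl; exact hQM
    · rintro _ rfl; exact hMne
    · by_contra hne
      refine hY (top_le_iff.1 ?_)
      have hnc : Subgroup.normalClosure (D.Q : Set (Cfsg.Sz F m)) = ⊤ :=
        (Subgroup.Normal.eq_bot_or_eq_top inferInstance).resolve_left fun e =>
          D.Q_ne_bot (le_bot_iff.1 (e ▸ Subgroup.subset_normalClosure))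
      rw [← hnc, Subgroup.normalClosure, Subgroup.closure_le]
      intro x hx
      obtain ⟨u, hu, hc⟩ := Group.mem_conjugatesOfSet_iff.1 hx
      obtain ⟨g, rfl⟩ := isConj_iff.1 hc
      obtain ⟨v, hv, hvg⟩ : ∃ v ∈ Y, v • D.x₀ = g • D.x₀ := by
        by_cases h0 : g • D.x₀ = D.x₀
        · exact ⟨1, one_mem _, by rw [one_smul, h0]⟩
        · obtain ⟨q, hq, e⟩ := D.transO (y • D.x₀) (g • D.x₀) (fun e => hne (MulAction.mem_stabilizer_iff.2 e.symm))
            (fun e => h0 e.symm)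
          exact ⟨q * y, mul_mem (hQY hq) hy, by rw [mul_smul, e]⟩
      have h1 : (v⁻¹ * g) • D.x₀ = D.x₀ := by rw [mul_smul, ← hvg, inv_smul_smul]
      have e1 : g * u * g⁻¹ = v * ((v⁻¹ * g) * u * (v⁻¹ * g)⁻¹) * v⁻¹ := by group
      rw [e1]
      exact mul_mem (mul_mem hv (hQY (D.normal _ h1 u hu))) (inv_mem hv)
    · rintro _ rfl hle
      refine hMne (top_le_iff.1 (le_trans ?_ hle))
      simp
  refine pminSys_of f Q (hQ ▸ hsys) ?_
  rw [hQ, sInf_singleton]
  intro g hg
  refine Subgroup.mem_normalizer_iff.2 fun u => ⟨D.normal g hg u, fun hu => ?_⟩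
  have := D.normal g⁻¹ (inv_mem hg : g⁻¹ ∈ M) _ hu
  simpa [mul_assoc] using this

theorem l28_pmin {G : Type*} [Group G] {F : Type} [Field F] [Fintype F] (hF : Fintype.card F = 8)
    (e : G ≃* Matrix.ProjectiveSpecialLinearGroup (Fin 2) F) : PMinSys 3 G := by
  classical
  haveI : Fact (Nat.Prime 3) := ⟨Nat.prime_three⟩
  haveI : Finite G := Finite.of_equiv _ e.toEquiv.symm
  haveI : IsSimpleGroup G := isSimpleGroup_chevSimple (p := 3)
    (Or.inr (Or.inr ⟨rfl, F, inferInstance, inferInstance, hF, ⟨e⟩⟩))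
  have hG : Nat.card G = 504 := by
    rw [Nat.card_congr e.toEquiv, Nat.card_eq_fintype_card]
    have := Dickson.card_psl_eq (F := F)
    rw [hF] at this
    norm_num at this
    exact this
  have hover := Small.over_L28 hG
  intro U
  have hU : Nat.card U = 9 := by
    rw [U.card_eq_multiplicity, hG, show (504 : ℕ) = 3 ^ 2 * 56 from rfl,
      Nat.factorization_mul (by norm_num) (by norm_num), Finsupp.add_apply,
      Nat.Prime.factorization_pow Nat.prime_three, Finsupp.single_eq_same,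
      Nat.factorization_eq_zero_of_not_dvd (show ¬ 3 ∣ 56 by norm_num)]
    rfl
  set M := Subgroup.normalizer ((U : Subgroup G) : Set G) with hM
  -- every proper overgroup normalises `U`
  have hcov : ∀ Y : Subgroup G, (U : Subgroup G) ≤ Y → Y ≠ ⊤ → Y ≤ M := by
    intro Y hUY hY
    have hidx : ¬ 3 ∣ Y.index := fun h => U.not_dvd_index (h.trans (Subgroup.index_dvd_of_le hUY))
    have hcore : Cfsg.pCore 3 ↥Y ≠ ⊥ := fun e' => hY (hover Y e' hidx)
    set R : Subgroup G := (Cfsg.pCore 3 ↥Y).map Y.subtype with hR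
    have hRn : ∀ y ∈ Y, ∀ n ∈ R, y * n * y⁻¹ ∈ R := by
      rintro y hy _ ⟨n, hn, rfl⟩
      exact ⟨_, (Thompson.instPCoreNormal (p := 3) (G := ↥Y)).conj_mem n hn ⟨y, hy⟩, rfl⟩
    have hnorm : (U : Subgroup G) ≤ Subgroup.normalizer (R : Set G) := fun y hy => by
      rw [Subgroup.mem_normalizer_iff]
      refine fun n => ⟨hRn y (hUY hy) n, fun h => ?_⟩
      have := hRn y⁻¹ (inv_mem (hUY hy)) _ h
      simpa [mul_assoc] using this
    have hRp : IsPGroup 3 R := Thompson.isPGroup_pCore.map _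
    have hRU : R ≤ U :=
      le_sup_right.trans (U.is_maximal' (IsPGroup.to_sup_of_normal_right' U.2 hRp hnorm) le_sup_left).le
    by_cases hRUeq : R = U
    · intro y hy
      rw [hM, Subgroup.mem_normalizer_iff]
      refine fun n => ⟨fun h => hRUeq ▸ hRn y hy n (hRUeq.symm ▸ h), fun h => ?_⟩
      have h' := hRn y⁻¹ (inv_mem hy) _ (hRUeq.symm ▸ h : y * n * y⁻¹ ∈ R)
      rw [← hRUeq]
      simpa [mul_assoc] using h'
    -- `R` has order three
    have hR3 : Nat.card R = 3 := by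
      have h1 : Nat.card R ∣ 3 ^ 2 := by
        rw [show (3 : ℕ) ^ 2 = Nat.card (U : Subgroup G) from hU.symm]
        exact Subgroup.card_dvd_of_le hRU
      obtain ⟨i, hi, hc⟩ := (Nat.dvd_prime_pow Nat.prime_three).1 h1
      have hi0 : i ≠ 0 := fun h0 => by
        rw [h0, pow_zero, Subgroup.card_eq_one, hR, Subgroup.map_eq_bot_iff_of_injective _ Y.subtype_injective] at hc
        exact hcore hc
      have hi2 : i ≠ 2 := fun h0 => hRUeq (Subgroup.eq_of_le_of_card_ge hRU (by rw [hU, hc, h0]; rfl))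
      rw [hc, show i = 1 by omega, pow_one]
    obtain ⟨g, hgR, hg1⟩ := (Subgroup.bot_or_exists_ne_one R).resolve_left fun h => by
      rw [h, Subgroup.card_bot] at hR3; norm_num at hR3
    have hg3 : orderOf g = 3 := ((Nat.dvd_prime Nat.prime_three).1
      (hR3 ▸ Subgroup.orderOf_dvd_natCard R hgR)).resolve_left fun h => hg1 (orderOf_eq_one_iff.1 h)
    have hRz : R = Subgroup.zpowers g := (Subgroup.eq_of_le_of_card_ge (Subgroup.zpowers_le.2 hgR)
      (by rw [hR3, Nat.card_zpowers, hg3])).symm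
    haveI : CharP F 2 := haveI := Fact.mk Nat.prime_two; charP_of_card_eq_prime_pow (f := 3) (by rw [hF]; norm_num)
    haveI : Fact (Nat.Prime 2) := ⟨Nat.prime_two⟩
    set t := e g with ht
    have ht3 : orderOf t = 3 := (MulEquiv.orderOf_eq e g).trans hg3
    obtain ⟨N, n, ⟨-, ⟨iN⟩, -, hn⟩, -, hdvd, hnormN, -⟩ := Dickson.torus_of 2 (g := t)
      (fun h => by rw [h, orderOf_one] at ht3; norm_num at ht3) (by rw [ht3]; norm_num)
    have hn9 : n = 9 := by
      rw [hF] at hn
      norm_num at hn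
      rw [ht3] at hdvd
      rcases hn with h | h
      · subst h; norm_num at hdvd
      · exact h
    set H : Subgroup G := N.comap e.toMonoidHom with hH
    have hYH : Y ≤ H := fun y hy => by
      refine hnormN (e y) ?_
      have h1 : y * g * y⁻¹ ∈ Subgroup.zpowers g := hRz ▸ hRn y hy g hgR
      obtain ⟨k, hk⟩ := h1
      exact ⟨k, by simp only [ht, ← map_zpow, ← map_inv, ← map_mul, hk]⟩
    have hUH : (U : Subgroup G) ≤ H := hUY.trans hYH
    have hcardH : Nat.card H = 18 := by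
      have h1 : Nat.card H = Nat.card N := Nat.card_congr
        { toFun := fun x => ⟨e x.1, x.2⟩
          invFun := fun x => ⟨e.symm x.1, by
            show e (e.symm x.1) ∈ N
            rw [e.apply_symm_apply]; exact x.2⟩
          left_inv := fun x => Subtype.ext (e.symm_apply_apply x.1)
          right_inv := fun x => Subtype.ext (e.apply_symm_apply x.1) }
      rw [h1, Nat.card_congr iN.toEquiv, DihedralGroup.nat_card, hn9]
    have hidx2 : ((U : Subgroup G).subgroupOf H).index = 2 := by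
      have h1 := ((U : Subgroup G).subgroupOf H).index_mul_card
      rw [Nat.card_congr (Subgroup.subgroupOfEquivOfLe hUH).toEquiv, hU, hcardH] at h1
      omega
    haveI := Subgroup.normal_of_index_eq_two hidx2
    exact hYH.trans (Subgroup.le_normalizer_of_normal_subgroupOf hUH)
  have hMne : M ≠ ⊤ := fun e' => by
    rcases (Subgroup.normalizer_eq_top_iff.1 e').eq_bot_or_eq_top with h | h
    · rw [h, Subgroup.card_bot] at hU; norm_num at hU
    · rw [h, Subgroup.card_top, hG] at hU; norm_num at hU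
  refine ⟨{M}, ⟨?_, ?_, fun Y h1 h2 => ⟨M, rfl, hcov Y h1 h2⟩, ?_⟩, by rw [sInf_singleton]⟩
  · rintro _ rfl; exact Subgroup.le_normalizer
  · rintro _ rfl; exact hMne
  · rintro _ rfl hle
    refine hMne (top_le_iff.1 (le_trans ?_ hle))
    simp

end Cfsg.Agent.LieStruct
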