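/-
The Tits group as socle of a `2`-minimal group (helper32).
-/
import Cfsg.Agent.LieStruct.InnerTits
import Cfsg.Agent.LieStruct.PMin
import Cfsg.Agent.ChevGroup.Tits.Simple

set_option autoImplicit false
set_option maxRecDepth 4000

namespace Cfsg.Agent.LieStruct

open Cfsg.Lie Cfsg.Agent.ChevGroup Cfsg.Agent.ChevIsogeny Cfsg.Agent.Twisted

namespace TitsPMin

theorem fin2_eq {i k : Fin 2} (h : i ≠ k) : i = k + 1 := by revert i k; decide

theorem fin2_succ (k : Fin 2) : k + 1 ≠ k := by revert k; decide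

theorem fin2_cases {j k : Fin 2} (h : j ≠ k) (i : Fin 2) : i = j ∨ i = k := by revert i j k; decide

section engine

variable {Φ I : Type*} {G : Type*} [Group G] [Finite G] {F : Type*} [Field F] {S : RootIdx Φ I}
  {R : RootRel G F S} {G₁ : Subgroup G} {κ : Type*} (D : Twisted.Data R G₁ κ) {T : Subgroup G}
  (d : SubData D T)

include d in
/-- A subgroup above `B₁ ∩ T` is all of `T` or avoids one letter. -/
theorem eq_or_avoid {M : Subgroup G} (hMT : M ≤ T) (hUM : D.B1 ⊓ T ≤ M) :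
    T ≤ M ∨ ∃ k₀, ∀ m ∈ M, ∃ W, k₀ ∉ W ∧ ∃ a ∈ D.B1, (a * D.nW W)⁻¹ * m ∈ D.B1 := by
  classical
  set J : κ → Prop := fun k => ∃ c ∈ M, (D.nJ k)⁻¹ * c ∈ D.B1 with hJdef
  have cover : ∀ k, J k → ∀ b ∈ D.B1, ∃ c ∈ M, (b * D.nJ k)⁻¹ * c ∈ D.B1 := by
    rintro k ⟨c, hc, hcB⟩ b hb
    obtain ⟨u, hu, huB⟩ := d.cov k b hb
    exact ⟨u * c, mul_mem (hUM hu) hc, eqv_trans_B D huB (by simpa [mul_assoc] using hcB)⟩
  have claim : ∀ W, D.Red W → ∀ m ∈ M, ∀ a ∈ D.B1, (a * D.nW W)⁻¹ * m ∈ D.B1 →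
      ∀ k ∈ W, J k := by
    intro W
    induction W with
    | nil => simp
    | cons k W ih =>
      rintro ⟨hback, hred⟩ m hm a ha hma
      have hk : J k := by
        obtain ⟨x, hx, hxT, hx1⟩ := d.low k
        obtain ⟨b₁, hb₁, b₂, hb₂, e⟩ := d.split.rank k x hx hx1
        have hy : D.nJ k * x * (D.nJ k)⁻¹ ∈ T := d.normal _ (D.nJ_mem k) _ hxT
        set y := D.nJ k * x * (D.nJ k)⁻¹ with hydef
        set v := (D.nW (k :: W))⁻¹ * y * D.nW (k :: W) with hvdef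
        have hvU : v ∈ D.B1 := by
          have : v = (D.nW W)⁻¹ * x * D.nW W := by rw [hvdef, hydef, D.nW_cons]; group
          rw [this]
          exact D.U1_le_B1 (D.X_conj_mem_U1 hback hx)
        have hvT : v ∈ T := by
          have := d.normal _ (inv_mem (D.nW_mem (k :: W))) _ hy
          rwa [inv_inv] at this
        set b := (a * D.nW (k :: W))⁻¹ * m with hbdef
        have hbG : b ∈ G₁ := (Subgroup.mem_inf.1 hma).1
        have hw : b⁻¹ * v * b ∈ M := hUM (Subgroup.mem_inf.2 ⟨mul_mem (mul_mem (inv_mem hma) hvU) hma, by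
          have := d.normal _ (inv_mem hbG) _ hvT
          rwa [inv_inv] at this⟩)
        have hay : a * y * a⁻¹ ∈ M := by
          have e1 : a * y * a⁻¹ = m * (b⁻¹ * v * b) * m⁻¹ := by rw [hbdef, hvdef]; group
          rw [e1]
          exact mul_mem (mul_mem hm hw) (inv_mem hm)
        obtain ⟨u, hu, huB⟩ := d.cov k (a * b₁) (mul_mem ha hb₁)
        refine ⟨u⁻¹ * (a * y * a⁻¹), mul_mem (inv_mem (hUM hu)) hay, ?_⟩
        have e2 : (D.nJ k)⁻¹ * (u⁻¹ * (a * y * a⁻¹)) =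
            ((a * b₁ * D.nJ k)⁻¹ * (u * D.nJ k))⁻¹ * (b₂ * a⁻¹) := by
          rw [e]; group
        rw [e2]
        exact mul_mem (inv_mem huB) (mul_mem hb₂ (inv_mem ha))
      intro j hj
      rcases List.mem_cons.1 hj with rfl | hj
      · exact hk
      obtain ⟨c, hc, hcB⟩ := cover k hk a ha
      refine ih hred (c⁻¹ * m) (mul_mem (inv_mem hc) hm) ((a * D.nJ k)⁻¹ * c)⁻¹ (inv_mem hcB) ?_ j hj
      have : (((a * D.nJ k)⁻¹ * c)⁻¹ * D.nW W)⁻¹ * (c⁻¹ * m) = (a * D.nW (k :: W))⁻¹ * m := by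
        rw [D.nW_cons]; group
      rwa [this]
  by_cases hall : ∀ k, J k
  · refine Or.inl ?_
    have hX : ∀ W, ∀ b ∈ D.B1, ∃ m ∈ M, (b * D.nW W)⁻¹ * m ∈ D.B1 := by
      intro W
      induction W with
      | nil => exact fun b hb => ⟨1, one_mem _, by simpa using inv_mem hb⟩
      | cons k W ih =>
        intro b hb
        obtain ⟨c, hc, hcB⟩ := cover k (hall k) b hb
        obtain ⟨m, hm, hmB⟩ := ih _ (inv_mem hcB)
        refine ⟨c * m, mul_mem hc hm, ?_⟩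
        have : (b * D.nW (k :: W))⁻¹ * (c * m) =
            (((b * D.nJ k)⁻¹ * c)⁻¹ * D.nW W)⁻¹ * m := by
          rw [D.nW_cons]; group
        rwa [this]
    intro t ht
    obtain ⟨W, -, a, ha, hat⟩ := d.words t (d.le ht)
    obtain ⟨m, hm, hmB⟩ := hX W a ha
    have h1 : m⁻¹ * t ∈ D.B1 := by
      have := mul_mem (inv_mem hmB) hat
      simpa [mul_assoc] using this
    have := mul_mem hm (hUM (Subgroup.mem_inf.2 ⟨h1, mul_mem (inv_mem (hMT hm)) ht⟩))
    simpa using this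
  · push Not at hall
    obtain ⟨k₀, hk₀⟩ := hall
    refine Or.inr ⟨k₀, fun m hm => ?_⟩
    obtain ⟨W, hW, a, ha, hat⟩ := d.words m (d.le (hMT hm))
    exact ⟨W, fun hk => hk₀ (claim W hW m hm a ha hat k₀ hk), a, ha, hat⟩

include d in
theorem exists_conj_low (k : κ) :
    ∃ y, y ∈ T ∧ y ∈ D.par1 [k] ∧ ∀ P : Subgroup G, D.B1 ≤ P → y ∈ P → D.nJ k ∈ P := by
  obtain ⟨x, hx, hxT, hx1⟩ := d.low k
  obtain ⟨b₁, hb₁, b₂, hb₂, e⟩ := d.split.rank k x hx hx1
  have hn := D.nJ_mem_par1 (J := [k]) (List.mem_singleton.2 rfl)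
  refine ⟨_, d.normal _ (D.nJ_mem k) _ hxT,
    mul_mem (mul_mem hn (D.B1_le_par1 _ (D.U1_le_B1 (D.X_le_U1 k hx)))) (inv_mem hn), fun P hP hy => ?_⟩
  rw [e] at hy
  have := mul_mem (mul_mem (inv_mem (hP hb₁)) hy) (inv_mem (hP hb₂))
  simpa [mul_assoc] using this

variable {ι : Type*} [Fintype ι] [DecidableEq ι] (M : Shape R ι) {W0 : List κ}
  (h0 : D.Longest W0)

include d M h0 in
/-- The proper parabolic subgroups of rank one. -/
theorem par1_ne [IsSimpleGroup ↥T] {z : G} (hzT : z ∈ T) (hz1 : z ≠ 1) (hzU : z ∈ D.U1)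
    (hc : ∀ u ∈ D.U1, Commute u z) (hstab : ∀ k₀, ∀ W : List κ, k₀ ∉ W → D.nW W * z * (D.nW W)⁻¹ ∈ R.U)
    (k : κ) : D.par1 [k] ≠ G₁ := by
  intro htop
  have hsq := D.nJ_sq d.split k
  have hr := D.rankOne M h0 d.split k
  set P : Subgroup G :=
    { carrier := {g | g ∈ D.B1 ∨ ∃ b ∈ D.B1, ∃ c ∈ D.B1, g = b * D.nJ k * c}
      one_mem' := Or.inl (one_mem _)
      mul_mem' := by
        rintro g g' (hg | ⟨b, hb, c, hc', rfl⟩) (hg' | ⟨b', hb', c', hc'', rfl⟩)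
        · exact Or.inl (mul_mem hg hg')
        · exact Or.inr ⟨g * b', mul_mem hg hb', c', hc'', by group⟩
        · exact Or.inr ⟨b, hb, c * g', mul_mem hc' hg', by group⟩
        · rcases hr (c * b') (mul_mem hc' hb') with h | ⟨b₁, hb₁, b₂, hb₂, h⟩
          · refine Or.inl ?_
            rw [show b * D.nJ k * c * (b' * D.nJ k * c') = b * (D.nJ k * (c * b') * D.nJ k) * c' by group]
            exact mul_mem (mul_mem hb h) hc''
          · refine Or.inr ⟨b * b₁, mul_mem hb hb₁, b₂ * c', mul_mem hb₂ hc'', ?_⟩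
            rw [show b * D.nJ k * c * (b' * D.nJ k * c') = b * (D.nJ k * (c * b') * D.nJ k) * c' by group, h]
            group
      inv_mem' := by
        rintro g (hg | ⟨b, hb, c, hc', rfl⟩)
        · exact Or.inl (inv_mem hg)
        · refine Or.inr ⟨c⁻¹, inv_mem hc', (D.nJ k * D.nJ k)⁻¹ * b⁻¹, mul_mem (inv_mem hsq) (inv_mem hb), ?_⟩
          group } with hP
  have hle : D.par1 [k] ≤ P := sup_le (fun b hb => Or.inl hb) ((Subgroup.closure_le _).2 (by
    rintro _ ⟨j, hj, rfl⟩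
    obtain rfl : j = k := List.mem_singleton.1 hj
    exact Or.inr ⟨1, one_mem _, 1, one_mem _, by group⟩))
  obtain ⟨k', hk'⟩ := d.other k
  have hnz : D.nJ k * z * (D.nJ k)⁻¹ ∈ D.U1 := Subgroup.mem_inf.2
    ⟨mul_mem (mul_mem (D.nJ_mem k) (Subgroup.mem_inf.1 hzU).1) (inv_mem (D.nJ_mem k)), by
      simpa using hstab k' [k] (fun h => hk' (List.mem_singleton.1 h))⟩
  have hconj : ∀ g ∈ G₁, g * z * g⁻¹ ∈ D.U1 := by
    intro g hg
    rw [← htop] at hg
    rcases hle hg with h | ⟨b, hb, c, hc', rfl⟩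
    · rw [(hc g (d.torus h)).eq, mul_inv_cancel_right]; exact hzU
    · have e : b * D.nJ k * c * z * (b * D.nJ k * c)⁻¹ = b * (D.nJ k * z * (D.nJ k)⁻¹) * b⁻¹ := by
        rw [show b * D.nJ k * c * z * (b * D.nJ k * c)⁻¹ = b * (D.nJ k * (c * z * c⁻¹) * (D.nJ k)⁻¹) * b⁻¹ by
          group, (hc c (d.torus hc')).eq, mul_inv_cancel_right]
      rw [e]
      exact mul_mem (mul_mem (d.torus hb) hnz) (inv_mem (d.torus hb))
  -- a normal subgroup of `T` inside `U₁`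
  set N : Subgroup ↥T := Subgroup.normalClosure {(⟨z, hzT⟩ : ↥T)}
  have hN : N ≤ D.U1.subgroupOf T := (Subgroup.closure_le _).2 fun y hy => by
    obtain ⟨u, hu, hc'⟩ := Group.mem_conjugatesOfSet_iff.1 hy
    obtain rfl : u = ⟨z, hzT⟩ := hu
    obtain ⟨g, rfl⟩ := isConj_iff.1 hc'
    exact Subgroup.mem_subgroupOf.2 (hconj g (d.le g.2))
  rcases (inferInstance : N.Normal).eq_bot_or_eq_top with h | h
  · have h0 : (⟨z, hzT⟩ : ↥T) ∈ N := Subgroup.subset_normalClosure (Set.mem_singleton _)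
    rw [h, Subgroup.mem_bot] at h0
    exact hz1 (congrArg Subtype.val h0)
  · obtain ⟨x, hx, hxT, hx1⟩ := d.low k
    have h1 : D.nJ k * x * (D.nJ k)⁻¹ ∈ R.U :=
      (Subgroup.mem_inf.1 (Subgroup.mem_subgroupOf.1 (hN (h ▸ Subgroup.mem_top
        (⟨_, d.normal _ (D.nJ_mem k) _ hxT⟩ : ↥T))))).2
    exact hx1 (conj_eq_one_iff.1 (U_inter_V R M h1 (D.nJ_conj_Uk k (Subgroup.mem_inf.1 hx).2)))

end engine

section generic

variable {Φ I : Type*} {G : Type*} [Group G] [Finite G] {F : Type*} [Field F] {S : RootIdx Φ I}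
  {R : RootRel G F S} {G₁ : Subgroup G} (D : Twisted.Data R G₁ (Fin 2)) {T : Subgroup G}
  (d : SubData D T)

include d in
/-- A rank two subgroup with parabolics not filling the group, one centralising the centre of the
Sylow subgroup. -/
theorem sub_pmin {p : ℕ} [Fact p.Prime] [IsSimpleGroup ↥T] (hTc : ¬ IsMulCommutative ↥T)
    (hp : IsPGroup p D.U1) (hidx : ¬ p ∣ (D.U1.subgroupOf T).index) (hne : ∀ k, D.par1 [k] ≠ G₁)
    {w : ↥T} (hw1 : w ≠ 1) (hwU : (w : G) ∈ D.U1) (hwc : ∀ u ∈ D.U1, Commute u (w : G))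
    (hwn : Commute (D.nJ 1) (w : G))
    (hcentre : ∀ v : ↥T, v ∈ D.U1.subgroupOf T → (∀ u ∈ D.U1.subgroupOf T, Commute v u) →
      v = 1 ∨ v = w) : PMinExcluded p ↥T := by
  set U : Subgroup ↥T := D.U1.subgroupOf T with hU
  set Sy : Sylow p ↥T := IsPGroup.toSylow (hp.comap_subtype : IsPGroup p ↥U) hidx
  have hSU : (Sy : Subgroup ↥T) = U := rfl
  set M : Fin 2 → Subgroup ↥T := fun k => (D.par1 [k]).subgroupOf T with hM
  have hUM : ∀ k, U ≤ M k := fun k u hu =>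
    Subgroup.mem_subgroupOf.2 (D.B1_le_par1 _ (D.U1_le_B1 (Subgroup.mem_subgroupOf.1 hu)))
  have hgen : ∀ j k : Fin 2, j ≠ k → ∀ P : Subgroup G,
      D.par1 [k] ≤ P → D.nJ j ∈ P → G₁ ≤ P := by
    intro j k hjk P hP hj
    rw [← D.par1_eq_top d.split (J := [j, k]) (fun i => by
      simp only [List.mem_cons, List.not_mem_nil, or_false]
      exact fin2_cases hjk i)]
    refine sup_le ((D.B1_le_par1 _).trans hP) ((Subgroup.closure_le _).2 ?_)
    rintro _ ⟨i, hi, rfl⟩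
    simp only [Set.mem_setOf_eq, List.mem_cons, List.not_mem_nil, or_false] at hi
    rcases hi with rfl | rfl
    exacts [hj, hP (D.nJ_mem_par1 (by simp))]
  have hmove : ∀ j k : Fin 2, j ≠ k → ∃ y ∈ M j, y ∉ M k := by
    intro j k hjk
    obtain ⟨y, hyT, hy, hP⟩ := exists_conj_low D d j
    refine ⟨⟨y, hyT⟩, Subgroup.mem_subgroupOf.2 hy, fun h => hne k ?_⟩
    exact le_antisymm (D.par1_le _) (hgen j k hjk _ le_rfl
      (hP _ (D.B1_le_par1 _) (Subgroup.mem_subgroupOf.1 h)))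
  have htop : ∀ k, M k ≠ ⊤ := fun k e => by
    obtain ⟨y, -, hy⟩ := hmove (k + 1) k (fin2_succ k)
    exact hy (e.ge (Subgroup.mem_top y))
  have hcover : ∀ Y : Subgroup ↥T, U ≤ Y → Y ≠ ⊤ → ∃ k, Y ≤ M k := by
    intro Y hUY hY
    rcases eq_or_avoid D d (M := Y.map T.subtype) (Subgroup.map_subtype_le Y)
      (fun x hx => ⟨⟨x, (Subgroup.mem_inf.1 hx).2⟩,
        hUY (Subgroup.mem_subgroupOf.2 (d.torus (Subgroup.mem_inf.1 hx).1)), rfl⟩) with h | ⟨k₀, h⟩
    · refine absurd (eq_top_iff.2 ?_) hY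
      rintro ⟨t, ht⟩ -
      obtain ⟨m, hm, e⟩ := h ht
      exact (Subtype.ext e : m = ⟨t, ht⟩) ▸ hm
    · refine ⟨k₀ + 1, fun y hy => Subgroup.mem_subgroupOf.2 ?_⟩
      obtain ⟨W, hW, a, ha, hat⟩ := h _ ⟨y, hy, rfl⟩
      have h1 : D.nW W ∈ D.par1 [k₀ + 1] := D.nW_mem_par1 fun i hi => by
        have : i ≠ k₀ := fun e => hW (e ▸ hi)
        rw [List.mem_singleton]
        exact fin2_eq this
      have h2 := mul_mem (mul_mem (D.B1_le_par1 [k₀ + 1] ha) h1) (D.B1_le_par1 _ hat)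
      rwa [mul_inv_cancel_left] at h2
  have hsys : MaxSys (Sy : Subgroup ↥T) (Set.range M) := by
    rw [hSU]
    refine ⟨?_, ?_, fun Y h1 h2 => ?_, ?_⟩
    · rintro _ ⟨k, rfl⟩; exact hUM k
    · rintro _ ⟨k, rfl⟩; exact htop k
    · obtain ⟨k, hk⟩ := hcover Y h1 h2; exact ⟨_, ⟨k, rfl⟩, hk⟩
    · rintro _ ⟨k, rfl⟩ hle
      obtain ⟨y, hy, hy'⟩ := hmove (k + 1) k (fin2_succ k)
      refine hy' (hle (Subgroup.mem_sInf.2 ?_))
      rintro _ ⟨⟨i, rfl⟩, hi⟩
      have : i = k + 1 := fin2_eq (fun e => hi (e ▸ rfl))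
      exact this ▸ hy
  -- the centraliser of the central involution is the second maximal overgroup
  set C : Subgroup ↥T := Subgroup.centralizer {w} with hC
  have hMC : M 1 ≤ C := fun g hg => by
    have hle : D.par1 [1] ≤ Subgroup.centralizer {(w : G)} := sup_le
      (fun b hb => Subgroup.mem_centralizer_singleton_iff.2 (hwc b (d.torus hb)).eq)
      ((Subgroup.closure_le _).2 (by
        rintro _ ⟨j, hj, rfl⟩
        obtain rfl : j = 1 := List.mem_singleton.1 hj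
        exact Subgroup.mem_centralizer_singleton_iff.2 hwn.eq))
    exact Subgroup.mem_centralizer_singleton_iff.2
      (Subtype.ext (Subgroup.mem_centralizer_singleton_iff.1 (hle (Subgroup.mem_subgroupOf.1 hg))))
  have hCne : C ≠ ⊤ := fun e => by
    have h1 : w ∈ Subgroup.center ↥T := Subgroup.mem_center_iff.2 fun g =>
      Subgroup.mem_centralizer_singleton_iff.1 (e.ge (Subgroup.mem_top g))
    rcases (inferInstance : (Subgroup.center ↥T).Normal).eq_bot_or_eq_top with h | h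
    · exact hw1 (Subgroup.mem_bot.1 (h ▸ h1))
    · exact hTc ⟨⟨fun a b => Subgroup.mem_center_iff.1 (h.ge (Subgroup.mem_top b)) a⟩⟩
  obtain ⟨k, hk⟩ := hcover C ((hUM 1).trans hMC) hCne
  have hCM : C = M 1 := by
    have e : M 1 = M k := hsys.eq_of_le ⟨1, rfl⟩ ⟨k, rfl⟩ (hMC.trans hk)
    exact le_antisymm (e ▸ hk) hMC
  refine pminExcluded_of (MulEquiv.refl ↥T) Sy hsys fun A _ hA => ⟨M 1, ⟨1, rfl⟩, M 0, ⟨0, rfl⟩, fun α hα e => ?_⟩
  have hαU : ∀ x, α x ∈ U ↔ x ∈ U := fun x => by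
    conv_lhs => rw [← hSU, ← hA α hα, hSU]
    exact ⟨fun ⟨y, hy, e'⟩ => α.injective e' ▸ hy, fun h => ⟨x, h, rfl⟩⟩
  have hwc' : ∀ u ∈ U, Commute w u := fun u hu =>
    Subtype.ext (hwc u (Subgroup.mem_subgroupOf.1 hu)).symm.eq
  have hαw : α w = w := by
    rcases hcentre (α w) ((hαU w).2 (Subgroup.mem_subgroupOf.2 hwU)) (fun u hu => by
      obtain ⟨v, rfl⟩ := α.surjective u
      exact (hwc' v ((hαU v).1 hu)).map α.toMonoidHom) with e' | e'
    · exact absurd (α.injective (e'.trans (map_one α).symm)) hw1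
    · exact e'
  have hfix : (M 1).map α.toMonoidHom = M 1 := by
    rw [← hCM]
    refine le_antisymm ?_ fun g hg => ⟨α.symm g, ?_, α.apply_symm_apply g⟩
    · rintro _ ⟨g, hg, rfl⟩
      refine Subgroup.mem_centralizer_singleton_iff.2 ?_
      show α g * w = w * α g
      rw [← hαw, ← map_mul, ← map_mul, Subgroup.mem_centralizer_singleton_iff.1 hg]
    · refine Subgroup.mem_centralizer_singleton_iff.2 (α.injective ?_)
      rw [map_mul, map_mul, α.apply_symm_apply, hαw]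
      exact Subgroup.mem_centralizer_singleton_iff.1 hg
  obtain ⟨y, hy, hy'⟩ := hmove 0 1 (by decide)
  rw [hfix] at e
  exact hy' (e ▸ hy)

end generic

theorem mk_ne_one {G : Type*} [Group G] {H : Subgroup G} {a : G} (ha : a ∈ H) (h : a ≠ 1) :
    (⟨a, ha⟩ : ↥H) ≠ 1 :=
  fun e => h (congrArg Subtype.val e)

theorem mk_cases {G : Type*} [Group G] {H : Subgroup G} {a : G} (ha : a ∈ H) {v : ↥H}
    (h : (v : G) = 1 ∨ (v : G) = a) : v = 1 ∨ v = ⟨a, ha⟩ :=
  h.imp (fun e => Subtype.ext e) (fun e => Subtype.ext e)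

open Twisted.TypeF4 Twisted.Tits TitsOver TitsInner

local notation "KK" => relsOfCommGood ChevCore.commGoodF4 (ZMod 2)
local notation "G₁" => genG MT KK (f4Words (ZMod 2) (2 ^ 0))
local notation "DD" => Twisted.Gens.data (gens fr card_two)
local notation "TT" => Subgroup.map (Subgroup.subtype G₁) (commutator ↥G₁)

theorem derived_simple : IsSimpleGroup ↥TT ∧ ¬ IsMulCommutative ↥TT := by
  let e : ↥G₁ ≃* ↥(twistedF4 (ZMod 2) 1) := genEquiv MT KK (f4Words (ZMod 2) (2 ^ 0))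
  have h := (ChevGroup.TitsIdx.facts_of_equiv e ChevGroup.TitsIdx.index_commutator
    ChevGroup.TitsIdx.isSimple_comm ChevGroup.TitsIdx.not_comm_comm ChevGroup.TitsIdx.card_comm).2
  obtain ⟨g⟩ := exists_equiv_titsGroup
  refine ⟨@MulEquiv.isSimpleGroup _ _ _ _ h.1 g, fun hc => h.2.1 ⟨⟨fun a b => ?_⟩⟩⟩
  obtain ⟨a, rfl⟩ := g.surjective a
  obtain ⟨b, rfl⟩ := g.surjective b
  rw [← map_mul, ← map_mul, hc.is_comm.comm]

theorem z_props : ev [44, 47] ∈ TT ∧ ev [44, 47] ≠ 1 ∧ ev [44, 47] ∈ (DD).U1 := by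
  have hw : (false, ([44, 47] : List (Fin MT.tab.n))) ∈ wordsT W0 := by decide +kernel
  have hT := ev_mem_T hw
  refine ⟨hT, ev_ne_one (by decide +kernel) (by simp), Subgroup.mem_inf.2
    ⟨Subgroup.map_subtype_le _ hT, ev_mem_Sg (Q := (MT).S.pos) fun r hr => (z_cert r hr).1⟩⟩

theorem par1_ne_G (k : Fin 2) : (DD).par1 [k] ≠ G₁ := by
  haveI := derived_simple.1
  obtain ⟨z, hzT, hz1, hzU, hc, hstab⟩ := central_facts
  exact par1_ne DD subData (MT.shapeR KK) ((gens fr card_two).longest long_ok) hzT hz1 hzU hc hstab k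

theorem centre' (v : ↥TT) (hv : v ∈ (DD).U1.subgroupOf TT)
    (hvc : ∀ u ∈ (DD).U1.subgroupOf TT, Commute v u) : v = 1 ∨ v = ⟨ev [44, 47], z_props.1⟩ :=
  mk_cases z_props.1 (centre v hv hvc)

theorem w_ne : (⟨ev [44, 47], z_props.1⟩ : ↥TT) ≠ 1 :=
  mk_ne_one z_props.1 z_props.2.1

theorem derived_pmin : PMinExcluded 2 ↥TT :=
  @sub_pmin _ _ _ _ _ _ _ _ _ _ DD _ subData 2 ⟨Nat.prime_two⟩ derived_simple.1 derived_simple.2
    isPGroup_U1 index_odd par1_ne_G ⟨ev [44, 47], z_props.1⟩ w_ne z_props.2.2 z_central z_nJ centre'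

theorem pminExcluded_congr {H T : Type*} [Group H] [Group T] [Finite H] (h : PMinExcluded 2 H)
    (e : H ≃* T) : PMinExcluded 2 T := by
  haveI : Fact (Nat.Prime 2) := ⟨Nat.prime_two⟩
  obtain ⟨U₀⟩ : Nonempty (Sylow 2 H) := inferInstance
  obtain ⟨𝕄, h1, h2⟩ := h U₀
  exact pminExcluded_of e U₀ h1 h2

theorem titsGroup_pmin : PMinExcluded 2 TitsGroup := by
  obtain ⟨g⟩ := exists_equiv_titsGroup
  haveI := finite_derived
  exact pminExcluded_congr derived_pmin g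

end TitsPMin

/-- The Tits group. -/
theorem tits_pmin {G : Type*} [Group G] (hG : Lie.IsoTits G) : PMinExcluded 2 G := by
  obtain ⟨f⟩ := hG
  haveI := TitsOver.titsGroup_finite
  exact TitsPMin.pminExcluded_congr TitsPMin.titsGroup_pmin f.symm

end Cfsg.Agent.LieStruct
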