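/-
Twisted groups: the maximal overgroups of a Sylow subgroup under automorphisms (helper32).
-/
import Cfsg.Agent.LieStruct.Twisted
import Cfsg.Agent.LieStruct.PMinBN

set_option autoImplicit false

namespace Cfsg.Agent.LieStruct

open Cfsg.Lie Cfsg.Agent.ChevGroup Cfsg.Agent.ChevIsogeny Cfsg.Agent.BN Cfsg.Agent.Steinberg

universe u

section generic

variable {D : ChevalleyDatum} {T : Model D} {κ : ℕ}
variable {F : Type u} [Field F] [Fintype F] {K : Rels D F} {P : IsoData} {e : ℕ}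
  {A : Twisted.FrameData T (κ := κ)} {Z : Twisted.Frame K P e A} {W : Set (List (ℕ × F))}
  {nj : Fin κ → ↥(D.group F)} (X : Twisted.Gens Z (Twisted.genG T K W) nj) {W0 : List (Fin κ)}
  (h0 : A.O.longB T.S W0 = true) (hd : A.O.distinctB T.S = true)
  (hnt : ∀ k, ∃ L : List (Fin T.tab.n), L.Sublist T.posList ∧ A.orth k = L ∧ L ≠ [])
  (hD : D ∈ [chevG2, chevB2, chevD4, chevF4, chevE6, chevE7, chevE8])

include X in
/-- A fundamental cell has as many chambers as the root group has elements. -/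
theorem cardC_twisted {p : ℕ} [Fact p.Prime] [Fintype ↥(Twisted.genG T K W)]
    {Q : Cfsg.BNPair ↥(Twisted.genG T K W)}
    (hQ : Steinberg.Split Q p ((T.rel K).U.subgroupOf (Twisted.genG T K W)))
    (hB : ∀ g ∈ Q.B, (g : ↥(D.group F)) ∈ (T.rel K).B) (k : Fin κ)
    (hk : (⟨X.data.nJ k, X.data.nJ_mem k⟩ : ↥(Twisted.genG T K W)) ∈ Q.N) :
    cardC Q (⟨X.data.nJ k, X.data.nJ_mem k⟩ : ↥(Twisted.genG T K W)) = Nat.card ↥(X.data.X k) := by
  classical
  refine (Nat.card_congr (Equiv.ofBijective (fun a : ↥(X.data.X k) =>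
      (⟨((⟨(a : ↥(D.group F)), (Subgroup.mem_inf.1 a.2).1⟩ : ↥(Twisted.genG T K W)) *
          ⟨X.data.nJ k, X.data.nJ_mem k⟩ : ↥(Twisted.genG T K W)),
        (mk_mem_sch Q).2 (mul_mem_cell_left Q (hQ.le (Subgroup.mem_subgroupOf.2
          (X.data.Uk_le_U k (Subgroup.mem_inf.1 a.2).2))) (self_mem_cell Q _))⟩ :
        sch Q (⟨X.data.nJ k, X.data.nJ_mem k⟩ : ↥(Twisted.genG T K W)))) ⟨?_, ?_⟩)).symm
  · rintro ⟨a, ha⟩ ⟨a', ha'⟩ he
    have h1 := hB _ (QuotientGroup.eq.1 (congrArg Subtype.val he))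
    simp only [Subgroup.coe_mul, Subgroup.coe_inv] at h1
    have h2 : (X.data.nJ k)⁻¹ * (a⁻¹ * a') * X.data.nJ k ∈ (T.rel K).B := by
      rwa [show (X.data.nJ k)⁻¹ * (a⁻¹ * a') * X.data.nJ k = (a * X.data.nJ k)⁻¹ * (a' * X.data.nJ k)
        by group]
    have hm : a⁻¹ * a' ∈ X.data.Uk k :=
      mul_mem (inv_mem (Subgroup.mem_inf.1 ha).2) (Subgroup.mem_inf.1 ha').2
    have hV : (X.data.nJ k)⁻¹ * (a⁻¹ * a') * X.data.nJ k ∈ Twisted.V (T.rel K) :=
      (X.data.nJ_coset k).inv_conj_Sg (T.rel K) (T' := fun r => T.S.pos (T.S.neg r))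
        (fun r hr => X.data.cls_pos k _ (X.data.wd_cls k r hr).2) hm
    have h3 := Twisted.low_of_V (T.rel K) (T.shapeR K) hV
    have h4 := (T.shapeR K).tri_of_B h2
    have h5 : (X.data.nJ k)⁻¹ * (a⁻¹ * a') * X.data.nJ k = 1 := by
      refine (T.shapeR K).eq_one ?_
      ext x y
      rcases eq_or_ne x y with rfl | hxy
      · rw [h3 x x le_rfl]; simp
      · rcases le_total ((T.shapeR K).key x) ((T.shapeR K).key y) with hk' | hk'
        · rw [h4.1 x y hxy hk']; simp [hxy]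
        · rw [h3 x y (neg_le_neg hk')]; simp [hxy]
    have h6 : a⁻¹ * a' = 1 := by
      have := congrArg (fun z => X.data.nJ k * z * (X.data.nJ k)⁻¹) h5
      simpa [mul_assoc] using this
    exact Subtype.ext (inv_mul_eq_one.1 h6)
  · rintro ⟨y, hy⟩
    obtain ⟨u, hu, rfl⟩ := hQ.exists_smul hk hy
    obtain ⟨a, ha, c, hc, e', ha', -⟩ := X.data.fixed_decomp (T.shapeR K) k
      (Subgroup.mem_subgroupOf.1 hu) (X.data.fixed u u.2)
    refine ⟨⟨a, X.data.X_mem ha ha'⟩, Subtype.ext (QuotientGroup.eq.2 (hQ.le ?_))⟩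
    rw [Subgroup.mem_subgroupOf]
    simp only [smul_eq_mul, Subgroup.coe_mul, Subgroup.coe_inv, e']
    rw [show (a * X.data.nJ k)⁻¹ * (a * c * X.data.nJ k) = (X.data.nJ k)⁻¹ * c * X.data.nJ k by group]
    exact X.data.Uo_le_U k (X.data.nJ_inv_conj_Uo k hc)

include X h0 hd hnt hD in
/-- Two root groups of different orders rule out transitive automorphism groups. -/
theorem twisted_excluded {p : ℕ} [Fact p.Prime] [CharP F p] [IsSimpleGroup ↥(Twisted.genG T K W)]
    {G : Type*} [Group G] (f : ↥(Twisted.genG T K W) ≃* G) (i j : Fin κ)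
    (hne : Nat.card ↥(X.data.X i) ≠ Nat.card ↥(X.data.X j)) : PMinExcluded p G := by
  classical
  haveI : Finite ↥(Twisted.genG T K W) := inferInstance
  letI := Fintype.ofFinite ↥(Twisted.genG T K W)
  obtain ⟨Q, hQ, hS, hBN, -⟩ := exists_twisted_split X h0 hd hnt hD p
  have hmem : ∀ k, (⟨X.data.nJ k, X.data.nJ_mem k⟩ : ↥(Twisted.genG T K W)) ∈ Q.S :=
    fun k => hS ▸ ⟨k, rfl⟩
  have hU : (T.rel K).U.subgroupOf (Twisted.genG T K W) ≠ ⊥ := fun e' => by
    obtain ⟨a, ha, ha1⟩ := (X.proper hd hnt).nontriv i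
    obtain ⟨haG, haU⟩ := Subgroup.mem_inf.1 ha
    have : (⟨a, haG⟩ : ↥(Twisted.genG T K W)) ∈ (T.rel K).U.subgroupOf (Twisted.genG T K W) :=
      Subgroup.mem_subgroupOf.2 (X.data.Uk_le_U i haU)
    rw [e', Subgroup.mem_bot] at this
    exact ha1 (congrArg Subtype.val this)
  refine bn_excluded_of hQ f hU (hmem i) (hmem j) fun α k _ hαU => ?_
  refine ne_of_cardC (bn_maxSys hQ hU) hαU (hmem i) (hmem j) ?_
  rw [cardC_twisted X hQ (fun g hg => (hBN g).1 hg) i (Q.subset (hmem i)),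
    cardC_twisted X hQ (fun g hg => (hBN g).1 hg) j (Q.subset (hmem j))]
  exact hne

include X h0 hd hnt hD in
theorem twisted_pminSys {p : ℕ} [Fact p.Prime] [CharP F p] [IsSimpleGroup ↥(Twisted.genG T K W)]
    {G : Type*} [Group G] (f : ↥(Twisted.genG T K W) ≃* G) (i : Fin κ) : PMinSys p G := by
  classical
  haveI : Finite ↥(Twisted.genG T K W) := inferInstance
  letI := Fintype.ofFinite ↥(Twisted.genG T K W)
  obtain ⟨Q, hQ, hS⟩ := exists_twisted_split X h0 hd hnt hD p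
  refine bn_pminSys hQ f fun e' => ?_
  obtain ⟨a, ha, ha1⟩ := (X.proper hd hnt).nontriv i
  obtain ⟨haG, haU⟩ := Subgroup.mem_inf.1 ha
  have : (⟨a, haG⟩ : ↥(Twisted.genG T K W)) ∈ (T.rel K).U.subgroupOf (Twisted.genG T K W) :=
    Subgroup.mem_subgroupOf.2 (X.data.Uk_le_U i haU)
  rw [e', Subgroup.mem_bot] at this
  exact ha1 (congrArg Subtype.val this)

end generic

variable {F : Type u} [Field F] [Fintype F] {G : Type*} [Group G] [IsSimpleGroup G]

theorem twistedD4_pmin {q p : ℕ} [Fact p.Prime] [CharP F p] (hq : IsPrimePow q)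
    (hK : Fintype.card F = q ^ 3) (e : G ≃* ↥(twistedD4 F q)) : PMinExcluded p G := by
  have Z := Twisted.TypeD4.frame₀ hq hK
  have f := (Twisted.genEquiv Twisted.TypeD4.MT (relsOfCommGood ChevCore.commGoodD4 F) _).trans e.symm
  haveI : IsSimpleGroup _ := f.isSimpleGroup
  refine twisted_excluded (Twisted.TypeD4.gens Z hq hK) Twisted.TypeD4.long_ok
    Twisted.TypeD4.distinct_ok Twisted.TypeD4.orth_ok (by simp) f 0 1 ?_
  rw [Twisted.TypeD4.card_X0 Z hq hK, Twisted.TypeD4.card_X1 Z hq hK]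
  intro h
  have h1 : q ^ 1 = q ^ 3 := by rw [pow_one]; exact h
  exact absurd (Nat.pow_right_injective hq.two_le h1) (by norm_num)

theorem twistedE6_pmin {q p : ℕ} [Fact p.Prime] [CharP F p] (hq : IsPrimePow q)
    (hK : Fintype.card F = q ^ 2) (e : G ≃* ↥(twistedE6 F q)) : PMinExcluded p G := by
  have Z := Twisted.TypeE6.frame₀ hq hK
  have f := (Twisted.genEquiv Twisted.TypeE6.MT (relsOfCommGood ChevCore.commGoodE6 F) _).trans e.symm
  haveI : IsSimpleGroup _ := f.isSimpleGroup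
  refine twisted_excluded (Twisted.TypeE6.gens Z hq hK) Twisted.TypeE6.long_ok
    Twisted.TypeE6.distinct_ok Twisted.TypeE6.orth_ok (by simp) f 0 2 ?_
  obtain ⟨x0, -, x2, -⟩ := Twisted.TypeE6.card_X Z hq hK
  rw [x0, x2]
  intro h
  have h1 : q ^ 1 = q ^ 2 := by rw [pow_one]; exact h
  exact absurd (Nat.pow_right_injective hq.two_le h1) (by norm_num)

theorem twistedF4_pmin {m : ℕ} (hK : Fintype.card F = 2 ^ (2 * m + 1))
    (e : G ≃* ↥(twistedF4 F (2 ^ m))) : PMinExcluded 2 G := by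
  haveI := Twisted.TypeF4.charTwo hK
  have Z := Twisted.TypeF4.frame₀ hK
  have f := (Twisted.genEquiv Twisted.TypeF4.MT (relsOfCommGood ChevCore.commGoodF4 F) _).trans e.symm
  haveI : IsSimpleGroup _ := f.isSimpleGroup
  refine twisted_excluded (Twisted.TypeF4.gens Z hK) Twisted.TypeF4.long_ok
    Twisted.TypeF4.distinct_ok Twisted.TypeF4.orth_ok (by simp) f 0 1 ?_
  rw [Twisted.TypeF4.card_X0 Z hK, Twisted.TypeF4.card_X1 Z hK, ← pow_mul]
  intro h
  have := Nat.pow_right_injective (le_refl 2) h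
  omega

theorem twistedG2_pmin {m : ℕ} (hK : Fintype.card F = 3 ^ (2 * m + 1))
    (e : G ≃* ↥(twistedG2 F (3 ^ m))) : PMinSys 3 G := by
  haveI := Twisted.TypeG2.charThree hK
  have Z := Twisted.TypeG2.frame₀ hK
  have f := (Twisted.genEquiv Twisted.TypeG2.MT (relsOfCommGood ChevCore.commGoodG2 F) _).trans e.symm
  haveI : IsSimpleGroup _ := f.isSimpleGroup
  exact twisted_pminSys (Twisted.TypeG2.gens Z hK) Twisted.TypeG2.long_ok
    Twisted.TypeG2.distinct_ok Twisted.TypeG2.orth_ok (by simp) f 0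

end Cfsg.Agent.LieStruct
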