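/-
`p`-minimal groups: two canonical overgroups of a Sylow subgroup of the socle (helper32).
-/
import Cfsg.Agent.LieStruct.PMin

set_option autoImplicit false

namespace Cfsg.Agent.LieStruct

/-- Two canonical proper overgroups of `U` generating the group. -/
def PMinTwo (p : ℕ) (G : Type*) [Group G] : Prop :=
  ∀ U : Sylow p G, ∃ M₁ M₂ : Subgroup G, (U : Subgroup G) ≤ M₁ ∧ (U : Subgroup G) ≤ M₂ ∧
    M₁ ≠ ⊤ ∧ M₂ ≠ ⊤ ∧ M₁ ⊔ M₂ = ⊤ ∧
    ∀ α : MulAut G, (U : Subgroup G).map α.toMonoidHom = U →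
      M₁.map α.toMonoidHom ≤ M₁ ∧ M₂.map α.toMonoidHom ≤ M₂

theorem pminTwo_of {G H : Type*} [Group G] [Group H] {p : ℕ} [Finite G] [Fact p.Prime] (e : G ≃* H)
    (U₀ : Sylow p G) {M₁ M₂ : Subgroup G} (h1 : (U₀ : Subgroup G) ≤ M₁) (h2 : (U₀ : Subgroup G) ≤ M₂)
    (n1 : M₁ ≠ ⊤) (n2 : M₂ ≠ ⊤) (hs : M₁ ⊔ M₂ = ⊤)
    (hinv : ∀ α : MulAut G, (U₀ : Subgroup G).map α.toMonoidHom = U₀ →
      M₁.map α.toMonoidHom ≤ M₁ ∧ M₂.map α.toMonoidHom ≤ M₂) : PMinTwo p H := by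
  intro U
  obtain ⟨f, hf⟩ := exists_equiv_sylow e U₀ U
  have hne : ∀ M : Subgroup G, M ≠ ⊤ → M.map f.toMonoidHom ≠ ⊤ := fun M hM e' => hM
    (Subgroup.map_injective (f := f.toMonoidHom) f.injective
      (e'.trans (Subgroup.map_top_of_surjective _ f.surjective).symm))
  refine ⟨M₁.map f.toMonoidHom, M₂.map f.toMonoidHom, hf ▸ Subgroup.map_mono h1,
    hf ▸ Subgroup.map_mono h2, hne _ n1, hne _ n2, ?_, fun α hα => ?_⟩
  · rw [← Subgroup.map_sup, hs, Subgroup.map_top_of_surjective _ f.surjective]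
  let β : MulAut G := (f.trans α).trans f.symm
  have hcomm : ∀ M : Subgroup G,
      (M.map f.toMonoidHom).map α.toMonoidHom = (M.map β.toMonoidHom).map f.toMonoidHom := fun M => by
    rw [Subgroup.map_map, Subgroup.map_map]
    congr 1
    exact MonoidHom.ext fun x => (f.apply_symm_apply (α (f x))).symm
  obtain ⟨i1, i2⟩ := hinv β (Subgroup.map_injective (f := f.toMonoidHom) f.injective (by
    show ((U₀ : Subgroup G).map β.toMonoidHom).map f.toMonoidHom = _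
    rw [← hcomm, hf, hα]))
  exact ⟨(hcomm M₁).le.trans (Subgroup.map_mono i1), (hcomm M₂).le.trans (Subgroup.map_mono i2)⟩

variable {X : Type*} [Group X] [Finite X] {p : ℕ} [hp : Fact p.Prime] {K : Subgroup X} [K.Normal]

theorem pmin_two (hX : Cfsg.IsPMinimal p X) [IsSimpleGroup ↥K] (U : Sylow p ↥K)
    (hne : (U : Subgroup ↥K) ≠ ⊤) (hbot : (U : Subgroup ↥K) ≠ ⊥) (h : PMinTwo p ↥K) : False := by
  obtain ⟨M₁, M₂, h1, h2, n1, n2, hs, hinv⟩ := h U
  obtain ⟨S, hUS⟩ : ∃ S : Sylow p X, (U : Subgroup ↥K).map K.subtype ≤ S :=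
    (U.2.map K.subtype).exists_le_sylow
  have hSK : (S : Subgroup X).subgroupOf K = U :=
    U.is_maximal' S.2.comap_subtype fun x hx => Subgroup.mem_subgroupOf.2 (hUS ⟨x, hx, rfl⟩)
  set c : X →* MulAut ↥K := MulAut.conjNormal with hc
  have hcU : ∀ s ∈ (S : Subgroup X), ∀ x, x ∈ (U : Subgroup ↥K) → c s x ∈ (U : Subgroup ↥K) := by
    intro s hs x hx
    rw [← hSK, Subgroup.mem_subgroupOf] at hx ⊢
    rw [hc, MulAut.conjNormal_apply]
    exact mul_mem (mul_mem hs hx) (inv_mem hs)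
  have hfix : ∀ s ∈ (S : Subgroup X), (U : Subgroup ↥K).map (c s).toMonoidHom = U := by
    intro s hs
    refine le_antisymm ?_ fun x hx => ⟨c s⁻¹ x, hcU _ (inv_mem hs) x hx, ?_⟩
    · rintro _ ⟨x, hx, rfl⟩
      exact hcU s hs x hx
    · show c s (c s⁻¹ x) = x
      rw [← MulAut.mul_apply, ← map_mul, mul_inv_cancel, map_one, MulAut.one_apply]
  obtain ⟨hSn, M, ⟨hMc, hSM⟩, huniq⟩ := hX S
  -- each invariant proper overgroup lies in the unique maximal subgroup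
  have hin : ∀ Y : Subgroup ↥K, (U : Subgroup ↥K) ≤ Y → Y ≠ ⊤ →
      (∀ s ∈ (S : Subgroup X), Y.map (c s).toMonoidHom ≤ Y) → Y ≤ M.subgroupOf K := by
    intro Y hUY hY hYinv
    set Z : Subgroup X := Y.map K.subtype with hZ
    have h1 : ∀ s ∈ (S : Subgroup X), ∀ z ∈ Z, s * z * s⁻¹ ∈ Z := by
      rintro s hs _ ⟨y, hy, rfl⟩
      exact ⟨c s y, hYinv s hs ⟨y, hy, rfl⟩, MulAut.conjNormal_apply s y⟩
    have hSZ : (S : Subgroup X) ≤ Subgroup.normalizer (Z : Set X) := by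
      intro s hs
      rw [Subgroup.mem_normalizer_iff]
      refine fun z => ⟨h1 s hs z, fun hz => ?_⟩
      have := h1 s⁻¹ (inv_mem hs) _ hz
      simpa [mul_assoc] using this
    have hne' : (S : Subgroup X) ⊔ Z ≠ ⊤ := fun e => hY (eq_top_iff.2 fun k _ => by
      have hk' : (k : X) ∈ (((S : Subgroup X) ⊔ Z : Subgroup X) : Set X) := by rw [e]; trivial
      rw [Subgroup.coe_mul_of_left_le_normalizer_right _ _ hSZ] at hk'
      obtain ⟨s, hs, _, ⟨y, hy, rfl⟩, e'⟩ := hk'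
      have e' : s * (y : X) = k := e'
      have hsK : s ∈ K := by
        have : s = (k : X) * (y : X)⁻¹ := by rw [← e', mul_inv_cancel_right]
        rw [this]; exact mul_mem k.2 (inv_mem y.2)
      have hsY : (⟨s, hsK⟩ : ↥K) ∈ Y := hUY (hSK ▸ Subgroup.mem_subgroupOf.2 hs)
      have : k = ⟨s, hsK⟩ * y := Subtype.ext e'.symm
      rw [this]
      exact mul_mem hsY hy)
    obtain ⟨M', hM', hle⟩ := (eq_top_or_exists_le_coatom ((S : Subgroup X) ⊔ Z)).resolve_left hne'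
    obtain rfl := huniq M' ⟨hM', le_sup_left.trans hle⟩
    exact fun y hy => Subgroup.mem_subgroupOf.2 (hle (Subgroup.mem_sup_right ⟨y, hy, rfl⟩))
  have hKM : M.subgroupOf K = ⊤ := top_le_iff.1 (hs ▸ sup_le
    (hin M₁ h1 n1 fun s hs => (hinv _ (hfix s hs)).1) (hin M₂ h2 n2 fun s hs => (hinv _ (hfix s hs)).2))
  -- Frattini
  have hfr : Subgroup.normalizer ((U : Subgroup ↥K).map K.subtype : Set X) ⊔ K = ⊤ :=
    Sylow.normalizer_sup_eq_top U
  set N := Subgroup.normalizer ((U : Subgroup ↥K).map K.subtype : Set X)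
  have hSN : (S : Subgroup X) ≤ N := by
    intro s hs
    rw [Subgroup.mem_normalizer_iff]
    have h0 : ∀ s ∈ (S : Subgroup X), ∀ x ∈ (U : Subgroup ↥K).map K.subtype,
        s * x * s⁻¹ ∈ (U : Subgroup ↥K).map K.subtype := by
      rintro s hs _ ⟨y, hy, rfl⟩
      exact ⟨c s y, hcU s hs y hy, MulAut.conjNormal_apply s y⟩
    refine fun x => ⟨h0 s hs x, fun hx => ?_⟩
    have := h0 s⁻¹ (inv_mem hs) _ hx
    simpa [mul_assoc] using this
  refine hMc.1 (top_le_iff.1 (hfr ▸ sup_le ?_ fun k hk =>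
    Subgroup.mem_subgroupOf.1 (hKM.ge (Subgroup.mem_top (⟨k, hk⟩ : ↥K)))))
  rcases eq_top_or_exists_le_coatom N with e | ⟨M', hM', hNM'⟩
  · exfalso
    -- `U` would be normal in `K`
    have hYU : ∀ k : ↥K, ∀ u ∈ (U : Subgroup ↥K), k * u * k⁻¹ ∈ (U : Subgroup ↥K) := fun k u hu => by
      obtain ⟨v, hv, ev⟩ := (Subgroup.mem_normalizer_iff.1 (e ▸ Subgroup.mem_top (k : X) : (k : X) ∈ N)
        (u : X)).1 ⟨u, hu, rfl⟩
      exact (Subtype.ext ev : v = k * u * k⁻¹) ▸ hv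
    haveI : (U : Subgroup ↥K).Normal := ⟨fun u hu k => hYU k u hu⟩
    exact (Subgroup.Normal.eq_bot_or_eq_top ‹(U : Subgroup ↥K).Normal›).elim hbot hne
  · obtain rfl := huniq M' ⟨hM', hSN.trans hNM'⟩
    exact hNM'

end Cfsg.Agent.LieStruct
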