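/-
`U₃(3)` for `p = 2` (helper32): two canonical overgroups of a Sylow subgroup.
-/
import Cfsg.Agent.LieStruct.PMinTwo
import Cfsg.Agent.LieStruct.InnerU33

set_option autoImplicit false
set_option maxRecDepth 100000

namespace Cfsg.Agent.LieStruct

namespace U33Inner

open Cfsg.Agent.HJ.U33 Cfsg.Agent.CosetEnum

/-- The words of the elements of `Q`. -/
def qW : List (List (Fin 5)) :=
  (List.finRange 4).flatMap fun m => (List.finRange 4).flatMap fun n => [dW m n, dW m n ++ [2]]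

theorem qW_step : ∀ W ∈ qW, ∀ a ∈ ([0, 1, 2] : List (Fin 5)), ∃ V ∈ qW, mW (W ++ [a]) = mW V := by
  decide +kernel

theorem qW_ne : ∀ V ∈ qW, ∀ W ∈ qW, mW V = mW W → V = W := by decide +kernel

theorem qW_letters : ∀ W ∈ qW, ∀ a ∈ W, a = 0 ∨ a = 1 ∨ a = 2 := by decide +kernel

theorem qW_nodup : qW.Nodup ∧ qW.length = 32 := by decide +kernel

theorem gW_mem_Q {W : List (Fin 5)} (hW : W ∈ qW) : gW W ∈ Q := by
  refine Subgroup.list_prod_mem _ fun y hy => ?_
  obtain ⟨a, ha, rfl⟩ := List.mem_map.1 hy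
  rcases qW_letters W hW a ha with rfl | rfl | rfl
  exacts [gE_mem_Q.1, gE_mem_Q.2.1, gE_mem_Q.2.2]

theorem exists_word {g : G33} (hg : g ∈ Q) : ∃ W ∈ qW, g = gW W := by
  have h1 : Q ≤ Subgroup.closure {gE 0, gE 1, gE 2} := by
    refine sup_le (Subgroup.closure_mono (by
      rintro y (rfl | rfl) <;> simp)) ?_
    rw [Subgroup.zpowers_le]
    exact Subgroup.subset_closure (by simp)
  have h2 : g ∈ Submonoid.closure ({gE 0, gE 1, gE 2} : Set G33) := by
    rw [← Subgroup.closure_toSubmonoid_of_finite]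
    exact h1 hg
  induction h2 using Submonoid.closure_induction_right with
  | one => exact ⟨dW 0 0, by decide, rfl⟩
  | mul_right x _ y hy ih =>
    have hx : x ∈ Q := by
      have hy' : y ∈ Q := by
        simp only [Set.mem_insert_iff, Set.mem_singleton_iff] at hy
        rcases hy with rfl | rfl | rfl
        exacts [gE_mem_Q.1, gE_mem_Q.2.1, gE_mem_Q.2.2]
      simpa using mul_mem hg (inv_mem hy')
    obtain ⟨W, hW, rfl⟩ := ih hx
    obtain ⟨a, ha, rfl⟩ : ∃ a ∈ ([0, 1, 2] : List (Fin 5)), y = gE a := by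
      simp only [Set.mem_insert_iff, Set.mem_singleton_iff] at hy
      rcases hy with rfl | rfl | rfl
      exacts [⟨0, by simp, rfl⟩, ⟨1, by simp, rfl⟩, ⟨2, by simp, rfl⟩]
    obtain ⟨V, hV, e⟩ := qW_step W hW a ha
    refine ⟨V, hV, ?_⟩
    rw [← gW_eq e, gW_append]
    simp [gW]

theorem card_Q : Nat.card Q = 32 := by
  let f : {W // W ∈ qW} → ↥Q := fun W => ⟨gW W.1, gW_mem_Q W.2⟩
  have hf : Function.Bijective f := by
    refine ⟨fun V W e => Subtype.ext (qW_ne V.1 V.2 W.1 W.2 ?_), ?_⟩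
    · have := congrArg toM (congrArg Subtype.val e)
      rwa [toM_gW, toM_gW] at this
    · rintro ⟨g, hg⟩
      obtain ⟨W, hW, rfl⟩ := exists_word hg
      exact ⟨⟨W, hW⟩, rfl⟩
  rw [← Nat.card_eq_of_bijective f hf, Nat.card_eq_fintype_card,
    Fintype.card_of_subtype qW.toFinset (fun x => List.mem_toFinset),
    List.toFinset_card_of_nodup qW_nodup.1, qW_nodup.2]

/-- The central involutions of `Q`. -/
def cI : Set G33 := {x | x ∈ Q ∧ x * x = 1 ∧ ∀ y ∈ Q, x * y = y * x}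

/-- The squares of `Q` of order at most two. -/
def sI : Set G33 := {y | ∃ x ∈ Q, y = x * x ∧ y * y = 1}

theorem cI_cert : ∀ W ∈ qW, mW (W ++ W) = mW [] →
    (∀ a ∈ ([0, 1, 2] : List (Fin 5)), mW (W ++ [a]) = mW (a :: W)) →
      mW (4 :: W) = mW (W ++ [4]) := by decide +kernel

theorem sI_cert : ∀ W ∈ qW, mW (W ++ W ++ (W ++ W)) = mW [] →
    ∃ V ∈ qW, mW (V ++ V ++ (V ++ V)) = mW [] ∧ mW ([3] ++ (W ++ W)) = mW (V ++ V ++ [3]) := by
  decide +kernel

theorem z_cert : mW [0, 0] ≠ mW [] ∧ mW [0, 0, 0, 0] = mW [] ∧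
    (∀ a ∈ ([0, 1, 2] : List (Fin 5)), mW ([0, 0] ++ [a]) = mW (a :: [0, 0])) ∧
    [0, 0] ∈ qW := by decide +kernel

theorem cI_conj {x : G33} (hx : x ∈ cI) : gE 4 * x = x * gE 4 := by
  obtain ⟨hxQ, hx2, hxc⟩ := hx
  obtain ⟨W, hW, rfl⟩ := exists_word hxQ
  have h1 : mW (W ++ W) = mW [] := by
    have := congrArg toM hx2
    rwa [← gW_append, ← show gW [] = 1 from rfl, toM_gW, toM_gW] at this
  have h2 : ∀ a ∈ ([0, 1, 2] : List (Fin 5)), mW (W ++ [a]) = mW (a :: W) := fun a ha => by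
    have hm : gE a ∈ Q := by
      simp only [List.mem_cons, List.not_mem_nil, or_false] at ha
      rcases ha with rfl | rfl | rfl
      exacts [gE_mem_Q.1, gE_mem_Q.2.1, gE_mem_Q.2.2]
    have := congrArg toM (hxc _ hm)
    rw [show gE a = gW [a] by simp [gW], ← gW_append, ← gW_append, toM_gW, toM_gW] at this
    simpa using this
  have := gW_eq (cI_cert W hW h1 h2)
  rw [show 4 :: W = [4] ++ W from rfl, gW_append, gW_append] at this
  simpa [gW] using this

theorem sI_conj {y : G33} (hy : y ∈ sI) : gE 3 * y * (gE 3)⁻¹ ∈ sI := by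
  obtain ⟨x, hx, rfl, h2⟩ := hy
  obtain ⟨W, hW, rfl⟩ := exists_word hx
  have h1 : mW (W ++ W ++ (W ++ W)) = mW [] := by
    have := congrArg toM h2
    rwa [← gW_append, ← gW_append, ← show gW [] = 1 from rfl, toM_gW, toM_gW] at this
  obtain ⟨V, hV, hV2, e⟩ := sI_cert W hW h1
  have e' := gW_eq e
  rw [gW_append, gW_append, gW_append, gW_append] at e'
  have h3 : gW [3] = gE 3 := by simp [gW]
  rw [h3] at e'
  refine ⟨gW V, gW_mem_Q hV, ?_, ?_⟩
  · rw [e', mul_inv_cancel_right]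
  · rw [e', mul_inv_cancel_right, ← gW_append, ← gW_append, gW_eq hV2]
    rfl

theorem z_mem : gW [0, 0] ∈ cI ∧ gW [0, 0] ≠ 1 := by
  obtain ⟨h0, h1, h2, hq⟩ := z_cert
  refine ⟨⟨gW_mem_Q hq, ?_, fun y hy => ?_⟩, fun e => h0 ?_⟩
  · rw [← gW_append]; exact (gW_eq h1).trans rfl
  · obtain ⟨W, hW, rfl⟩ := exists_word hy
    have hc : ∀ a ∈ W, Commute (gW [0, 0]) (gE a) := fun a ha => by
      have hm : a ∈ ([0, 1, 2] : List (Fin 5)) := by
        rcases qW_letters W hW a ha with rfl | rfl | rfl <;> simp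
      have := gW_eq (h2 a hm)
      rw [show a :: [0, 0] = [a] ++ [0, 0] from rfl, gW_append, gW_append, show gW [a] = gE a by simp [gW]] at this
      exact this
    exact Commute.list_prod_right _ _ fun y hy => by
      obtain ⟨a, ha, rfl⟩ := List.mem_map.1 hy
      exact hc a ha
  · have := congrArg toM e
    rwa [← show gW [] = 1 from rfl, toM_gW, toM_gW] at this

theorem g33_two : PMinTwo 2 G33 := by
  haveI : Fact (Nat.Prime 2) := ⟨Nat.prime_two⟩
  haveI := simple33
  have hc : Nat.card Q = 2 ^ (Nat.card G33).factorization 2 := by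
    rw [card_Q, card33, show (6048 : ℕ) = 2 ^ 5 * 189 from rfl,
      Nat.factorization_mul (by norm_num) (by norm_num), Finsupp.add_apply,
      Nat.Prime.factorization_pow Nat.prime_two, Finsupp.single_eq_same,
      Nat.factorization_eq_zero_of_not_dvd (show ¬ 2 ∣ 189 by norm_num)]
    rfl
  set S : Sylow 2 G33 := Sylow.ofCard Q hc with hS
  have hSQ : (S : Subgroup G33) = Q := rfl
  set M₁ := Subgroup.centralizer cI with hM₁
  set M₂ := Subgroup.normalizer ((Subgroup.closure sI : Subgroup G33) : Set G33) with hM₂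
  have hQ1 : Q ≤ M₁ := fun y hy => Subgroup.mem_centralizer_iff.2 fun x hx => hx.2.2 y hy
  have hQ2 : Q ≤ M₂ := fun g hg => mem_normalizer_of_gens fun y hy => by
    obtain ⟨x, hx, rfl, h2⟩ := hy
    refine Subgroup.subset_closure ⟨g * x * g⁻¹, mul_mem (mul_mem hg hx) (inv_mem hg), by group, ?_⟩
    rw [show g * (x * x) * g⁻¹ * (g * (x * x) * g⁻¹) = g * (x * x * (x * x)) * g⁻¹ by group, h2]
    group
  have hzM : gW [0, 0] ∈ Subgroup.closure sI := Subgroup.subset_closure ⟨gE 0, gE_mem_Q.1,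
    by simp [gW], z_mem.1.2.1⟩
  refine pminTwo_of (MulEquiv.refl G33) S (M₁ := M₁) (M₂ := M₂) (hSQ ▸ hQ1) (hSQ ▸ hQ2) ?_ ?_ ?_ ?_
  · intro e
    have h1 : gW [0, 0] ∈ Subgroup.center G33 := Subgroup.mem_center_iff.2 fun g =>
      (Subgroup.mem_centralizer_iff.1 (e.ge (Subgroup.mem_top g)) _ z_mem.1).symm
    rw [center_bot, Subgroup.mem_bot] at h1
    exact z_mem.2 h1
  · intro e
    have hn : (Subgroup.closure sI).Normal := Subgroup.normalizer_eq_top_iff.1 e
    rcases hn.eq_bot_or_eq_top with h | h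
    · rw [h, Subgroup.mem_bot] at hzM
      exact z_mem.2 hzM
    · have hle : Subgroup.closure sI ≤ Q := (Subgroup.closure_le _).2 (by
        rintro _ ⟨x, hx, rfl, -⟩; exact mul_mem hx hx)
      have h3 := card_Q
      have hQ : Q = ⊤ := top_le_iff.1 (h.ge.trans hle)
      rw [hQ, Subgroup.card_top, card33] at h3
      norm_num at h3
  · refine gens_top fun a => ?_
    by_cases h4 : a = 4
    · subst h4
      exact Subgroup.mem_sup_left (Subgroup.mem_centralizer_iff.2 fun x hx => (cI_conj hx).symm)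
    by_cases h3 : a = 3
    · subst h3
      exact Subgroup.mem_sup_right (mem_normalizer_of_gens fun y hy => Subgroup.subset_closure (sI_conj hy))
    have ha : a = 0 ∨ a = 1 ∨ a = 2 := by omega
    refine Subgroup.mem_sup_left (hQ1 ?_)
    rcases ha with rfl | rfl | rfl
    exacts [gE_mem_Q.1, gE_mem_Q.2.1, gE_mem_Q.2.2]
  · intro α hα
    rw [hSQ] at hα
    have hmem : ∀ x, α x ∈ Q ↔ x ∈ Q := fun x => by
      conv_lhs => rw [← hα]
      exact ⟨fun ⟨y, hy, e⟩ => α.injective e ▸ hy, fun h => ⟨x, h, rfl⟩⟩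
    have hpre : ∀ x ∈ Q, ∃ y ∈ Q, α y = x := fun x hx => ⟨α.symm x, (hmem _).1 (by simpa using hx), by simp⟩
    refine ⟨?_, ?_⟩
    · rintro _ ⟨g, hg, rfl⟩
      refine Subgroup.mem_centralizer_iff.2 fun x hx => ?_
      obtain ⟨y, hy, rfl⟩ := hpre x hx.1
      have hy' : y ∈ cI := ⟨hy, α.injective (by rw [map_mul, map_one]; exact hx.2.1), fun w hw =>
        α.injective (by rw [map_mul, map_mul]; exact hx.2.2 _ ((hmem w).2 hw))⟩
      show α y * α g = α g * α y
      rw [← map_mul, ← map_mul]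
      exact congrArg α (Subgroup.mem_centralizer_iff.1 hg y hy')
    · rintro _ ⟨g, hg, rfl⟩
      refine mem_normalizer_of_gens fun y hy => ?_
      obtain ⟨x, hx, rfl, h2⟩ := hy
      obtain ⟨w, hw, rfl⟩ := hpre x hx
      have hw' : w * w ∈ sI := ⟨w, hw, rfl, α.injective (by
        rw [map_one, map_mul, map_mul]; exact h2)⟩
      have h3 := (Subgroup.mem_normalizer_iff.1 hg (w * w)).1 (Subgroup.subset_closure hw')
      have h4 : (Subgroup.closure sI).map α.toMonoidHom ≤ Subgroup.closure sI := by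
        rw [MonoidHom.map_closure]
        refine Subgroup.closure_mono ?_
        rintro _ ⟨_, ⟨v, hv, rfl, hv2⟩, rfl⟩
        exact ⟨α v, (hmem v).2 hv, map_mul α v v, by
          show α (v * v) * α (v * v) = 1
          rw [← map_mul, hv2, map_one]⟩
      show α g * (α w * α w) * (α g)⁻¹ ∈ _
      rw [← map_mul, ← map_inv, ← map_mul, ← map_mul]
      exact h4 ⟨_, h3, rfl⟩

end U33Inner

theorem u33_pmin {F : Type} [Field F] [Fintype F] (hF : Fintype.card F = 9) {G : Type*} [Group G]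
    (e : G ≃* Cfsg.PSU 3 F 3) : PMinTwo 2 G := by
  haveI : Fact (Nat.Prime 2) := ⟨Nat.prime_two⟩
  haveI : Finite HJ.U33.G33 := inferInstance
  let r : HJ.U33.F9 ≃+* F := FiniteField.ringEquivOfCardEq (by rw [HJ.U33.card_F9, hF]; rfl)
  let f := HJ.U33.toPSU.trans ((UnitaryOrthogonal.psuCongr r).trans e.symm)
  obtain ⟨U₀⟩ : Nonempty (Sylow 2 HJ.U33.G33) := inferInstance
  obtain ⟨M₁, M₂, h1, h2, n1, n2, hs, hinv⟩ := U33Inner.g33_two U₀
  exact pminTwo_of f U₀ h1 h2 n1 n2 hs hinv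

end Cfsg.Agent.LieStruct
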